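import Mathlib
import Cfsg.Agent.H29.BM.G0

set_option autoImplicit false
set_option maxRecDepth 100000
set_option Elab.async false
set_option linter.all false

namespace H29.BM

open H19 H29.BE H29.BP H29.BP.Dat

def ngr (a : ℕ → ℕ) (i : ℕ) : ℕ := Nat.sub 256 (a i)
theorem nv0 : cV2 (xq 2048 false) (wr 0) (sxr 1) (ngr (syr 1)) [23, 21, 19, 17, 13, 11, 10, 9, 8, 5, 3, 1, 30, 33, 34, 37, 28, 29, 28, 28, 28, 29, 28, 29, 29, 28, 29, 29, 28, 28, 28, 29, 28, 29, 25, 23, 22, 20, 19, 18, 16, 15, 14, 12, 11, 8, 6, 5, 3, 0, 31, 38, 39, 29, 28, 28, 28, 29, 28, 28, 29, 29, 29, 29, 28, 28, 29, 29, 28, 28, 28, 24, 29, 24, 29, 29, 36, 24, 28, 36] [] = true := by decide +kernel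
theorem nf0 : cV (wr 0) (wr 0) (pw (cl 2048 ^^^ zb false)) [] = true := by decide +kernel
theorem nv1 : cV2 (xq 2048 true) (wr 0) (sxr 1) (ngr (syr 1)) [23, 21, 19, 17, 13, 11, 10, 9, 8, 5, 3, 1, 30, 33, 34, 37, 28, 29, 28, 28, 28, 29, 28, 29, 29, 28, 29, 29, 28, 28, 28, 29, 28, 29, 25, 23, 22, 20, 19, 17, 16, 10, 8, 6, 2, 1, 31, 32, 36, 38, 39, 28, 28, 28, 29, 29, 29, 28, 28, 29, 28, 29, 29, 29, 28, 28, 28, 28, 29, 29, 28, 28, 29, 24, 29, 24, 29, 29, 36, 24, 28, 36] [] = true := by decide +kernel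
theorem nf1 : cV (wr 0) (wr 0) (pw (cl 2048 ^^^ zb true)) [] = true := by decide +kernel
theorem nv2 : cV2 (xq 2052 false) (wr 0) (sxr 4) (ngr (syr 4)) [23, 23, 22, 20, 19, 17, 16, 15, 13, 12, 9, 8, 6, 5, 4, 3, 32, 34, 36, 29, 29, 28, 28, 28, 28, 29, 28, 29, 28, 28, 29, 29, 28, 29, 29, 29, 24, 29, 24, 29, 29, 28, 28, 36, 29, 29, 28] [] = true := by decide +kernel
theorem nv3 : cV2 (xq 2052 true) (wr 0) (sxr 4) (syr 4) [23, 22, 21, 20, 18, 17, 16, 15, 13, 11, 8, 7, 6, 4, 2, 1, 30, 32, 33, 35, 36, 37, 39, 29, 29, 28, 29, 29, 28, 29, 29, 29, 28, 28, 29, 28, 28, 28, 28, 28, 28, 29, 24, 29, 29, 24, 35, 29, 28, 28, 29] [] = true := by decide +kernel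
theorem nv4 : cV2 (xq 4304 false) (wr 0) (sxr 0) (syr 0) [] [] = true := by decide +kernel
theorem nv5 : cV2 (xq 4304 true) (wr 0) (sxr 1) (syr 1) [0] [] = true := by decide +kernel
theorem nf5 : cV (wr 0) (wr 0) (pw (cl 4304 ^^^ zb true)) [] = true := by decide +kernel
theorem nv6 : cV2 (xq 2048 false) (wr 1) (sxr 4) (syr 4) [23, 22, 19, 13, 12, 11, 4, 32, 35, 37, 39, 28, 28, 28, 29, 29, 29, 28, 28, 28, 29, 29, 29, 28, 29, 29, 29, 29, 28, 24, 29, 28, 29, 24, 37, 25, 23, 22, 20, 16, 15, 14, 12, 8, 5, 4, 2, 1, 31, 35, 36, 39, 28, 28, 28, 28, 29, 28, 29, 29, 28, 29, 28, 29, 29, 28, 29, 28, 29, 28, 29, 29, 24, 29, 29, 29, 29, 24, 39] [] = true := by decide +kernel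
theorem nv7 : cV2 (xq 2048 true) (wr 1) (sxr 4) (syr 4) [20, 19, 17, 15, 14, 13, 12, 11, 6, 5, 2, 1, 30, 31, 32, 34, 35, 37, 38, 28, 29, 29, 28, 29, 28, 28, 29, 29, 29, 28, 28, 28, 29, 28, 29, 28, 28, 29, 24, 29, 29, 28, 24, 29, 29, 28, 32, 25, 22, 20, 19, 15, 14, 8, 5, 4, 0, 30, 31, 35, 36, 38, 28, 29, 29, 29, 28, 29, 28, 28, 29, 29, 29, 28, 28, 28, 28, 24, 29, 29, 29, 29, 24, 39] [] = true := by decide +kernel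
theorem nv8 : cV2 (xq 3072 false) (wr 1) (sxr 1) (syr 1) [21, 19, 17, 13, 11, 10, 9, 8, 5, 3, 1, 30, 33, 34, 37, 28, 29, 28, 28, 28, 29, 28, 29, 29, 28, 29, 29, 28, 28, 28, 29, 28, 29, 25, 23, 22, 21, 14, 12, 11, 9, 4, 3, 2, 1, 30, 31, 32, 29, 29, 28, 29, 28, 29, 28, 29, 28, 29, 28, 29, 29, 29, 28, 28, 28, 29, 28, 29, 24, 29, 29, 28, 24, 33, 29, 29, 28, 29, 29, 25, 21, 20, 18, 15, 14, 10, 8, 5, 1, 33, 34, 35, 36, 28, 29, 29, 28, 29, 28, 29, 28, 29, 28, 28, 29, 29, 28, 29, 28, 29, 28, 29, 29, 29, 24, 29, 29, 28, 29, 28, 29] [] = true := by decide +kernel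
theorem nf8 : cV (wr 1) (wr 1) (pw (cl 3072 ^^^ zb false)) [] = true := by decide +kernel
theorem nv9 : cV2 (xq 3072 true) (wr 1) (sxr 1) (ngr (syr 1)) [23, 21, 19, 17, 13, 11, 10, 9, 8, 5, 3, 1, 30, 33, 34, 37, 28, 29, 28, 28, 28, 29, 28, 29, 29, 28, 29, 29, 28, 28, 28, 29, 28, 29, 25, 19, 16, 15, 14, 10, 5, 2, 0, 32, 34, 36, 37, 29, 29, 29, 29, 29, 28, 28, 29, 29, 29, 28, 28, 28, 28, 28, 29, 29, 24, 29, 29, 30, 24, 28, 28, 29, 34, 28, 25, 20, 19, 14, 11, 9, 8, 30, 32, 33, 35, 37, 39, 28, 29, 28, 28, 29, 29, 28, 29, 28, 28, 28, 29, 29, 29, 28, 28, 29, 28, 28, 28, 24, 28, 29, 29, 28, 28, 31] [] = true := by decide +kernel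
theorem nf9 : cV (wr 1) (wr 1) (pw (cl 3072 ^^^ zb true)) [] = true := by decide +kernel
theorem nv10 : cV2 (xq 3184 false) (wr 1) (sxr 2) (syr 2) [] [] = true := by decide +kernel
theorem nv11 : cV2 (xq 3184 true) (wr 1) (sxr 2) (syr 2) [22, 21, 20, 19, 18, 17, 14, 12, 6, 5, 4, 32, 33, 34, 35, 37, 39, 28, 28, 29, 28, 28, 29, 29, 28, 29, 28, 29, 28, 29, 29, 29, 29, 28, 29, 28] [] = true := by decide +kernel
theorem nv12 : cV2 (xq 2048 false) (wr 2) (sxr 3) (syr 3) [] [] = true := by decide +kernel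
theorem nv13 : cV2 (xq 2048 true) (wr 2) (sxr 3) (syr 3) [23, 21, 16, 14, 28, 28, 28, 29, 29, 28, 28, 28, 28, 29, 28, 29, 28, 28, 28, 28, 29, 29, 29] [] = true := by decide +kernel
theorem nv14 : cV2 (xq 3072 false) (wr 2) (sxr 4) (syr 4) [23, 22, 19, 13, 12, 11, 4, 32, 35, 37, 39, 28, 28, 28, 29, 29, 29, 28, 28, 28, 29, 29, 29, 28, 29, 29, 29, 29, 28, 24, 29, 28, 29, 24, 37, 25, 23, 22, 20, 14, 12, 11, 9, 8, 7, 3, 1, 32, 33, 34, 37, 38, 39, 28, 28, 29, 28, 28, 29, 29, 28, 28, 29, 28, 29, 29, 29, 29, 28, 29, 29, 28, 24, 29, 29, 24, 29, 29, 28, 33, 25, 23, 21, 20, 19, 13, 12, 9, 5, 4, 1, 30, 32, 33, 34, 35, 36, 37, 38, 39, 28, 28, 29, 28, 28, 28, 29, 28, 29, 28, 29, 29, 28, 28, 24] [] = true := by decide +kernel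
theorem nv15 : cV2 (xq 3072 true) (wr 2) (sxr 4) (syr 4) [23, 22, 19, 13, 12, 11, 4, 32, 35, 37, 39, 28, 28, 28, 29, 29, 29, 28, 28, 28, 29, 29, 29, 28, 29, 29, 29, 29, 28, 24, 29, 28, 29, 24, 37, 25, 17, 14, 13, 12, 11, 10, 7, 4, 1, 30, 33, 35, 36, 37, 39, 29, 28, 28, 28, 28, 29, 28, 29, 28, 29, 28, 28, 28, 28, 29, 28, 29, 28, 28, 29, 24, 29, 29, 24, 33, 35, 25, 20, 19, 18, 16, 15, 13, 8, 7, 4, 3, 2, 0, 31, 33, 35, 36, 38, 29, 28, 28, 28, 29, 29, 29, 28, 28, 28, 28, 28, 28, 29, 28, 28, 29, 24, 29, 29, 29, 29] [] = true := by decide +kernel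
theorem nv16 : cV2 (xq 4304 false) (wr 2) (sxr 1) (ngr (syr 1)) [23, 21, 19, 17, 13, 11, 10, 9, 8, 5, 3, 1, 30, 33, 34, 37, 28, 29, 28, 28, 28, 29, 28, 29, 29, 28, 29, 29, 28, 28, 28, 29, 28, 29, 25, 23, 22, 21, 20, 19, 18, 17, 15, 14, 13, 12, 9, 7, 6, 3, 2, 0, 30, 31, 32, 33, 34, 35, 36, 28, 28, 28, 29, 29, 29, 29, 29, 28, 28, 29, 29, 28, 28, 28, 29, 28, 28, 28, 28, 28, 29, 24, 29, 24, 29, 28, 24, 29, 35, 25, 22, 6, 2, 1] [] = true := by decide +kernel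
theorem nf16 : cV (wr 2) (wr 2) (pw (cl 4304 ^^^ zb false)) [] = true := by decide +kernel
theorem nv17 : cV2 (xq 4304 true) (wr 2) (sxr 4) (ngr (syr 4)) [23, 21, 19, 17, 15, 14, 13, 12, 9, 8, 7, 4, 3, 2, 30, 31, 32, 36, 28, 28, 28, 28, 29, 28, 29, 28, 29, 29, 28, 29, 29, 29, 29, 29, 28, 28, 29, 24, 29, 28, 29, 28, 28, 28, 29, 28, 25, 9, 3, 0] [] = true := by decide +kernel
theorem nv18 : cV2 (xq 2048 false) (wr 3) (sxr 4) (ngr (syr 4)) [23, 23, 22, 19, 13, 12, 11, 4, 32, 35, 37, 39, 28, 28, 28, 29, 29, 29, 28, 28, 28, 29, 29, 29, 28, 29, 29, 29, 29, 28, 24, 29, 28, 29, 24, 37, 25, 21, 20, 17, 14, 11, 9, 8, 4, 2, 1, 0, 30, 31, 32, 33, 34, 37, 29, 28, 28, 29, 29, 28, 28, 28, 28, 28, 29, 29, 28, 28, 28, 29, 29, 29, 28, 29, 24, 29, 29, 24, 32, 35, 29, 24, 37, 25, 23, 22, 19, 18, 16, 15, 13, 12, 11, 8, 6, 4, 3, 1, 31, 34,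 35, 36, 38, 28, 28, 28, 28, 29, 29, 29, 28, 28, 28, 28, 28, 29, 29, 28, 29, 28, 29, 28, 29, 24, 29, 29, 29, 29, 24, 39] [] = true := by decide +kernel
theorem nv19 : cV2 (xq 2048 true) (wr 3) (sxr 4) (ngr (syr 4)) [23, 23, 22, 19, 13, 12, 11, 4, 32, 35, 37, 39, 28, 28, 28, 29, 29, 29, 28, 28, 28, 29, 29, 29, 28, 29, 29, 29, 29, 28, 24, 29, 28, 29, 24, 37, 25, 23, 21, 20, 19, 15, 14, 12, 11, 8, 7, 6, 5, 1, 30, 33, 37, 28, 29, 29, 28, 28, 28, 29, 29, 29, 29, 29, 28, 29, 28, 29, 28, 29, 29, 29, 24, 29, 29, 28, 24, 29, 29, 34, 24, 25, 23, 22, 20, 18, 16, 15, 14, 13, 11, 8, 7, 6, 5, 1, 0, 31, 32, 33, 38, 28, 28, 28, 28, 29, 28, 28, 29, 29, 29, 28, 29, 28, 28, 29, 29, 29, 29, 29, 28, 24, 29, 29, 29, 29, 24, 39] [] = true := by decide +kernel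
theorem nv20 : cV2 (xq 3072 false) (wr 3) (sxr 2) (ngr (syr 2)) [23, 23, 21, 19, 16, 14, 13, 10, 9, 8, 6, 4, 1, 0, 30, 33, 35, 36, 37, 38, 29, 29, 29, 29, 28, 28, 29, 28, 28, 29, 28, 29, 29, 28, 29, 29, 29, 28, 24, 28, 24, 35, 29, 28, 29, 29, 34, 25, 23, 21, 20, 18, 16, 15, 12, 9, 8, 5, 2, 31, 32, 33, 34, 35, 37, 39, 28, 28, 28, 29, 28, 29, 29, 28, 28, 29, 29, 29, 28, 29, 28, 28, 29, 29, 28, 24, 29, 28, 29, 28, 28, 35] [] = true := by decide +kernel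
theorem nv21 : cV2 (xq 3072 true) (wr 3) (sxr 4) (syr 4) [23, 22, 19, 13, 12, 11, 4, 32, 35, 37, 39, 28, 28, 28, 29, 29, 29, 28, 28, 28, 29, 29, 29, 28, 29, 29, 29, 29, 28, 24, 29, 28, 29, 24, 37, 25, 22, 20, 18, 17, 16, 12, 11, 8, 7, 6, 4, 3, 2, 1, 30, 31, 32, 33, 38, 39, 28, 28, 29, 29, 28, 29, 29, 28, 28, 28, 29, 28, 28, 28, 28, 24, 29, 29, 24, 32, 35, 25, 21, 20, 19, 18, 17, 13, 11, 10, 8, 5, 4, 3, 2, 30, 31, 35, 36, 37, 38, 28, 29, 29, 28, 29, 28, 28, 28, 28, 29, 28, 29, 29, 29, 29, 29, 29, 28, 24, 28, 28, 29, 29, 29, 28, 29, 28] [] = true := by decide +kernel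
theorem nv22 : cV2 (xq 3184 false) (wr 3) (sxr 3) (syr 3) [22, 20, 18, 14, 11, 9, 8, 2, 30, 32, 33, 35, 38, 28, 28, 28, 28, 28, 29, 28, 29, 29, 28, 29, 29, 28, 29, 29, 28, 29, 28, 29, 29, 24, 29, 24, 29, 29, 28, 28, 29, 39, 28, 25, 23, 22, 21, 18, 16, 14, 13, 12, 6, 3, 0, 33, 34, 38, 39, 29, 29, 28, 28, 29, 29, 29, 28, 28, 28, 28, 28, 29, 29, 24, 28, 29, 29, 28, 28, 28, 29, 28] [] = true := by decide +kernel
theorem nv23 : cV2 (xq 3184 true) (wr 3) (sxr 3) (ngr (syr 3)) [23, 23, 20, 19, 18, 13, 11, 9, 6, 5, 3, 2, 0, 31, 33, 34, 36, 37, 38, 39, 28, 28, 28, 28, 28, 29, 29, 29, 29, 29, 28, 29, 29, 28, 28, 29, 29, 28, 28, 28, 29, 24, 28, 24, 38, 29, 29, 29, 29, 29, 37, 25, 19, 17, 16, 15, 14, 13, 10, 9, 8, 6, 2, 1, 30, 31, 32, 33, 37, 28, 29, 28, 29, 28, 29, 29, 29, 29, 28, 28, 29, 29, 28, 29, 29, 29, 24, 29, 28, 28, 29,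 29, 28, 29, 29, 28] [] = true := by decide +kernel
theorem nv24 : cV2 (xq 2048 false) (wr 4) (sxr 3) (syr 3) [23, 20, 18, 16, 14, 12, 10, 8, 6, 5, 3, 2, 0, 30, 32, 36, 39, 28, 28, 29, 29, 29, 29, 29, 29, 29, 28, 28, 28, 28, 29, 29, 28, 29, 28, 24, 29, 24, 28, 35, 24, 36, 25, 19, 18, 16, 14, 12, 6, 4, 3, 2, 0, 30, 31, 32, 34, 38, 29, 29, 28, 29, 28, 29, 29, 29, 29, 28, 29, 29, 29, 28, 28, 29, 29, 28, 28, 24, 29, 29, 24, 29, 29, 30] [] = true := by decide +kernel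
theorem nv25 : cV2 (xq 2048 true) (wr 4) (sxr 4) (syr 4) [21, 19, 17, 15, 14, 13, 12, 9, 8, 7, 4, 3, 2, 30, 31, 32, 36, 28, 28, 28, 28, 29, 28, 29, 28, 29, 29, 28, 29, 29, 29, 29, 29, 28, 28, 29, 24, 29, 28, 29, 28, 28, 28, 29, 28, 25, 22, 21, 20, 18, 17, 16, 14, 13, 10, 7, 6, 3, 2, 31, 39, 29, 29, 29, 29, 24, 29, 29, 24, 29, 29, 29, 33, 29, 24, 25, 23, 22, 20, 17, 16, 14, 12, 8, 7, 4, 31, 38, 39, 29, 28, 28, 28, 29, 28, 28, 29, 29, 29, 29, 28, 28, 29, 29, 28, 28, 28, 24, 29, 24, 29, 29, 36, 24, 28, 36] [] = true := by decide +kernel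
theorem nv26 : cV2 (xq 2052 false) (wr 4) (sxr 4) (ngr (syr 4)) [23, 21, 19, 17, 15, 14, 13, 12, 9, 8, 7, 4, 3, 2, 30, 31, 32, 36, 28, 28, 28, 28, 29, 28, 29, 28, 29, 29, 28, 29, 29, 29, 29, 29, 28, 28, 29, 24, 29, 28, 29, 28, 28, 28, 29, 28, 25, 22, 21, 20, 18, 17, 16, 14, 13, 10, 7, 6, 3, 2, 31, 39, 29, 29, 29, 29, 24, 29, 29, 24, 29, 29, 29, 33, 29, 24, 25, 23, 21, 19, 18, 11, 8, 7, 5, 2, 0, 30, 35, 36, 37, 28, 29, 29, 29, 28, 28, 29, 29, 29, 28, 28, 29, 29, 28, 29, 28, 28, 29, 29, 24, 29, 29, 24, 28, 28, 24, 34, 35, 25, 22, 21, 18, 13, 12, 11, 10, 7, 6, 2, 31, 32, 35, 36, 37, 38, 39, 29, 28, 28, 28, 29, 29, 28, 28, 29, 29, 28, 28, 29, 29, 28, 28, 28, 29, 28, 29, 24, 28, 24, 28, 28, 29, 29, 28, 29, 29, 36, 29] [] = true := by decide +kernel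
theorem nv27 : cV2 (xq 2052 true) (wr 4) (sxr 4) (ngr (syr 4)) [23, 21, 19, 17, 15, 14, 13, 12, 9, 8, 7, 4, 3, 2, 30, 31, 32, 36, 28, 28, 28, 28, 29, 28, 29, 28, 29, 29, 28, 29, 29, 29, 29, 29, 28, 28, 29, 24, 29, 28, 29, 28, 28, 28, 29, 28, 25, 22, 21, 20, 18, 17, 16, 14, 13, 10, 7, 6, 3, 2, 31, 39, 29, 29, 29, 29, 24, 29, 29, 24, 29, 29, 29, 33, 29, 24, 25, 22, 19, 18, 16, 14, 11, 10, 9, 8, 7, 6, 5, 3, 2, 32, 33, 34, 35, 37, 38, 39, 29, 28, 28, 29, 28, 29, 29, 28, 28, 28, 29, 28, 28, 29, 28, 28, 28, 28, 29, 24, 29, 24, 34, 29, 34, 28, 24, 29, 25, 23, 20, 19, 18, 17, 11, 8, 7, 6, 5, 4, 0, 30, 31, 35, 36, 39, 28, 29, 28, 29, 29, 29, 29, 29, 29, 28, 28, 28, 28, 29, 29, 28, 29, 24, 28, 28, 24, 35, 29, 29, 28, 29, 29, 29] [] = true := by decide +kernel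
theorem nv28 : cV2 (xq 4304 false) (wr 4) (sxr 3) (ngr (syr 3)) [23, 23, 22, 20, 18, 15, 6, 5, 30, 32, 35, 37, 38, 28, 29, 28, 29, 28, 28, 28, 29, 29, 28, 28, 28, 28, 29, 29, 28, 24, 29, 29, 29, 29, 24, 29, 28, 24, 25, 23, 20, 17, 15, 14, 6, 4] [] = true := by decide +kernel
theorem nv29 : cV2 (xq 4304 true) (wr 4) (sxr 1) (ngr (syr 1)) [23, 21, 19, 17, 13, 11, 10, 9, 8, 5, 3, 1, 30, 33, 34, 37, 28, 29, 28, 28, 28, 29, 28, 29, 29, 28, 29, 29, 28, 28, 28, 29, 28, 29, 25, 23, 22, 21, 20, 19, 18, 17, 15, 14, 13, 12, 9, 7, 6, 3, 2, 0, 30, 31, 32, 33, 34, 35, 36, 28, 28, 28, 29, 29, 29, 29, 29, 28, 28, 29, 29, 28, 28, 28, 29, 28, 28, 28, 28, 28, 29, 24, 29, 24, 29, 28, 24, 29, 35, 25, 22, 21, 20, 18, 15, 14, 13, 12, 11, 10, 5, 2, 1, 0, 31, 32, 33, 35, 37, 38, 39, 28, 29, 29, 29, 28, 29, 28, 29, 28, 29, 29, 29, 29, 29, 28,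 28, 29, 28, 24, 29, 24, 29, 28, 24, 39, 29, 33, 25, 16, 14, 13, 12, 8, 3, 2, 1, 0] [] = true := by decide +kernel
theorem nf29 : cV (wr 4) (wr 4) (pw (cl 4304 ^^^ zb true)) [] = true := by decide +kernel

end H29.BM
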