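import Mathlib
import Cfsg.Agent.H29.BM.G0

set_option autoImplicit false
set_option maxRecDepth 100000
set_option Elab.async false
set_option linter.all false

namespace H29.BM

open H19 H29.BE H29.BP H29.BP.Dat

theorem dv0_0_0 : cV (wr 0) (wr 0) ([] ++ 25 :: []) [] = true := by decide +kernel
theorem dv0_0_1 : cV (wr 0) (wr 0) ([] ++ 25 :: 10 :: []) [] = true := by decide +kernel
theorem dv0_1_0 : cV (wr 0) (wr 1) ([23, 20, 3, 2, 28, 28, 28, 29, 29, 29, 29, 29, 29, 29, 29, 29] ++ 25 :: [24, 28]) [] = true := by decide +kernel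
theorem dv0_1_1 : cV (wr 0) (wr 1) ([23, 3, 2, 28, 28, 28, 29, 29, 29, 29, 29, 29, 29, 29, 29] ++ 25 :: 10 :: [24, 28]) [] = true := by decide +kernel
theorem dv0_2_0 : cV (wr 0) (wr 2) ([23, 8, 5, 3, 2, 0] ++ 25 :: [24, 28, 24, 28]) [] = true := by decide +kernel
theorem dv0_2_1 : cV (wr 0) (wr 2) ([23, 8, 5, 3, 2, 0] ++ 25 :: 10 :: [24, 28, 24, 28]) [] = true := by decide +kernel
theorem dv1_0_0 : cV (wr 1) (wr 0) ([15, 14, 13, 12, 11, 37, 29, 29, 29, 28, 29, 28, 29, 29, 29, 28, 29, 28, 29, 29, 24] ++ 25 :: []) [] = true := by decide +kernel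
theorem dv1_0_1 : cV (wr 1) (wr 1) ([10] ++ 25 :: 10 :: []) [] = true := by decide +kernel
theorem dv1_1_0 : cV (wr 1) (wr 1) ([22, 19, 17, 14, 13, 10, 8, 5, 2, 1, 0, 30, 31, 33, 34, 37, 38, 28, 29, 28, 28, 28, 28, 29, 29, 28, 28, 29, 29, 28, 28, 29, 29, 28, 28, 24, 28, 28, 29, 28, 29] ++ 25 :: [24, 28]) [] = true := by decide +kernel
theorem dv1_1_1 : cV (wr 1) (wr 1) ([20, 10, 3, 2, 1, 28, 28, 28, 28, 28, 29, 29, 29, 29, 29, 29, 24] ++ 25 :: 10 :: [24, 28]) [] = true := by decide +kernel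
theorem dv1_2_0 : cV (wr 1) (wr 2) ([23, 22, 21, 14, 13, 11, 10, 7, 3, 0, 32, 36, 28, 29, 28, 29, 28, 29, 29, 29, 28, 28, 28, 28, 28, 29, 29, 28, 28, 24, 37] ++ 25 :: [24, 29, 28]) [] = true := by decide +kernel
theorem dv1_2_1 : cV (wr 1) (wr 2) ([10, 8, 7, 2, 0, 24] ++ 25 :: 10 :: [24, 29, 28]) [] = true := by decide +kernel
theorem dv1_3_0 : cV (wr 1) (wr 3) ([23, 20, 18, 17, 16, 10, 8, 7, 4, 3, 29, 29, 29, 29, 29, 29] ++ 25 :: [24, 28, 24, 28]) [] = true := by decide +kernel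
theorem dv1_3_1 : cV (wr 1) (wr 3) ([22, 19, 18, 17, 10, 8, 7, 4, 3, 29, 29, 29, 29, 29, 29] ++ 25 :: 10 :: [24, 28, 24, 28]) [] = true := by decide +kernel
theorem dv2_0_0 : cV (wr 2) (wr 0) ([20, 19, 17, 15, 11, 8, 7, 6, 4, 1, 30, 31, 32, 33, 34, 38, 29, 28, 29, 28, 28, 28, 29, 29, 29, 28, 28, 28, 29, 28, 29, 29, 28, 28, 24, 28, 24, 35, 29, 28, 28, 32] ++ 25 :: []) [] = true := by decide +kernel
theorem dv2_0_1 : cV (wr 2) (wr 2) ([10] ++ 25 :: 10 :: []) [] = true := by decide +kernel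
theorem dv2_1_0 : cV (wr 2) (wr 1) ([23, 22, 21, 20, 16, 15, 13, 12, 11, 10, 8, 6, 5, 4, 0, 30, 31, 32, 35, 37, 38, 39, 28, 28, 28, 28, 29, 28, 29, 28, 29, 29, 29, 28, 28, 28, 28, 28, 29, 29, 28, 28, 24, 37] ++ 25 :: [24]) [] = true := by decide +kernel
theorem dv2_1_1 : cV (wr 2) (wr 2) ([22, 10, 9, 8, 7, 6, 5, 4, 3, 2, 24] ++ 25 :: 10 :: [24]) [] = true := by decide +kernel
theorem dv2_2_0 : cV (wr 2) (wr 3) ([23, 21, 20, 19, 18, 17, 11, 9, 5, 0, 30, 31, 32, 28, 28, 28, 29, 29, 29, 28, 29, 29, 28, 28, 28, 28, 29, 24, 37] ++ 25 :: [24, 28, 24]) [] = true := by decide +kernel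
theorem dv2_2_1 : cV (wr 2) (wr 3) ([23, 22, 19, 18, 16, 9, 8, 7, 3, 2, 28, 28, 29, 29, 29, 29, 29, 29, 29, 29, 24] ++ 25 :: 10 :: [24, 28, 24]) [] = true := by decide +kernel
theorem dv2_3_0 : cV (wr 2) (wr 2) ([23, 21, 20, 19, 17, 14, 10, 7, 6, 5, 0, 30, 31, 33, 36, 39, 28, 28, 28, 28, 29, 29, 29, 29, 28, 29, 29, 29, 29, 28, 29, 29, 28, 29, 24, 28, 28, 29, 29, 28, 24, 32, 39] ++ 25 :: [24, 29, 29, 24]) [] = true := by decide +kernel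
theorem dv2_3_1 : cV (wr 2) (wr 2) ([22, 20, 19, 15, 14, 13, 12, 9, 8, 7, 6, 4, 3, 1, 31, 32, 33, 37, 38, 29, 29, 29, 29, 28, 28, 28, 29, 29, 29, 28, 28, 28, 29, 24, 28, 29, 28, 29, 28, 30, 24, 35] ++ 25 :: 10 :: [24, 29, 29, 24]) [] = true := by decide +kernel
theorem dv2_4_0 : cV (wr 2) (wr 4) ([22, 21, 19, 18, 17, 16, 15, 9, 8, 5, 3, 1, 0, 37, 28, 28, 28, 28, 28, 28, 29, 29, 29, 29, 29, 29, 29, 29, 29] ++ 25 :: [24, 29, 24, 29, 24]) [] = true := by decide +kernel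
theorem dv2_4_1 : cV (wr 2) (wr 4) ([21, 18, 15, 13, 12, 9, 8, 5, 3, 1, 0, 37, 28, 28, 28, 28, 28, 28, 29, 29, 29, 29, 29, 29, 29, 29, 29] ++ 25 :: 10 :: [24, 29, 24, 29, 24]) [] = true := by decide +kernel
theorem dv3_0_0 : cV (wr 3) (wr 3) ([23] ++ 25 :: []) [] = true := by decide +kernel
theorem dv3_0_1 : cV (wr 3) (wr 1) ([23, 20, 18, 17, 16, 15, 12, 11, 10, 9, 7, 6, 2, 32, 33, 35, 36, 38, 39, 29, 28, 28, 28, 28, 29, 28, 28, 28, 28, 28, 29, 29, 28, 29, 28, 28, 29, 28, 24, 29, 29, 29, 24, 34] ++ 25 :: 10 :: []) [] = true := by decide +kernel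
theorem dv3_1_0 : cV (wr 3) (wr 3) ([23, 18, 17, 15, 14, 13, 9, 8, 7, 6, 4, 2, 1, 29, 28, 28, 28, 29, 29, 29, 29, 29, 28, 28, 29, 29, 28, 28, 28, 29, 24] ++ 25 :: [24, 28]) [] = true := by decide +kernel
theorem dv3_1_1 : cV (wr 3) (wr 2) ([23, 21, 20, 19, 18, 17, 14, 10, 9, 6, 3, 0, 31, 32, 33, 37, 38, 28, 28, 29, 29, 29, 28, 29, 28, 28, 29, 29, 29, 28, 28, 28, 28, 28, 29, 29, 28, 28, 24, 29, 29, 28, 29, 24, 35, 38] ++ 25 :: 10 :: [24, 28]) [] = true := by decide +kernel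
theorem dv3_2_0 : cV (wr 3) (wr 3) ([23, 22, 18, 17, 7, 6, 3, 1, 28, 28, 28, 28, 28, 24] ++ 25 :: [24, 29, 28]) [] = true := by decide +kernel
theorem dv3_2_1 : cV (wr 3) (wr 3) ([23, 22, 20, 19, 17, 16, 14, 13, 9, 8, 7, 6, 5, 2, 0, 30, 31, 32, 34, 36, 37, 38, 39, 28, 29, 29, 29, 29, 29, 29, 29, 29, 29, 24, 37] ++ 25 :: 10 :: [24, 29, 28]) [] = true := by decide +kernel
theorem dv3_3_0 : cV (wr 3) (wr 4) ([22, 21, 20, 19, 15, 14, 13, 12, 10, 7, 6, 5, 29, 28, 29, 29, 28, 29, 29, 28, 28, 28, 29, 29, 29, 28, 28, 28, 28, 24] ++ 25 :: [24, 28, 24, 28]) [] = true := by decide +kernel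
theorem dv3_3_1 : cV (wr 3) (wr 4) ([23, 22, 16, 13, 12, 11, 10, 9, 8, 7, 5, 3, 1, 31, 32, 33, 34, 35, 36, 38, 29, 28, 28, 28, 28, 28, 28, 29, 29, 28, 28, 28, 29, 28, 29, 28, 29, 29, 24, 29, 28, 28, 29, 28, 29, 28] ++ 25 :: 10 :: [24, 28, 24, 28]) [] = true := by decide +kernel
theorem dv4_0_0 : cV (wr 4) (wr 2) ([22, 21, 18, 17, 12, 10, 6, 5, 0, 30, 32, 33, 34, 35, 36, 39, 29, 29, 29, 29, 29, 29, 29, 29, 29, 28, 29, 29, 28, 28, 28, 29, 24, 29, 31, 24, 29, 24, 36, 28, 33] ++ 25 :: []) [] = true := by decide +kernel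
theorem dv4_0_1 : cV (wr 4) (wr 4) ([22, 20, 18, 15, 14, 10, 8, 7, 5, 0, 30, 37, 39, 29, 29, 29, 29, 29, 29, 29, 29] ++ 25 :: 10 :: []) [] = true := by decide +kernel
theorem dv4_1_0 : cV (wr 4) (wr 4) ([23, 22, 20, 18, 16, 14, 13, 11, 6, 5, 4, 2, 1, 31, 32, 33, 35, 36, 37, 29, 28, 28, 28, 28, 28, 28, 29, 28, 28, 28, 28, 29, 29, 29, 28, 29, 28, 28, 24, 28, 28, 29, 29, 28, 29, 29, 29, 30] ++ 25 :: [24, 28]) [] = true := by decide +kernel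
theorem dv4_1_1 : cV (wr 4) (wr 3) ([23, 22, 21, 18, 16, 14, 10, 7, 6, 5, 4, 3, 32, 34, 35, 37, 29, 28, 29, 28, 28, 29, 29, 29, 29, 29, 29, 28, 28, 29, 29, 28, 29, 28, 29, 24, 29, 29, 24, 33, 36] ++ 25 :: 10 :: [24, 28]) [] = true := by decide +kernel
theorem dv4_2_0 : cV (wr 4) (wr 4) ([19, 16, 15, 14, 12, 11, 9, 8, 4, 3, 2, 0, 31, 34, 37, 39, 28, 29, 28, 29, 29, 28, 28, 28, 29, 28, 28, 29, 28, 29, 29, 29, 29, 28, 28, 29, 24, 28, 29, 24, 37, 38, 34] ++ 25 :: [24, 28, 24, 28]) [] = true := by decide +kernel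
theorem dv4_2_1 : cV (wr 4) (wr 4) ([22, 20, 19, 18, 17, 14, 7, 5, 2, 0, 32, 33, 34, 35, 36, 37, 28, 28, 29, 28, 29, 28, 28, 29, 29, 29, 28, 28, 29, 28, 29, 28, 29, 24, 29, 24, 28, 29, 29, 28, 34, 29] ++ 25 :: 10 :: [24, 28, 24, 28]) [] = true := by decide +kernel

end H29.BM
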