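import Mathlib
import Cfsg.Agent.H29.BM.G0

set_option autoImplicit false
set_option maxRecDepth 100000
set_option Elab.async false
set_option linter.all false

namespace H29.BM

open H19 H29.BE H29.BP H29.BP.Dat

theorem tc0 : ev g [25, 0] = ev g ([22, 21, 11, 30, 32, 33, 34, 35, 39] ++ [25]) := eqF (by decide +kernel)
theorem tc1 : ev g [25, 1] = ev g ([21, 31, 33, 34, 35, 36, 37] ++ [25]) := eqF (by decide +kernel)
theorem tc2 : ev g [25, 2] = ev g ([12, 11, 30, 32, 35, 36, 37, 39] ++ [25]) := eqF (by decide +kernel)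
theorem tc3 : ev g [25, 3] = ev g ([22, 11, 31, 36, 37, 38] ++ [25]) := eqF (by decide +kernel)
theorem tc4 : ev g [25, 4] = ev g ([13, 12, 11, 33, 34, 36, 38, 39] ++ [25]) := eqF (by decide +kernel)
theorem tc5 : ev g [25, 5] = ev g ([22, 15, 14, 30, 33, 36, 38, 39] ++ [25]) := eqF (by decide +kernel)
theorem tc6 : ev g [25, 6] = ev g ([22, 13, 12, 11, 30, 35, 37, 39] ++ [25]) := eqF (by decide +kernel)
theorem tc7 : ev g [25, 7] = ev g ([22, 14, 13, 11, 32, 34, 37, 38] ++ [25]) := eqF (by decide +kernel)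
theorem tc8 : ev g [25, 8] = ev g ([22, 21, 13, 12, 11, 31, 34, 35, 36] ++ [25]) := eqF (by decide +kernel)
theorem tc9 : ev g [25, 9] = ev g ([22, 21, 19, 18, 13, 12, 30, 31, 32, 33] ++ [25]) := eqF (by decide +kernel)
theorem tc11 : ev g [25, 11] = ev g ([11] ++ [25]) := eqF (by decide +kernel)
theorem tc12 : ev g [25, 12] = ev g ([12] ++ [25]) := eqF (by decide +kernel)
theorem tc13 : ev g [25, 13] = ev g ([13] ++ [25]) := eqF (by decide +kernel)
theorem tc14 : ev g [25, 14] = ev g ([14] ++ [25]) := eqF (by decide +kernel)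
theorem tc15 : ev g [25, 15] = ev g ([15] ++ [25]) := eqF (by decide +kernel)
theorem tc16 : ev g [25, 16] = ev g ([16] ++ [25]) := eqF (by decide +kernel)
theorem tc17 : ev g [25, 17] = ev g ([17] ++ [25]) := eqF (by decide +kernel)

end H29.BM
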