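import Mathlib
import Cfsg.Agent.H29.BM.G0

set_option autoImplicit false
set_option maxRecDepth 100000
set_option Elab.async false
set_option linter.all false

namespace H29.BM

open H19 H29.BE H29.BP H29.BP.Dat

theorem tc18 : ev g [25, 18] = ev g ([18] ++ [25]) := eqF (by decide +kernel)
theorem tc19 : ev g [25, 19] = ev g ([19] ++ [25]) := eqF (by decide +kernel)
theorem tc20 : ev g [25, 20] = ev g ([20] ++ [25]) := eqF (by decide +kernel)
theorem tc21 : ev g [25, 21] = ev g ([22] ++ [25]) := eqF (by decide +kernel)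
theorem tc22 : ev g [25, 22] = ev g ([21] ++ [25]) := eqF (by decide +kernel)
theorem tc28 : ev g [25, 28] = ev g ([28] ++ [25]) := eqF (by decide +kernel)
theorem tc29 : ev g [25, 29] = ev g ([29] ++ [25]) := eqF (by decide +kernel)
theorem tc30 : ev g [25, 30] = ev g ([22, 21, 19, 18, 15, 12, 11, 9, 8, 7, 6, 5] ++ [25]) := eqF (by decide +kernel)
theorem tc31 : ev g [25, 31] = ev g ([22, 21, 19, 18, 13, 9, 8, 4, 3, 2] ++ [25]) := eqF (by decide +kernel)
theorem tc32 : ev g [25, 32] = ev g ([21, 19, 18, 14, 13, 11, 9, 7, 4, 1, 0] ++ [25]) := eqF (by decide +kernel)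
theorem tc33 : ev g [25, 33] = ev g ([15, 14, 13, 6, 5, 3, 2, 1, 0] ++ [25]) := eqF (by decide +kernel)
theorem tc34 : ev g [25, 34] = ev g ([19, 18, 14, 13, 9, 8, 7, 6, 4] ++ [25]) := eqF (by decide +kernel)
theorem tc35 : ev g [25, 35] = ev g ([22, 19, 18, 13, 12, 9, 8, 4, 3, 1, 0] ++ [25]) := eqF (by decide +kernel)
theorem tc36 : ev g [25, 36] = ev g ([22, 19, 18, 14, 11, 9, 7, 6, 4, 2, 1, 0] ++ [25]) := eqF (by decide +kernel)
theorem tc37 : ev g [25, 37] = ev g ([21, 15, 14, 12, 11, 8, 6, 5, 3, 2, 0] ++ [25]) := eqF (by decide +kernel)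
theorem tc38 : ev g [25, 38] = ev g ([22, 21, 15, 13, 12, 11, 7, 5, 3, 2, 1] ++ [25]) := eqF (by decide +kernel)
theorem tc39 : ev g [25, 39] = ev g ([21, 14, 11, 8, 7, 6, 4, 2, 1] ++ [25]) := eqF (by decide +kernel)

end H29.BM
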