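import Mathlib
import Cfsg.Agent.H29.BM.G0

set_option autoImplicit false
set_option maxRecDepth 100000
set_option Elab.async false
set_option linter.all false

namespace H29.BM

open H19 H29.BE H29.BP H29.BP.Dat

theorem tt : ev g [25, 25] = ev g [] := eqF (by decide +kernel)
theorem xx : ev g [24, 24] = ev g [] := eqF (by decide +kernel)
theorem tst : ev g [25, 10, 25] = ev g [10, 25, 10] := eqF (by decide +kernel)
theorem cm2 : ev g (pw (cl 3184) ++ 25 :: (pw (cl 3072) ++ [25])) = ev g (25 :: (pw (cl 3072) ++ 25 :: pw (cl 3184))) :=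
  eqF (by decide +kernel)
theorem t27 : BE.chkEq E S0 (sa 0) 7 16 2048 1024 [25] [27] = true := by decide +kernel
theorem tu : cV (wr 0) (wr 0) [25] [] = true := by decide +kernel
theorem tw1 : cV (xq 3072 false) (wr 1) [25] [] = true := by decide +kernel
theorem tw2 : cV (xq 2048 false) (wr 2) [25] [] = true := by decide +kernel
theorem ex3 : cN 5 [22, 20, 19, 17, 15, 14, 12, 10, 8, 3, 2, 25, 22, 20, 19, 17, 15, 14, 12, 10, 8, 3, 2, 25, 22, 20, 19, 17, 15, 14, 12, 10, 8, 3, 2, 25] [] = true := by decide +kernel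
theorem ex4 : cN 0 [22, 20, 19, 17, 15, 14, 12, 10, 8, 3, 2, 25, 22, 20, 19, 17, 15, 14, 12, 10, 8, 3, 2, 25, 22, 20, 19, 17, 15, 14, 12, 10, 8, 3, 2, 25, 22, 20, 19, 17, 15, 14, 12, 10, 8, 3, 2, 25] [] = true := by decide +kernel
def zr (a : ℕ → ℕ) (i : ℕ) : ℕ := @Bool.rec (fun _ => ℕ) (Nat.sub 256 (a i)) (a i) (Nat.ble 2048 i)
theorem zw0 : and2 (cV (wr 0) (zr (wr 0)) [22] []) (cB (wr 0) (zr (wr 0)) 7168 0) = true := by decide +kernel
theorem zw1 : and2 (cV (wr 1) (zr (wr 1)) [22] []) (cB (wr 1) (zr (wr 1)) 7168 0) = true := by decide +kernel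
theorem zw2 : and2 (cV (wr 2) (zr (wr 2)) [22] []) (cB (wr 2) (zr (wr 2)) 0 1024) = true := by decide +kernel
theorem zw3 : and2 (cV (wr 3) (zr (wr 3)) [22] []) (cB (wr 3) (zr (wr 3)) 1024 0) = true := by decide +kernel
theorem zw4 : and2 (cV (wr 4) (zr (wr 4)) [22] []) (cB (wr 4) (zr (wr 4)) 256 0) = true := by decide +kernel
theorem ip0 : cB (sxr 0) (syr 0) 7168 0 = true := by decide +kernel
theorem ip1 : cB (sxr 1) (syr 1) 0 1024 = true := by decide +kernel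
theorem ip2 : cB (sxr 2) (syr 2) 0 0 = true := by decide +kernel
theorem ip3 : cB (sxr 3) (syr 3) 256 0 = true := by decide +kernel
theorem ip4 : cB (sxr 4) (syr 4) 0 0 = true := by decide +kernel
theorem hw0_0 : cV (wr 0) (wr 0) [23, 21, 20, 19, 16, 15, 13, 12, 11, 9, 6, 5, 2, 31, 32, 33, 34, 36, 37, 38, 28, 28, 29, 28, 28, 28, 29, 29, 28, 28, 28, 28, 29, 29, 28, 29, 28, 29, 29, 28, 28, 24, 29, 29, 28, 30, 24, 28, 28, 29] [] = true := by decide +kernel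
theorem hw0_1 : cV (wr 0) (wr 0) [23, 21, 20, 18, 14, 13, 9, 7, 5, 4, 3, 30, 31, 34, 35, 37, 38, 39, 29, 29, 28, 28, 29, 28, 28, 29, 28, 28, 28, 29, 29, 29, 28, 28, 29, 29, 29, 28, 28, 24, 29, 29, 28, 28, 28, 29, 30] [] = true := by decide +kernel
theorem hw1_0 : cV (wr 1) (wr 1) [22, 20, 18, 17, 16, 14, 13, 12, 11, 9, 6, 4, 33, 35, 36, 39, 28, 28, 29, 28, 28, 28, 28, 29, 28, 28, 28, 29, 29, 28, 29, 28, 29, 29, 28, 29, 24, 29, 28, 29, 24, 35, 38] [] = true := by decide +kernel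
theorem hw1_1 : cV (wr 1) (wr 1) [23, 22, 21, 19, 17, 14, 13, 11, 8, 6, 5, 31, 32, 33, 34, 35, 37, 39, 29, 28, 29, 28, 29, 29, 29, 29, 29, 29, 29, 29, 29, 24, 29, 28, 29, 24, 36, 38] [] = true := by decide +kernel
theorem hw2_0 : cV (wr 2) (wr 2) [28] [] = true := by decide +kernel
theorem hw2_1 : cV (wr 2) (wr 2) [23, 29] [] = true := by decide +kernel
theorem hw2_2 : cV (wr 2) (wr 2) [22, 30] [] = true := by decide +kernel
theorem hw3_0 : cV (wr 3) (wr 3) [23, 20, 18, 17, 16, 14, 13, 12, 11, 9, 6, 2, 33, 35, 36, 39, 28, 28, 29, 28, 28, 28, 28, 29, 28, 28, 28, 29, 29, 28, 29, 28, 29, 29, 28, 29, 24, 29, 28, 29, 24, 35, 38] [] = true := by decide +kernel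
theorem hw3_1 : cV (wr 3) (wr 3) [22, 21, 20, 19, 17, 14, 13, 11, 10, 8, 6, 5, 3, 2, 1, 31, 32, 33, 34, 35, 37, 39, 29, 28, 29, 28, 29, 29, 29, 29, 29, 29, 29, 29, 29, 24, 29, 28, 29, 24, 36, 38] [] = true := by decide +kernel
theorem hw4_0 : cV (wr 4) (wr 4) [23, 21, 20, 19, 16, 15, 13, 12, 11, 9, 6, 5, 2, 31, 32, 33, 34, 36, 37, 38, 28, 28, 29, 28, 28, 28, 29, 29, 28, 28, 28, 28, 29, 29, 28, 29, 28, 29, 29, 28, 28, 24, 29, 29, 28, 30, 24, 28, 28, 29] [] = true := by decide +kernel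
theorem hw4_1 : cV (wr 4) (wr 4) [23, 21, 20, 18, 14, 13, 9, 7, 5, 4, 3, 30, 31, 34, 35, 37, 38, 39, 29, 29, 28, 28, 29, 28, 28, 29, 28, 28, 28, 29, 29, 29, 28, 28, 29, 29, 29, 28, 28, 24, 29, 29, 28, 28, 28, 29, 30] [] = true := by decide +kernel

end H29.BM
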