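import Mathlib
import Cfsg.Agent.H29.BM.C0
import Cfsg.Agent.H29.BM.C1
import Cfsg.Agent.H29.BM.C2
import Cfsg.Agent.H29.BM.K5
import Cfsg.Agent.H29.BM.K6

/-!
# The five orbits of axes: double cosets
-/

set_option autoImplicit false
set_option maxRecDepth 100000
set_option linter.all false

namespace H29.BM
open H19 H29.BE H29.BP H29.BP.Dat

noncomputable def t : GG := g 25
noncomputable def s : GG := g 10

theorem t_sq : t * t = 1 := by simpa [t] using tt
theorem t_inv : t⁻¹ = t := inv_eq_of_mul_eq_one_right t_sq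
theorem s_eq : s = D.P (2 ^ 10) := g_pau 10 (by omega)
theorem s_mem : s ∈ D.KK := s_eq ▸ D_ok.P_mem _
theorem s_sq : s * s = 1 := by
  have : ev g [10, 10] = ev g [] := eqM (by decide +kernel)
  simpa [s] using this
theorem t_t (x : VV) : t • t • x = x := by rw [← mul_smul, t_sq, one_smul]
theorem s_s (x : VV) : s • s • x = x := by rw [← mul_smul, s_sq, one_smul]

theorem tc_all : ∀ x ∈ tcl, ev g [25, x.1] = ev g (x.2 ++ [25]) := by
  simp only [tcl, List.forall_mem_cons]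
  exact ⟨tc0, tc1, tc2, tc3, tc4, tc5, tc6, tc7, tc8, tc9, tc11, tc12, tc13, tc14, tc15, tc16, tc17,
    tc18, tc19, tc20, tc21, tc22, tc28, tc29, tc30, tc31, tc32, tc33, tc34, tc35, tc36, tc37, tc38,
    tc39, fun _ h => absurd h List.not_mem_nil⟩

theorem tc_conj {c : ℕ} {k : List ℕ} (h : ev g [25, c] = ev g (k ++ [25])) :
    t * g c * t⁻¹ = ev g k := by
  rw [ev_append, ev_cons, ev_cons, ev_cons, ev_nil, mul_one, mul_one] at h
  rw [mul_inv_eq_iff_eq_mul]; exact h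

/-- The elements conjugated into `KK` by `t`. -/
noncomputable def TK : Subgroup GG := D.KK.comap (MulAut.conj t).toMonoidHom

theorem mem_TK {d : GG} : d ∈ TK ↔ t * d * t⁻¹ ∈ D.KK := Iff.rfl

def dm : ℕ := 1099276746751 - 1024 - 2 ^ 24

theorem bit_lt {m c n : ℕ} (hm : m < 2 ^ n) (hc : m.testBit c = true) : c < n := by
  by_contra h1
  rw [Nat.testBit_lt_two_pow (lt_of_lt_of_le hm (Nat.pow_le_pow_right (by omega) (by omega)))] at hc
  exact absurd hc (by simp)

theorem km_mem {w : List ℕ} (h : inM km w = true) : ev g w ∈ D.KK := Ctx.mem (C := C) h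

theorem dm_TK (c : ℕ) (hc : dm.testBit c = true) : g c ∈ TK := by
  by_cases c1 : c = 23
  · subst c1
    rw [mem_TK, g23, ← neg_one_comm, mul_inv_cancel_right]; exact neg_one_mem
  have h1 : ∀ c < 40, dm.testBit c = true → c ≠ 23 → ∃ x ∈ tcl, x.1 = c := by decide +kernel
  have h2 : allL tcl (fun x => inM km x.2) = true := by decide +kernel
  obtain ⟨x, hx, rfl⟩ := h1 c (bit_lt (by decide) hc) hc c1
  rw [mem_TK, tc_conj (tc_all x hx)]
  exact km_mem (allL_true.1 h2 x hx)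

theorem nm_TK (c : ℕ) (hc : nm.testBit c = true) (h : c ≠ 10) :
    g c ∈ TK ∧ s * g c * s⁻¹ ∈ TK := by
  have h0 : ∀ c < 40, nm.testBit c = true → c ≠ 10 → dm.testBit c = true := by decide +kernel
  have h1 : ∀ c < 40, nm.testBit c = true → c ≠ 10 → c ≠ 23 → ∃ x ∈ scl, x.1 = c := by
    decide +kernel
  have h2 : allL scl (fun x => and2 (inM dm x.2) (chkM E [10, x.1] (x.2 ++ [10]))) = true := by
    decide +kernel
  have hc' := bit_lt (n := 40) (by decide) hc
  refine ⟨dm_TK c (h0 c hc' hc h), ?_⟩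
  by_cases c1 : c = 23
  · subst c1
    rw [g23, ← neg_one_comm, mul_inv_cancel_right, ← g23]; exact dm_TK 23 (by decide)
  obtain ⟨x, hx, rfl⟩ := h1 c hc' hc h c1
  obtain ⟨a, b⟩ := and2_true.1 (allL_true.1 h2 x hx)
  have := eqM b
  rw [ev_append, ev_cons, ev_cons, ev_cons, ev_nil, mul_one, mul_one, ← mul_inv_eq_iff_eq_mul]
    at this
  rw [s, this]
  exact mem_of_inM dm_TK a

def XO (j : ℕ) : Set VV := MulAction.orbit D.KK (wv j)

theorem mem_XO {j : ℕ} {x : VV} : x ∈ XO j ↔ ∃ k ∈ D.KK, k • wv j = x :=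
  ⟨fun ⟨k, hk⟩ => ⟨k, k.2, hk⟩, fun ⟨k, hk, e⟩ => ⟨⟨k, hk⟩, e⟩⟩

theorem smul_XO {j : ℕ} {x : VV} {k : GG} (hk : k ∈ D.KK) : k • x ∈ XO j ↔ x ∈ XO j := by
  have : ∀ {x : VV} {k : GG}, k ∈ D.KK → x ∈ XO j → k • x ∈ XO j := fun {x k} hk hx => by
    obtain ⟨h, hh, rfl⟩ := mem_XO.1 hx
    exact mem_XO.2 ⟨k * h, D.KK.mul_mem hk hh, mul_smul _ _ _⟩
  exact ⟨fun h => by simpa using this (D.KK.inv_mem hk) h, this hk⟩

theorem wv_mem (j : ℕ) : wv j ∈ XO j := mem_XO.2 ⟨1, D.KK.one_mem, one_smul _ _⟩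

theorem TK_XO {d : GG} (hd : d ∈ TK) {j : ℕ} {x : VV} : t • d • x ∈ XO j ↔ t • x ∈ XO j := by
  rw [← smul_XO (x := t • x) (mem_TK.1 hd), smul_smul, smul_smul, inv_mul_cancel_right]

def Pair (a b : ℕ) (x : VV) : Prop :=
  (t • x ∈ XO a ∧ t • s • x ∈ XO b) ∨ (t • x ∈ XO b ∧ t • s • x ∈ XO a)

theorem pair_NN {a b : ℕ} {n : GG} (hn : n ∈ NN) : ∀ x, Pair a b (n • x) ↔ Pair a b x := by
  let S : Subgroup GG :=
    { carrier := {n | ∀ x, Pair a b (n • x) ↔ Pair a b x}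
      one_mem' := by simp
      mul_mem' := fun {m n} hm hn x => by rw [mul_smul, hm, hn]
      inv_mem' := fun {m} hm x => by rw [← hm, smul_inv_smul] }
  refine NN_le (H := S) (fun c hc x => ?_) hn
  by_cases c1 : c = 10
  · subst c1
    change Pair a b (s • x) ↔ _
    simp only [Pair, s_s]; tauto
  · obtain ⟨h1, h2⟩ := nm_TK c hc c1
    have : s • g c • x = (s * g c * s⁻¹) • s • x := by simp [mul_smul]
    simp only [Pair, this, TK_XO h1, TK_XO h2]

noncomputable def HW (j : ℕ) : Subgroup GG := D.KK ⊓ MulAction.stabilizer GG (wv j)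

def Dce (j : ℕ) (o : ℕ × ℕ × ℕ) : Prop := o.2.1 < 5 ∧ o.2.2 < 5 ∧ ∀ k ∈ D.KK, ∀ i,
  CRel D k 2097152 (val pls i) → o.1.testBit i = true → Pair o.2.1 o.2.2 (k • wv j)

theorem same_coset {k r : GG} (hk : k ∈ D.KK) (hr : r ∈ D.KK) {y : ℕ} (a : CRel D k 2097152 y)
    (b : CRel D r 2097152 y) : k * r⁻¹ ∈ NN :=
  stab_NN (D.KK.mul_mem hk (D.KK.inv_mem hr)) (a.mul (D.KK.inv_mem hr).comm (b.inv hr.comm))

theorem dce_of {j S a b p n : ℕ} {l : List Net} {r k0 k1 : List ℕ}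
    (hl : ∀ x ∈ l, ∃ h ∈ HW j, LNet D pls 46575 h x)
    (c1 : sub S (orbF (mapN l) n (bit p)) = true)
    (c2 : and2 (inM km r) (and2 (inM km k0) (and2 (inM km k1)
      (ceq (cw cm r 2097152) (val pls p)))) = true)
    (v0 : cV (wr j) (wr a) (k0 ++ 25 :: r) [] = true)
    (v1 : cV (wr j) (wr b) (k1 ++ 25 :: 10 :: r) [] = true) (ha : a < 5) (hb : b < 5) :
    Dce j (S, a, b) := by
  refine ⟨ha, hb, fun k hk i e hi => ?_⟩
  simp only [and2_true] at c2
  obtain ⟨d1, d2, d3, d4⟩ := c2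
  obtain ⟨h, hh, c⟩ := lcover (H := HW j) inf_le_left hl c1 i hi
  have hr := km_mem d1
  have hn := same_coset hk (D.KK.mul_mem hr hh.1) e
    ((Ctx.crel (C := C) d1 d4).mul hh.1.comm c)
  have e1 : k • wv j = (k * (ev g r * h)⁻¹) • ev g r • wv j := by
    rw [← mul_smul, mul_inv_rev, mul_assoc, mul_assoc, inv_mul_cancel, mul_one, mul_smul,
      (HW j).inv_mem hh |>.2]
  rw [e1, pair_NN hn]
  have a0 := cV_sound v0
  have a1 := cV_sound v1
  simp only [ev_append, ev_cons, ev_nil, one_smul, mul_smul] at a0 a1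
  exact Or.inl ⟨(smul_XO (km_mem d2)).1 (a0 ▸ wv_mem a), (smul_XO (km_mem d3)).1 (a1 ▸ wv_mem b)⟩

theorem hl_of {j M : ℕ} {w : List ℕ} {a : Net} (c : chkL pls 46575 M a = true)
    (c1 : chkLw km cm w M = true) (c2 : cV (wr j) (wr j) w [] = true) :
    ∃ h ∈ HW j, LNet D pls 46575 h a :=
  ⟨ev g w, ⟨km_mem (and2_true.1 c1).1, by simpa [wv] using cV_sound c2⟩, Ctx.lnet (C := C) c c1⟩

/-! ### The orbits are disjoint -/

theorem z_eq : D.z = g 22 := (g_pau 22 (by omega)).symm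

noncomputable def qz (x : VV) : ℚ := D.B x (D.z • x)

theorem qz_smul {k : GG} (hk : k ∈ D.KK) (x : VV) : qz (k • x) = qz x := by
  rw [qz, smul_smul, ← hk.comm, mul_smul, hk.iso]; rfl

theorem qz_of {j p q : ℕ} (h : and2 (cV (wr j) (zr (wr j)) [22] []) (cB (wr j) (zr (wr j)) p q) = true) :
    ∀ x ∈ XO j, qz x = (p : ℚ) - q := fun x hx => by
  obtain ⟨k, hk, rfl⟩ := mem_XO.1 hx
  obtain ⟨h1, h2⟩ := and2_true.1 h
  have := cV_sound h1
  simp only [ev_cons, ev_nil, mul_one, one_smul] at this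
  rw [qz_smul hk, qz, z_eq, wv, this, cB_sound h2]

theorem wv0 : wv 0 = ax (16 * 4304) false := vc_xq (by omega) false
theorem p0 : pt 4304 := ⟨by omega, by omega⟩

theorem ext_ax {p : ℕ} (hp : dom p) (c : Bool) {i : ℕ} (hi : i < 4371) :
    ext (ax p c) i = ext (D.ph p) i + if i = p / 16 then sn c * 64 else 0 := by
  simp only [BP.x1, ext_add, ext_smul, Pi.add_apply, Pi.smul_apply, ext_bv hi, smul_eq_mul]
  split_ifs <;> simp

theorem ph_inA (p : ℕ) : InA (D.ph p) := fun i hi => by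
  rw [ph, ext_smul, Pi.smul_apply, D_ok.inA _ i hi, smul_zero]

theorem ax_inj {p q : ℕ} (hp : dom p) (hq : dom q) {c e : Bool} (h : ax p c = ax q e) :
    p = q ∧ c = e := by
  have h0 := hp.2.2
  have h1 := congrArg (fun v => ext v (p / 16)) h
  simp only [ext_ax hp c (show p / 16 < 4371 by omega), ext_ax hq e (show p / 16 < 4371 by omega),
    ph_inA _ _ h0, if_true, zero_add] at h1
  split_ifs at h1 with c1
  · obtain rfl : c = e := sn_inj (by linarith)
    rw [ax, ax, BP.x1, BP.x1, c1, add_left_inj] at h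
    exact ⟨D_ok.ph_inj tr hp hq h, rfl⟩
  · exact absurd h1 (mul_ne_zero (sn_ne c) (by norm_num))

theorem mem_X0 {x : VV} : x ∈ XO 0 ↔ ∃ p c, dom p ∧ x = ax p c := by
  rw [mem_XO, wv0]
  constructor
  · rintro ⟨k, hk, rfl⟩
    obtain ⟨q, hq, a⟩ := exists_ph hk (dom_even p0)
    obtain ⟨e, he⟩ := a.x1
    exact ⟨q, _, hq, he false⟩
  · rintro ⟨p, c, hp, rfl⟩
    obtain ⟨h, hh, a⟩ := trS p hp
    obtain ⟨e, he⟩ := a.x1
    have h1 : D.P 1 • ax (16 * 4304) false = ax (16 * 4304) true := by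
      have : sp 1 (D.cl 4304) = true := by
        rw [show D.cl 4304 = 2 ^ (11 + 0) by decide +kernel, sp_pow_hi _ (by omega)]; rfl
      rw [ax, ax, BP.x1, BP.x1, smul_add', (D_ok.rel_P 1 (dom_even p0)).1, smul_smul', smul_smul', div_even]
      change _ + _ • _ • PL D.cl 1 _ = _
      rw [PL_bv_pt _ _ p0.1 p0.2, this, smul_comm (64 : ℚ)]; simp
    by_cases c1 : c = e
    · exact ⟨h, hh, by rw [he, c1]; simp⟩
    · exact ⟨h * D.P 1, D.KK.mul_mem hh (D_ok.P_mem 1), by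
        rw [mul_smul, h1, he]; cases c <;> cases e <;> simp_all⟩

theorem X0_X1 {x : VV} (h0 : x ∈ XO 0) (h1 : x ∈ XO 1) : False := by
  obtain ⟨k, hk, rfl⟩ := mem_XO.1 h1
  obtain ⟨p, c, hp, e⟩ := mem_X0.1 ((smul_XO hk).1 h0)
  have h2 : allN 23 (fun j => Nat.beq (wr 1 (4348 + j)) 128) = true := by decide +kernel
  have h3 : D.ph p = 0 := eq_of_ext fun i hi => by
    rw [show ext (0 : VV) i = 0 by simp [ext]]
    by_cases c1 : i < 4348
    · exact ph_inA p i c1
    · have := congrArg (fun v => ext v i) e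
      have h4 := beq_true.1 (allN_true.1 h2 (i - 4348) (by omega))
      rw [show 4348 + (i - 4348) = i by omega] at h4
      simp only [ext_ax hp c hi, wv, vc, ext_vec _ hi, h4] at this
      rw [if_neg (by have := hp.2.2; omega)] at this
      norm_num at this
      exact this.symm
  obtain ⟨h, -, a, -⟩ := trS p hp
  rw [h3, ph_even, smul_eq_zero_iff_eq] at a
  exact D_ok.om_ne a

theorem XO_disj {a b : ℕ} (ha : a < 5) (hb : b < 5) {x : VV} (h1 : x ∈ XO a) (h2 : x ∈ XO b) :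
    a = b := by
  have q0 := qz_of zw0 x
  have q1 := qz_of zw1 x
  have q2 := qz_of zw2 x
  have q3 := qz_of zw3 x
  have q4 := qz_of zw4 x
  interval_cases a <;> interval_cases b <;>
    first | rfl | exact (X0_X1 h1 h2).elim | exact (X0_X1 h2 h1).elim |
      (exfalso
       first | have a := q0 h1 | have a := q1 h1 | have a := q2 h1 | have a := q3 h1 | have a := q4 h1
       first | have b := q0 h2 | have b := q1 h2 | have b := q2 h2 | have b := q3 h2 | have b := q4 h2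
       rw [a] at b; norm_num at b)

/-! ### Counting -/

noncomputable def un (f : ℕ → ℕ → Bool) (os : List (ℕ × ℕ × ℕ)) : ℕ :=
  List.rec (motive := fun _ => ℕ) 0
    (fun o _ ih => @Bool.rec (fun _ => ℕ) ih (Nat.lor o.1 ih) (f o.2.1 o.2.2)) os

theorem testBit_un (f : ℕ → ℕ → Bool) (i : ℕ) : ∀ os : List (ℕ × ℕ × ℕ),
    (un f os).testBit i = true ↔ ∃ o ∈ os, f o.2.1 o.2.2 = true ∧ o.1.testBit i = true
  | [] => by simp [un]
  | o :: os => by
    rw [show un f (o :: os) = @Bool.rec (fun _ => ℕ) (un f os) (Nat.lor o.1 (un f os))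
      (f o.2.1 o.2.2) from rfl, rec_ite]
    split_ifs with c <;> simp [lor_eq, testBit_un f i os, c]

noncomputable def chkCnt (N k U m : ℕ) : Bool :=
  lit (Nat.land U N) fun V => and2 (Nat.beq (Nat.shiftRight V (Nat.pow 2 k)) 0) (Nat.beq (popc k V) m)

theorem chkCnt_sound {N k U m : ℕ} (h : chkCnt N k U m = true) :
    Nat.card {i | N.testBit i = true ∧ U.testBit i = true} = m := by
  simp only [chkCnt, lit_e, and2_true, beq_true] at h
  rw [← h.2, ← ncard_bits h.1, Nat.card_coe_set_eq]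
  congr 1
  ext i
  simp [land_eq, and_comm]

theorem card_two {α : Type} [Finite α] (p q : α → Prop) : Nat.card {x // p x} + Nat.card {x // q x} =
    Nat.card {x // p x ∨ q x} + Nat.card {x // p x ∧ q x} :=
  (Set.ncard_union_add_ncard_inter {x | p x} {x | q x}).symm

end H29.BM
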