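import Mathlib
import Cfsg.Agent.H29.BM.G1
import Cfsg.Agent.H29.BM.C3
import Cfsg.Agent.H29.BM.C5

set_option autoImplicit false
set_option maxRecDepth 100000
set_option Elab.async false
set_option linter.all false

namespace H29.BM

open H19 H29.BE H29.BP H29.BP.Dat

theorem hl0 : ∀ x ∈ [ln4, ln5], ∃ h ∈ HW 0, LNet D pls 46575 h x :=
  List.forall_mem_cons.2 ⟨hl_of lc4 lw0_0 hw0_0, List.forall_mem_cons.2 ⟨hl_of lc5 lw0_1 hw0_1, fun _ h => absurd h List.not_mem_nil⟩⟩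
theorem dce0 : ∀ o ∈ os0, Dce 0 o :=
  List.forall_mem_cons.2 ⟨dce_of hl0 lv0_0 lr0_0 dv0_0_0 dv0_0_1 (by omega) (by omega),
    List.forall_mem_cons.2 ⟨dce_of hl0 lv0_1 lr0_1 dv0_1_0 dv0_1_1 (by omega) (by omega),
    List.forall_mem_cons.2 ⟨dce_of hl0 lv0_2 lr0_2 dv0_2_0 dv0_2_1 (by omega) (by omega),
    fun _ h => absurd h List.not_mem_nil⟩⟩⟩
theorem cov0 : sub (ones 46575) (un (fun _ _ => true) os0) = true := by decide +kernel
theorem hl1 : ∀ x ∈ [ln6, ln7], ∃ h ∈ HW 1, LNet D pls 46575 h x :=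
  List.forall_mem_cons.2 ⟨hl_of lc6 lw1_0 hw1_0, List.forall_mem_cons.2 ⟨hl_of lc7 lw1_1 hw1_1, fun _ h => absurd h List.not_mem_nil⟩⟩
theorem dce1 : ∀ o ∈ os1, Dce 1 o :=
  List.forall_mem_cons.2 ⟨dce_of hl1 lv1_0 lr1_0 dv1_0_0 dv1_0_1 (by omega) (by omega),
    List.forall_mem_cons.2 ⟨dce_of hl1 lv1_1 lr1_1 dv1_1_0 dv1_1_1 (by omega) (by omega),
    List.forall_mem_cons.2 ⟨dce_of hl1 lv1_2 lr1_2 dv1_2_0 dv1_2_1 (by omega) (by omega),
    List.forall_mem_cons.2 ⟨dce_of hl1 lv1_3 lr1_3 dv1_3_0 dv1_3_1 (by omega) (by omega),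
    fun _ h => absurd h List.not_mem_nil⟩⟩⟩⟩
theorem cov1 : sub (ones 46575) (un (fun _ _ => true) os1) = true := by decide +kernel
theorem hl2 : ∀ x ∈ [ln1, ln2, ln3], ∃ h ∈ HW 2, LNet D pls 46575 h x :=
  List.forall_mem_cons.2 ⟨hl_of lc1 lw2_0 hw2_0, List.forall_mem_cons.2 ⟨hl_of lc2 lw2_1 hw2_1, List.forall_mem_cons.2 ⟨hl_of lc3 lw2_2 hw2_2, fun _ h => absurd h List.not_mem_nil⟩⟩⟩
theorem dce2 : ∀ o ∈ os2, Dce 2 o :=
  List.forall_mem_cons.2 ⟨dce_of hl2 lv2_0 lr2_0 dv2_0_0 dv2_0_1 (by omega) (by omega),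
    List.forall_mem_cons.2 ⟨dce_of hl2 lv2_1 lr2_1 dv2_1_0 dv2_1_1 (by omega) (by omega),
    List.forall_mem_cons.2 ⟨dce_of hl2 lv2_2 lr2_2 dv2_2_0 dv2_2_1 (by omega) (by omega),
    List.forall_mem_cons.2 ⟨dce_of hl2 lv2_3 lr2_3 dv2_3_0 dv2_3_1 (by omega) (by omega),
    List.forall_mem_cons.2 ⟨dce_of hl2 lv2_4 lr2_4 dv2_4_0 dv2_4_1 (by omega) (by omega),
    fun _ h => absurd h List.not_mem_nil⟩⟩⟩⟩⟩
theorem cov2 : sub (ones 46575) (un (fun _ _ => true) os2) = true := by decide +kernel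
theorem hl3 : ∀ x ∈ [ln6, ln7], ∃ h ∈ HW 3, LNet D pls 46575 h x :=
  List.forall_mem_cons.2 ⟨hl_of lc6 lw3_0 hw3_0, List.forall_mem_cons.2 ⟨hl_of lc7 lw3_1 hw3_1, fun _ h => absurd h List.not_mem_nil⟩⟩
theorem dce3 : ∀ o ∈ os3, Dce 3 o :=
  List.forall_mem_cons.2 ⟨dce_of hl3 lv3_0 lr3_0 dv3_0_0 dv3_0_1 (by omega) (by omega),
    List.forall_mem_cons.2 ⟨dce_of hl3 lv3_1 lr3_1 dv3_1_0 dv3_1_1 (by omega) (by omega),
    List.forall_mem_cons.2 ⟨dce_of hl3 lv3_2 lr3_2 dv3_2_0 dv3_2_1 (by omega) (by omega),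
    List.forall_mem_cons.2 ⟨dce_of hl3 lv3_3 lr3_3 dv3_3_0 dv3_3_1 (by omega) (by omega),
    fun _ h => absurd h List.not_mem_nil⟩⟩⟩⟩
theorem cov3 : sub (ones 46575) (un (fun _ _ => true) os3) = true := by decide +kernel
theorem hl4 : ∀ x ∈ [ln4, ln5], ∃ h ∈ HW 4, LNet D pls 46575 h x :=
  List.forall_mem_cons.2 ⟨hl_of lc4 lw4_0 hw4_0, List.forall_mem_cons.2 ⟨hl_of lc5 lw4_1 hw4_1, fun _ h => absurd h List.not_mem_nil⟩⟩
theorem dce4 : ∀ o ∈ os4, Dce 4 o :=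
  List.forall_mem_cons.2 ⟨dce_of hl4 lv4_0 lr4_0 dv4_0_0 dv4_0_1 (by omega) (by omega),
    List.forall_mem_cons.2 ⟨dce_of hl4 lv4_1 lr4_1 dv4_1_0 dv4_1_1 (by omega) (by omega),
    List.forall_mem_cons.2 ⟨dce_of hl4 lv4_2 lr4_2 dv4_2_0 dv4_2_1 (by omega) (by omega),
    fun _ h => absurd h List.not_mem_nil⟩⟩⟩
theorem cov4 : sub (ones 46575) (un (fun _ _ => true) os4) = true := by decide +kernel

theorem lnK {c M : ℕ} {a : Net} (h : chkL pls 46575 M a = true) (h' : chkLw km cm [c] M = true) :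
    g c ∈ D.KK ∧ LNet D pls 46575 (g c) a := by
  have h1 := km_mem (and2_true.1 h').1
  have h2 := Ctx.lnet (C := C) h h'
  rw [ev_cons, ev_nil, mul_one] at h1 h2
  exact ⟨h1, h2⟩

theorem KK_HL : D.KK ≤ HL D pls 46575 :=
  K_ind (fun x => mem_HL (D_ok.P_mem x).comm fun y => CRel.P y x)
    (mem_HL (neg_one_comm _) CRel.neg) ((lnK lc0 lk0).2.mem (lnK lc0 lk0).1.comm)
    ((lnK lc1 lk1).2.mem (lnK lc1 lk1).1.comm) ((lnK lc2 lk2).2.mem (lnK lc2 lk2).1.comm)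
    ((lnK lc3 lk3).2.mem (lnK lc3 lk3).1.comm)

theorem exists_idx (k : D.KK) : ∃ i < 46575, CRel D k 2097152 (val pls i) := by
  obtain ⟨j, hj, c⟩ := (KK_HL k.2).2.1 25839 (by omega)
  exact ⟨j, hj, c.left k.2.comm (ceq_iff.1 lz).symm⟩

noncomputable def idx (k : D.KK) : ℕ := (exists_idx k).choose
theorem idx_lt (k : D.KK) : idx k < 46575 := (exists_idx k).choose_spec.1
theorem idx_rel (k : D.KK) : CRel D k 2097152 (val pls (idx k)) := (exists_idx k).choose_spec.2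
theorem idx_eq {k : D.KK} {i : ℕ} (hi : i < 46575) (h : CRel D k 2097152 (val pls i)) : idx k = i :=
  pls_inj (idx_lt k) hi ((idx_rel k).uniq h)

theorem NN_le_KK : NN ≤ D.KK := fun n hn => (NN_stab n hn).1
instance : Finite NN := Finite.of_injective _ (Subgroup.inclusion_injective NN_le_KK)

theorem card_idx {i : ℕ} (hi : i < 46575) : Nat.card {k // idx k = i} = Nat.card NN := by
  obtain ⟨r, hr, c⟩ := lcover (H := D.KK) le_rfl (l := [ln0, ln1, ln2, ln3]) (by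
    simp only [List.forall_mem_cons]
    exact ⟨⟨_, lnK lc0 lk0⟩, ⟨_, lnK lc1 lk1⟩, ⟨_, lnK lc2 lk2⟩, ⟨_, lnK lc3 lk3⟩,
      fun _ h => absurd h List.not_mem_nil⟩) lall i (by simpa [testBit_ones] using hi)
  replace c := c.left hr.comm (ceq_iff.1 lz).symm
  exact Nat.card_congr
    { toFun := fun k => ⟨k.1.1 * r⁻¹, same_coset k.1.2 hr
        (by have := idx_rel k.1; rwa [k.2] at this) c⟩
      invFun := fun n => ⟨⟨n.1 * r, D.KK.mul_mem (NN_le_KK n.2) hr⟩,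
        idx_eq hi ((NN_stab n.1 n.2).2.mul hr.comm c)⟩
      left_inv := fun k => by simp
      right_inv := fun n => by simp }

theorem card_of_idx {p : D.KK → Prop} {U m : ℕ} (h : ∀ k, p k ↔ U.testBit (idx k) = true)
    (c : chkCnt (ones 46575) 16 U m = true) : Nat.card {k // p k} = m * Nat.card NN := by
  rw [← chkCnt_sound c, ← card_fib idx _ _ Nat.card_pos.ne' fun i hi =>
    card_idx (by simpa [testBit_ones] using hi.1)]
  exact Nat.card_congr (Equiv.subtypeEquivRight fun k => by simp [h, testBit_ones, idx_lt k])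

theorem pair_of {j : ℕ} {os : List (ℕ × ℕ × ℕ)} (h : ∀ o ∈ os, Dce j o)
    (cov : sub (ones 46575) (un (fun _ _ => true) os) = true) (k : D.KK) :
    ∃ o ∈ os, o.1.testBit (idx k) = true := by
  obtain ⟨o, ho, -, c⟩ := (testBit_un _ _ _).1 (sub_true cov (i := idx k)
    (by simpa [testBit_ones] using idx_lt k))
  exact ⟨o, ho, c⟩

noncomputable def cnt (j a : ℕ) : ℕ := Nat.card {k : D.KK // k • wv j ∈ {x | t • x ∈ XO a}}

noncomputable def or2 (a b : Bool) : Bool := Bool.rec b true a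
theorem or2_true {a b : Bool} : or2 a b = true ↔ a = true ∨ b = true := by
  cases a <;> simp [or2]

theorem cnt_eq {j a m1 m2 : ℕ} {os : List (ℕ × ℕ × ℕ)} (h : ∀ o ∈ os, Dce j o) (ha : a < 5)
    (cov : sub (ones 46575) (un (fun _ _ => true) os) = true)
    (c : and2 (chkCnt (ones 46575) 16 (un (fun x y => or2 (Nat.beq x a) (Nat.beq y a)) os) m1)
      (chkCnt (ones 46575) 16 (un (fun x y => and2 (Nat.beq x a) (Nat.beq y a)) os) m2) = true) :
    2 * cnt j a = (m1 + m2) * Nat.card NN := by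
  obtain ⟨c1, c2⟩ := and2_true.1 c
  have e : cnt j a = Nat.card {k : D.KK // t • s • k.1 • wv j ∈ XO a} :=
    Nat.card_congr (Equiv.subtypeEquiv (Equiv.mulLeft ⟨s, s_mem⟩) fun k => by
      simp [Subgroup.smul_def, mul_smul, s_s])
  have key : ∀ k : D.KK, ∀ o ∈ os, o.1.testBit (idx k) = true →
      ((t • k.1 • wv j ∈ XO a ∨ t • s • k.1 • wv j ∈ XO a) ↔ (o.2.1 = a ∨ o.2.2 = a)) ∧
      ((t • k.1 • wv j ∈ XO a ∧ t • s • k.1 • wv j ∈ XO a) ↔ (o.2.1 = a ∧ o.2.2 = a)) := by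
    intro k o ho hk
    obtain ⟨h1, h2, h3⟩ := h o ho
    have iff : ∀ {x : VV} {b : ℕ}, b < 5 → x ∈ XO b → (x ∈ XO a ↔ b = a) := fun hb hx =>
      ⟨fun c => XO_disj hb ha hx c, fun c => c ▸ hx⟩
    rcases h3 k k.2 _ (idx_rel k) hk with ⟨a1, a2⟩ | ⟨a1, a2⟩
    · rw [iff h1 a1, iff h2 a2]; tauto
    · rw [iff h2 a1, iff h1 a2]; tauto
  rw [two_mul, add_mul, ← card_of_idx (p := fun k => t • k.1 • wv j ∈ XO a ∨
    t • s • k.1 • wv j ∈ XO a) (fun k => ?_) c1, ← card_of_idx (p := fun k =>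
    t • k.1 • wv j ∈ XO a ∧ t • s • k.1 • wv j ∈ XO a) (fun k => ?_) c2, ← card_two]
  · rw [← e]; rfl
  · simp only [testBit_un, and2_true, beq_true]
    obtain ⟨o, ho, hk⟩ := pair_of h cov k
    exact ⟨fun c => ⟨o, ho, (key k o ho hk).2.1 c, hk⟩, fun ⟨o, ho, c, hk⟩ => (key k o ho hk).2.2 c⟩
  · simp only [testBit_un, or2_true, beq_true]
    obtain ⟨o, ho, hk⟩ := pair_of h cov k
    exact ⟨fun c => ⟨o, ho, (key k o ho hk).1.1 c, hk⟩, fun ⟨o, ho, c, hk⟩ => (key k o ho hk).1.2 c⟩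

theorem cnt_symm (j a : ℕ) : cnt j a * Nat.card (XO j) = cnt a j * Nat.card (XO a) := by
  rw [cnt, cnt, XO, XO, card_orb_cnt, card_orb_cnt]
  congr 1
  exact Nat.card_congr
    { toFun := fun x => ⟨t • x.1, x.2.2, by simpa [t_t] using x.2.1⟩
      invFun := fun x => ⟨t • x.1, x.2.2, by simpa [t_t] using x.2.1⟩
      left_inv := fun x => by simp [t_t]
      right_inv := fun x => by simp [t_t] }

theorem size_rel {j a m n : ℕ} (h1 : 2 * cnt j a = m * Nat.card NN)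
    (h2 : 2 * cnt a j = n * Nat.card NN) : m * Nat.card (XO j) = n * Nat.card (XO a) := by
  have h := cnt_symm j a
  have h0 : 0 < Nat.card NN := Nat.card_pos
  refine Nat.eq_of_mul_eq_mul_left h0 ?_
  calc _ = 2 * cnt j a * Nat.card (XO j) := by rw [h1]; ring
    _ = 2 * cnt a j * Nat.card (XO a) := by rw [mul_assoc, h, mul_assoc]
    _ = _ := by rw [h2]; ring

theorem card_dom : Nat.card {i | DOM.testBit i = true ∧ DOM.testBit i = true} = 4600 :=
  chkCnt_sound (k := 17) (by decide +kernel)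

theorem card_ax (q : VV → Prop) : Nat.card ↥(XO 0 ∩ {x | q x}) =
    Nat.card {p // dom p ∧ q (ax p false)} + Nat.card {p // dom p ∧ q (ax p true)} := by
  have : Finite {p // dom p} := by
    refine Set.Finite.subset (Set.finite_lt_nat 70000) fun p hp => ?_
    have := hp.1; have := hp.2.2; change p < 70000; omega
  have f : ∀ c, Finite {p // dom p ∧ q (ax p c)} := fun c =>
    Finite.of_injective (fun x => (⟨x.1, x.2.1⟩ : {p // dom p})) fun x y h =>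
      Subtype.ext (congrArg (·.1) h)
  rw [← Nat.card_sum]
  symm
  refine Nat.card_eq_of_bijective (Sum.elim
    (fun p => ⟨ax p.1 false, mem_X0.2 ⟨_, _, p.2.1, rfl⟩, p.2.2⟩)
    (fun p => ⟨ax p.1 true, mem_X0.2 ⟨_, _, p.2.1, rfl⟩, p.2.2⟩)) ⟨?_, ?_⟩
  · rintro (p | p) (r | r) h <;> have := ax_inj p.2.1 r.2.1 (congrArg Subtype.val h)
    · rw [Subtype.ext this.1]
    · simp at this
    · simp at this
    · rw [Subtype.ext this.1]
  · rintro ⟨x, hx, hq⟩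
    obtain ⟨p, c, hp, rfl⟩ := mem_X0.1 hx
    cases c
    · exact ⟨.inl ⟨p, hp, hq⟩, rfl⟩
    · exact ⟨.inr ⟨p, hp, hq⟩, rfl⟩

theorem card_X0 : Nat.card (XO 0) = 9200 := by
  have h := card_ax fun _ => True
  have h1 := card_dom
  simp only [testBit_DOM, and_self, Set.coe_setOf] at h1
  simp only [Set.setOf_true, Set.inter_univ, and_true, h1] at h
  exact h
theorem card_X1 : Nat.card (XO 1) = 7286400 := by
  have h := size_rel (cnt_eq (m1 := 24948) (m2 := 24948) dce0 (a := 1) (by omega) cov0 (by decide +kernel))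
    (cnt_eq (m1 := 63) (m2 := 0) dce1 (a := 0) (by omega) cov1 (by decide +kernel))
  rw [card_X0] at h
  omega
theorem card_X2 : Nat.card (XO 2) = 381542400 := by
  have h := size_rel (cnt_eq (m1 := 20736) (m2 := 20736) dce0 (a := 2) (by omega) cov0 (by decide +kernel))
    (cnt_eq (m1 := 1) (m2 := 0) dce2 (a := 0) (by omega) cov2 (by decide +kernel))
  rw [card_X0] at h
  omega
theorem card_X3 : Nat.card (XO 3) = 7461273600 := by
  have h := size_rel (cnt_eq (m1 := 32256) (m2 := 32256) dce1 (a := 3) (by omega) cov1 (by decide +kernel))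
    (cnt_eq (m1 := 63) (m2 := 0) dce3 (a := 1) (by omega) cov3 (by decide +kernel))
  rw [card_X1] at h
  omega
theorem card_X4 : Nat.card (XO 4) = 19293798400 := by
  have h := size_rel (cnt_eq (m1 := 22528) (m2 := 22528) dce2 (a := 4) (by omega) cov2 (by decide +kernel))
    (cnt_eq (m1 := 891) (m2 := 0) dce4 (a := 2) (by omega) cov4 (by decide +kernel))
  rw [card_X2] at h
  omega

/-- The set of all axes. -/
def XX : Set VV := {x | ∃ j < 5, x ∈ XO j}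

theorem t_XX {x : VV} (h : x ∈ XX) : t • x ∈ XX := by
  obtain ⟨j, hj, h⟩ := h
  obtain ⟨k, hk, rfl⟩ := mem_XO.1 h
  have : ∀ {os : List (ℕ × ℕ × ℕ)}, (∀ o ∈ os, Dce j o) →
      sub (ones 46575) (un (fun _ _ => true) os) = true → t • k • wv j ∈ XX := fun h cov => by
    obtain ⟨o, ho, c⟩ := pair_of h cov ⟨k, hk⟩
    obtain ⟨h1, h2, h3⟩ := h o ho
    rcases h3 k hk _ (idx_rel ⟨k, hk⟩) c with a | a
    · exact ⟨_, h1, a.1⟩
    · exact ⟨_, h2, a.1⟩
  interval_cases j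
  exacts [this dce0 cov0, this dce1 cov1, this dce2 cov2, this dce3 cov3, this dce4 cov4]

theorem card_five (q : VV → Prop) : Nat.card ↥(XX ∩ {x | q x}) =
    ∑ j ∈ Finset.range 5, Nat.card ↥(XO j ∩ {x | q x}) := by
  have f : ∀ j, Finite ↥(XO j ∩ {x | q x}) := fun j =>
    Set.Finite.inter_of_left (Set.finite_range _) _
  rw [Finset.sum_range, ← Nat.card_sigma]
  symm
  refine Nat.card_eq_of_bijective (fun x => ⟨x.2.1, ⟨x.1, x.1.2, x.2.2.1⟩, x.2.2.2⟩) ⟨?_, ?_⟩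
  · rintro ⟨i, x, hx⟩ ⟨j, y, hy⟩ h
    obtain rfl : x = y := congrArg Subtype.val h
    obtain rfl : i = j := Fin.ext (XO_disj i.2 j.2 hx.1 hy.1)
    rfl
  · rintro ⟨x, ⟨j, hj, hx⟩, hq⟩
    exact ⟨⟨⟨j, hj⟩, x, hx, hq⟩, rfl⟩

theorem card_XX : Nat.card XX = 2 * 13571955000 := by
  have h := card_five fun _ => True
  simp only [Set.setOf_true, Set.inter_univ, Finset.sum_range_succ, Finset.sum_range_zero, card_X0,
    card_X1, card_X2, card_X3, card_X4] at h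
  exact h

end H29.BM
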