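import Mathlib
import Cfsg.Agent.H29.BM.G2
import Cfsg.Agent.H29.BM.C4
import Cfsg.Agent.H29.BM.C6

set_option autoImplicit false
set_option maxRecDepth 100000
set_option Elab.async false
set_option linter.all false

namespace H29.BM

open H19 H29.BE H29.BP H29.BP.Dat

/-- The group generated by the normaliser and the extra involution. -/
def GP : Subgroup GG := Subgroup.closure ((D.KK : Set GG) ∪ {t})

theorem KK_GP {h : GG} (hh : h ∈ D.KK) : h ∈ GP := Subgroup.subset_closure (Or.inl hh)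
theorem t_GP : t ∈ GP := Subgroup.subset_closure (Or.inr rfl)
theorem GP_ind {H : Subgroup GG} (hK : D.KK ≤ H) (ht : t ∈ H) : GP ≤ H :=
  (Subgroup.closure_le H).2 (by rintro x (hx | rfl); exacts [hK hx, ht])
theorem neg_GP : (-1 : GG) ∈ GP := KK_GP neg_one_mem

theorem GP_iso {h : GG} (hh : h ∈ GP) : D.Iso h :=
  GP_ind (H := { carrier := {h | D.Iso h}, one_mem' := fun _ _ => by simp
                 mul_mem' := Iso.mul, inv_mem' := Iso.inv }) (fun _ hk => hk.iso) (g_iso 25) hh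

theorem K_XX {k : GG} (hk : k ∈ D.KK) {x : VV} : k • x ∈ XX ↔ x ∈ XX := by
  simp only [XX, Set.mem_setOf_eq, smul_XO hk]

theorem GP_XX {h : GG} (hh : h ∈ GP) {x : VV} (hx : x ∈ XX) : h • x ∈ XX := by
  let S : Subgroup GG :=
    { carrier := {n | ∀ x, n • x ∈ XX ↔ x ∈ XX}
      one_mem' := by simp
      mul_mem' := fun {m n} hm hn x => by rw [mul_smul, hm, hn]
      inv_mem' := fun {m} hm x => by rw [← hm, smul_inv_smul] }
  exact (GP_ind (H := S) (fun k hk x => K_XX hk)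
    (fun x => ⟨fun h => by simpa [t_t] using t_XX h, t_XX⟩) hh x).2 hx

theorem neg_XX {x : VV} (hx : x ∈ XX) : -x ∈ XX := GP_XX neg_GP hx

def gm : ℕ := 1099310301183
theorem word_GP {w : List ℕ} (h : inM gm w = true) : ev g w ∈ GP := by
  refine mem_of_inM (fun c hc => ?_) h
  have h1 : ∀ c < 40, gm.testBit c = true → c = 25 ∨ km.testBit c = true := by decide +kernel
  rcases h1 c (bit_lt (by decide) hc) hc with rfl | h2
  exacts [t_GP, KK_GP (lok_all c h2).1]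

noncomputable abbrev u : VV := ax (16 * 4304) false
noncomputable abbrev u' : VV := ax (16 * 4304) true

theorem ax_X0 {p : ℕ} (hp : dom p) (c : Bool) : ax p c ∈ XO 0 := mem_X0.2 ⟨p, c, hp, rfl⟩
theorem ax_XX {p : ℕ} (hp : dom p) (c : Bool) : ax p c ∈ XX := ⟨0, by omega, ax_X0 hp c⟩
theorem u_XX : u ∈ XX := ax_XX (dom_even p0) _
theorem u'_XX : u' ∈ XX := ax_XX (dom_even p0) _
theorem wv_XX {j : ℕ} (hj : j < 5) : wv j ∈ XX := ⟨j, hj, wv_mem j⟩
theorem X0_orb {x : VV} (hx : x ∈ XO 0) : ∃ k ∈ D.KK, k • u = x := by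
  rw [u, ← wv0]; exact mem_XO.1 hx
theorem tw1' : t • ax (16 * 3072) false = wv 1 := by
  simpa [vc_xq, t, wv] using cV_sound tw1
theorem tw2' : t • ax (16 * 2048) false = wv 2 := by
  simpa [vc_xq, t, wv] using cV_sound tw2
theorem tu' : t • u = u := by
  have := cV_sound tu
  rw [ev_cons, ev_nil, mul_one, one_smul] at this
  rw [u, ← wv0]; exact this

theorem XX_orb {x : VV} (hx : x ∈ XX) : ∃ h ∈ GP, h • u = x := by
  have r0 : ∀ {p c}, dom p → ∃ h ∈ GP, h • u = t • ax p c := fun {p c} hp => by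
    obtain ⟨k, hk, e⟩ := X0_orb (ax_X0 hp c)
    exact ⟨t * k, GP.mul_mem t_GP (KK_GP hk), by rw [mul_smul, e]⟩
  have r1 : ∀ {j a w}, cV (wr j) (wr a) w [] = true → inM gm w = true →
      (∃ h ∈ GP, h • u = wv j) → ∃ h ∈ GP, h • u = wv a := by
    rintro j a w h1 h2 ⟨h, hh, e⟩
    exact ⟨ev g w * h, GP.mul_mem (word_GP h2) hh, by
      rw [mul_smul, e]; simpa [wv] using cV_sound h1⟩
  have a1 := tw1' ▸ r0 (c := false) (dom_even (k := 3072) ⟨by omega, by omega⟩)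
  have a2 := tw2' ▸ r0 (c := false) (dom_even (k := 2048) ⟨by omega, by omega⟩)
  obtain ⟨j, hj, hx⟩ := hx
  obtain ⟨k, hk, rfl⟩ := mem_XO.1 hx
  have : ∃ h ∈ GP, h • u = wv j := by
    interval_cases j
    exacts [⟨1, GP.one_mem, by rw [wv0, one_smul]⟩, a1, a2, r1 dv1_3_0 (by decide +kernel) a1,
      r1 dv2_4_0 (by decide +kernel) a2]
  obtain ⟨h, hh, e⟩ := this
  exact ⟨k * h, GP.mul_mem (KK_GP hk) hh, by rw [mul_smul, e]⟩

/-! ### Pairs of axes -/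

def Nd (j l : ℕ) (c : Bool) (m : ℕ) : Prop := m < 5 ∧
  (∃ h ∈ GP, h • ax (16 * l) c = sx m ∧ (h • wv j = sy m ∨ h • wv j = - sy m)) ∧
  (m = 1 → D.P (D.cl l ^^^ zb c) • wv j = wv j)

theorem vc_ngr {m : ℕ} (hm : m < 5) : vc (ngr (syr m)) = - sy m := by
  have h : allN 5 (fun m => allN 4371 fun i => Nat.ble (syr m i) 256) = true := by decide +kernel
  refine eq_of_ext fun i hi => ?_
  have := ble_true.1 (allN_true.1 (allN_true.1 h m hm) i hi)
  rw [ext_neg, sy, vc, vc, ext_vec _ hi, ext_vec _ hi, ngr, Nat.sub_eq, Nat.cast_sub this]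
  push_cast; ring

theorem nf_of {j l : ℕ} {c : Bool} (h : cV (wr j) (wr j) (pw (cl l ^^^ zb c)) [] = true) (m : ℕ)
    (_ : m = 1) : D.P (D.cl l ^^^ zb c) • wv j = wv j := by
  have := cV_sound h
  rwa [ev_pw', ev_nil, one_smul] at this

theorem nd_of {j l m : ℕ} {c : Bool} {w : List ℕ}
    (h : cV2 (xq l c) (wr j) (sxr m) (syr m) w [] = true) (hw : inM gm w = true) (hl : l < 4348)
    (hm : m < 5) (hf : m = 1 → D.P (D.cl l ^^^ zb c) • wv j = wv j) : Nd j l c m := by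
  obtain ⟨a, b⟩ := cV2_sound h
  rw [ev_nil, one_smul] at a b
  rw [vc_xq hl] at a
  exact ⟨hm, ⟨_, word_GP hw, a, Or.inl b⟩, hf⟩

theorem nd_of' {j l m : ℕ} {c : Bool} {w : List ℕ}
    (h : cV2 (xq l c) (wr j) (sxr m) (ngr (syr m)) w [] = true) (hw : inM gm w = true)
    (hl : l < 4348) (hm : m < 5) (hf : m = 1 → D.P (D.cl l ^^^ zb c) • wv j = wv j) :
    Nd j l c m := by
  obtain ⟨a, b⟩ := cV2_sound h
  rw [ev_nil, one_smul] at a b
  rw [vc_xq hl] at a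
  rw [vc_ngr hm] at b
  exact ⟨hm, ⟨_, word_GP hw, a, Or.inr b⟩, hf⟩

noncomputable def HP (j : ℕ) : Subgroup GG where
  carrier := {h | h ∈ D.KK ∧ (h • wv j = wv j ∨ h • wv j = - wv j)}
  one_mem' := ⟨D.KK.one_mem, by simp⟩
  mul_mem' := by
    rintro a b ⟨a1, a2⟩ ⟨b1, b2⟩
    refine ⟨D.KK.mul_mem a1 b1, ?_⟩
    rcases a2 with a2 | a2 <;> rcases b2 with b2 | b2 <;> simp [mul_smul, smul_neg'', a2, b2]
  inv_mem' := by
    rintro a ⟨a1, a2⟩
    refine ⟨D.KK.inv_mem a1, a2.imp (fun h => ?_) fun h => ?_⟩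
    · rw [inv_smul_eq_iff, h]
    · rw [inv_smul_eq_iff, smul_neg'', h, neg_neg]

theorem hp_of {j : ℕ} {w : List ℕ} {M : ℕ} (c1 : chkLw km cm w M = true)
    (c2 : cV (wr j) (wr j) w [] = true) : inM C.km w = true ∧ ev C.e w ∈ HP j :=
  ⟨(and2_true.1 c1).1, km_mem (and2_true.1 c1).1, Or.inl (by
    change ev g w • _ = _; simpa [wv] using cV_sound c2)⟩
theorem hp23 (j : ℕ) : inM C.km [23] = true ∧ ev C.e [23] ∈ HP j :=
  ⟨by decide +kernel, km_mem (by decide +kernel), Or.inr (by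
    change ev g [23] • _ = _
    rw [ev_cons, ev_nil, mul_one, g23]; rfl)⟩

def Orb (j : ℕ) (o : ℕ × ℕ × ℕ) : Prop := ∃ l, pt l ∧ Nd j l false o.2.1 ∧ Nd j l true o.2.2 ∧
  ∀ p, o.1.testBit p = true → dom p → ∃ h ∈ HP j, D.Rel h p (16 * l)

theorem nd0 : Nd 0 2048 false 1 := nd_of' nv0 (by decide +kernel) (by omega) (by omega) (nf_of nf0 1)
theorem nd1 : Nd 0 2048 true 1 := nd_of' nv1 (by decide +kernel) (by omega) (by omega) (nf_of nf1 1)
theorem nd2 : Nd 0 2052 false 4 := nd_of' nv2 (by decide +kernel) (by omega) (by omega) (by omega)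
theorem nd3 : Nd 0 2052 true 4 := nd_of nv3 (by decide +kernel) (by omega) (by omega) (by omega)
theorem nd4 : Nd 0 4304 false 0 := nd_of nv4 (by decide +kernel) (by omega) (by omega) (by omega)
theorem nd5 : Nd 0 4304 true 1 := nd_of nv5 (by decide +kernel) (by omega) (by omega) (nf_of nf5 1)
theorem nd6 : Nd 1 2048 false 4 := nd_of nv6 (by decide +kernel) (by omega) (by omega) (by omega)
theorem nd7 : Nd 1 2048 true 4 := nd_of nv7 (by decide +kernel) (by omega) (by omega) (by omega)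
theorem nd8 : Nd 1 3072 false 1 := nd_of nv8 (by decide +kernel) (by omega) (by omega) (nf_of nf8 1)
theorem nd9 : Nd 1 3072 true 1 := nd_of' nv9 (by decide +kernel) (by omega) (by omega) (nf_of nf9 1)
theorem nd10 : Nd 1 3184 false 2 := nd_of nv10 (by decide +kernel) (by omega) (by omega) (by omega)
theorem nd11 : Nd 1 3184 true 2 := nd_of nv11 (by decide +kernel) (by omega) (by omega) (by omega)
theorem nd12 : Nd 2 2048 false 3 := nd_of nv12 (by decide +kernel) (by omega) (by omega) (by omega)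
theorem nd13 : Nd 2 2048 true 3 := nd_of nv13 (by decide +kernel) (by omega) (by omega) (by omega)
theorem nd14 : Nd 2 3072 false 4 := nd_of nv14 (by decide +kernel) (by omega) (by omega) (by omega)
theorem nd15 : Nd 2 3072 true 4 := nd_of nv15 (by decide +kernel) (by omega) (by omega) (by omega)
theorem nd16 : Nd 2 4304 false 1 := nd_of' nv16 (by decide +kernel) (by omega) (by omega) (nf_of nf16 1)
theorem nd17 : Nd 2 4304 true 4 := nd_of' nv17 (by decide +kernel) (by omega) (by omega) (by omega)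
theorem nd18 : Nd 3 2048 false 4 := nd_of' nv18 (by decide +kernel) (by omega) (by omega) (by omega)
theorem nd19 : Nd 3 2048 true 4 := nd_of' nv19 (by decide +kernel) (by omega) (by omega) (by omega)
theorem nd20 : Nd 3 3072 false 2 := nd_of' nv20 (by decide +kernel) (by omega) (by omega) (by omega)
theorem nd21 : Nd 3 3072 true 4 := nd_of nv21 (by decide +kernel) (by omega) (by omega) (by omega)
theorem nd22 : Nd 3 3184 false 3 := nd_of nv22 (by decide +kernel) (by omega) (by omega) (by omega)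
theorem nd23 : Nd 3 3184 true 3 := nd_of' nv23 (by decide +kernel) (by omega) (by omega) (by omega)
theorem nd24 : Nd 4 2048 false 3 := nd_of nv24 (by decide +kernel) (by omega) (by omega) (by omega)
theorem nd25 : Nd 4 2048 true 4 := nd_of nv25 (by decide +kernel) (by omega) (by omega) (by omega)
theorem nd26 : Nd 4 2052 false 4 := nd_of' nv26 (by decide +kernel) (by omega) (by omega) (by omega)
theorem nd27 : Nd 4 2052 true 4 := nd_of' nv27 (by decide +kernel) (by omega) (by omega) (by omega)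
theorem nd28 : Nd 4 4304 false 3 := nd_of' nv28 (by decide +kernel) (by omega) (by omega) (by omega)
theorem nd29 : Nd 4 4304 true 1 := nd_of' nv29 (by decide +kernel) (by omega) (by omega) (nf_of nf29 1)
theorem hpw0 : ∀ w ∈ pw0, inM C.km w = true ∧ ev C.e w ∈ HP 0 :=
  List.forall_mem_cons.2 ⟨hp_of lw0_0 hw0_0, List.forall_mem_cons.2 ⟨hp_of lw0_1 hw0_1, List.forall_mem_cons.2 ⟨hp23 0, fun _ h => absurd h List.not_mem_nil⟩⟩⟩
def ob0 : List (ℕ × ℕ × ℕ) := [(pt0_0, 1, 1), (pt0_1, 4, 4), (pt0_2, 0, 1)]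
theorem orb0 : ∀ o ∈ ob0, Orb 0 o :=
  List.forall_mem_cons.2 ⟨⟨2048, ⟨by omega, by omega⟩, nd0, nd1, Ctx.cover hpw0 pv0_0⟩,
    List.forall_mem_cons.2 ⟨⟨2052, ⟨by omega, by omega⟩, nd2, nd3, Ctx.cover hpw0 pv0_1⟩,
    List.forall_mem_cons.2 ⟨⟨4304, ⟨by omega, by omega⟩, nd4, nd5, Ctx.cover hpw0 pv0_2⟩,
    fun _ h => absurd h List.not_mem_nil⟩⟩⟩
theorem pc0 : sub DOM (un (fun _ _ => true) ob0) = true := by decide +kernel
theorem hpw1 : ∀ w ∈ pw1, inM C.km w = true ∧ ev C.e w ∈ HP 1 :=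
  List.forall_mem_cons.2 ⟨hp_of lw1_0 hw1_0, List.forall_mem_cons.2 ⟨hp_of lw1_1 hw1_1, List.forall_mem_cons.2 ⟨hp23 1, fun _ h => absurd h List.not_mem_nil⟩⟩⟩
def ob1 : List (ℕ × ℕ × ℕ) := [(pt1_0, 4, 4), (pt1_1, 1, 1), (pt1_2, 2, 2)]
theorem orb1 : ∀ o ∈ ob1, Orb 1 o :=
  List.forall_mem_cons.2 ⟨⟨2048, ⟨by omega, by omega⟩, nd6, nd7, Ctx.cover hpw1 pv1_0⟩,
    List.forall_mem_cons.2 ⟨⟨3072, ⟨by omega, by omega⟩, nd8, nd9, Ctx.cover hpw1 pv1_1⟩,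
    List.forall_mem_cons.2 ⟨⟨3184, ⟨by omega, by omega⟩, nd10, nd11, Ctx.cover hpw1 pv1_2⟩,
    fun _ h => absurd h List.not_mem_nil⟩⟩⟩
theorem pc1 : sub DOM (un (fun _ _ => true) ob1) = true := by decide +kernel
theorem hpw2 : ∀ w ∈ pw2, inM C.km w = true ∧ ev C.e w ∈ HP 2 :=
  List.forall_mem_cons.2 ⟨hp_of lw2_0 hw2_0, List.forall_mem_cons.2 ⟨hp_of lw2_1 hw2_1, List.forall_mem_cons.2 ⟨hp_of lw2_2 hw2_2, List.forall_mem_cons.2 ⟨hp23 2, fun _ h => absurd h List.not_mem_nil⟩⟩⟩⟩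
def ob2 : List (ℕ × ℕ × ℕ) := [(pt2_0, 3, 3), (pt2_1, 4, 4), (pt2_2, 1, 4)]
theorem orb2 : ∀ o ∈ ob2, Orb 2 o :=
  List.forall_mem_cons.2 ⟨⟨2048, ⟨by omega, by omega⟩, nd12, nd13, Ctx.cover hpw2 pv2_0⟩,
    List.forall_mem_cons.2 ⟨⟨3072, ⟨by omega, by omega⟩, nd14, nd15, Ctx.cover hpw2 pv2_1⟩,
    List.forall_mem_cons.2 ⟨⟨4304, ⟨by omega, by omega⟩, nd16, nd17, Ctx.cover hpw2 pv2_2⟩,
    fun _ h => absurd h List.not_mem_nil⟩⟩⟩
theorem pc2 : sub DOM (un (fun _ _ => true) ob2) = true := by decide +kernel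
theorem hpw3 : ∀ w ∈ pw3, inM C.km w = true ∧ ev C.e w ∈ HP 3 :=
  List.forall_mem_cons.2 ⟨hp_of lw3_0 hw3_0, List.forall_mem_cons.2 ⟨hp_of lw3_1 hw3_1, List.forall_mem_cons.2 ⟨hp23 3, fun _ h => absurd h List.not_mem_nil⟩⟩⟩
def ob3 : List (ℕ × ℕ × ℕ) := [(pt3_0, 4, 4), (pt3_1, 2, 4), (pt3_2, 3, 3)]
theorem orb3 : ∀ o ∈ ob3, Orb 3 o :=
  List.forall_mem_cons.2 ⟨⟨2048, ⟨by omega, by omega⟩, nd18, nd19, Ctx.cover hpw3 pv3_0⟩,
    List.forall_mem_cons.2 ⟨⟨3072, ⟨by omega, by omega⟩, nd20, nd21, Ctx.cover hpw3 pv3_1⟩,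
    List.forall_mem_cons.2 ⟨⟨3184, ⟨by omega, by omega⟩, nd22, nd23, Ctx.cover hpw3 pv3_2⟩,
    fun _ h => absurd h List.not_mem_nil⟩⟩⟩
theorem pc3 : sub DOM (un (fun _ _ => true) ob3) = true := by decide +kernel
theorem hpw4 : ∀ w ∈ pw4, inM C.km w = true ∧ ev C.e w ∈ HP 4 :=
  List.forall_mem_cons.2 ⟨hp_of lw4_0 hw4_0, List.forall_mem_cons.2 ⟨hp_of lw4_1 hw4_1, List.forall_mem_cons.2 ⟨hp23 4, fun _ h => absurd h List.not_mem_nil⟩⟩⟩
def ob4 : List (ℕ × ℕ × ℕ) := [(pt4_0, 3, 4), (pt4_1, 4, 4), (pt4_2, 3, 1)]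
theorem orb4 : ∀ o ∈ ob4, Orb 4 o :=
  List.forall_mem_cons.2 ⟨⟨2048, ⟨by omega, by omega⟩, nd24, nd25, Ctx.cover hpw4 pv4_0⟩,
    List.forall_mem_cons.2 ⟨⟨2052, ⟨by omega, by omega⟩, nd26, nd27, Ctx.cover hpw4 pv4_1⟩,
    List.forall_mem_cons.2 ⟨⟨4304, ⟨by omega, by omega⟩, nd28, nd29, Ctx.cover hpw4 pv4_2⟩,
    fun _ h => absurd h List.not_mem_nil⟩⟩⟩
theorem pc4 : sub DOM (un (fun _ _ => true) ob4) = true := by decide +kernel

theorem orb_at {j : ℕ} {o : ℕ × ℕ × ℕ} (h : Orb j o) {p : ℕ} (hp : dom p)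
    (c : o.1.testBit p = true) : ∃ k ∈ HP j, ∃ l e, pt l ∧ Nd j l false o.2.1 ∧ Nd j l true o.2.2 ∧
      ∀ c, k • ax p c = ax (16 * l) (xor c e) := by
  obtain ⟨l, h1, h2, h3, h4⟩ := h
  obtain ⟨k, hk, a⟩ := h4 p c hp
  obtain ⟨e, he⟩ := a.inv.x1
  exact ⟨k⁻¹, (HP j).inv_mem hk, l, e, h1, h2, h3, he⟩

theorem orb_cov {os : List (ℕ × ℕ × ℕ)} (cov : sub DOM (un (fun _ _ => true) os) = true) {p : ℕ}
    (hp : dom p) : ∃ o ∈ os, o.1.testBit p = true := by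
  obtain ⟨o, ho, -, c⟩ := (testBit_un _ _ _).1 (sub_true cov ((testBit_DOM p).2 hp))
  exact ⟨o, ho, c⟩

theorem canon {y : VV} (hy : y ∈ XX) : ∃ k ∈ D.KK, ∃ j l c m, pt l ∧ Nd j l c m ∧
    k • u = ax (16 * l) c ∧ (k • y = wv j ∨ k • y = - wv j) := by
  obtain ⟨j, hj, hy⟩ := hy
  obtain ⟨k, hk, rfl⟩ := mem_XO.1 hy
  obtain ⟨p, c, hp, e⟩ := mem_X0.1 ((smul_XO (D.KK.inv_mem hk)).2 (ax_X0 (dom_even p0) false))
  have : ∃ o, Orb j o ∧ o.1.testBit p = true := by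
    interval_cases j
    · obtain ⟨o, ho, c⟩ := orb_cov pc0 hp; exact ⟨o, orb0 o ho, c⟩
    · obtain ⟨o, ho, c⟩ := orb_cov pc1 hp; exact ⟨o, orb1 o ho, c⟩
    · obtain ⟨o, ho, c⟩ := orb_cov pc2 hp; exact ⟨o, orb2 o ho, c⟩
    · obtain ⟨o, ho, c⟩ := orb_cov pc3 hp; exact ⟨o, orb3 o ho, c⟩
    · obtain ⟨o, ho, c⟩ := orb_cov pc4 hp; exact ⟨o, orb4 o ho, c⟩
  obtain ⟨o, ho, c1⟩ := this
  obtain ⟨h, hh, l, f, h1, h2, h3, h4⟩ := orb_at ho hp c1
  refine ⟨h * k⁻¹, D.KK.mul_mem hh.1 (D.KK.inv_mem hk), j, l, xor c f,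
    if xor c f then o.2.2 else o.2.1, h1, by cases xor c f <;> assumption,
    by rw [mul_smul, e, h4], by simpa [mul_smul] using hh.2⟩

theorem pairs {x y : VV} (hx : x ∈ XX) (hy : y ∈ XX) :
    ∃ h ∈ GP, ∃ m < 5, h • x = sx m ∧ (h • y = sy m ∨ h • y = - sy m) := by
  obtain ⟨a, ha, rfl⟩ := XX_orb hx
  obtain ⟨k, hk, j, l, c, m, -, ⟨hm, ⟨h, hh, e1, e2⟩, -⟩, e3, e4⟩ := canon (GP_XX (GP.inv_mem ha) hy)
  refine ⟨h * k * a⁻¹, GP.mul_mem (GP.mul_mem hh (KK_GP hk)) (GP.inv_mem ha), m, hm,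
    by simp [mul_smul, e3, e1], ?_⟩
  rcases e2 with e2 | e2 <;> rcases e4 with e4 | e4 <;> simp [mul_smul, smul_neg'', e2, e4]

def adj (x y : VV) : Prop := D.B x y ^ 2 = 1024 ^ 2

theorem adj_smul {h : GG} (hh : h ∈ GP) {x y : VV} : adj (h • x) (h • y) ↔ adj x y := by
  rw [adj, GP_iso hh, adj]
theorem adj_neg {x y : VV} : adj x (-y) ↔ adj x y := by
  simp [adj, Dat.B, form_neg_right]
theorem adj_pm {x y y' : VV} (h : y = y' ∨ y = -y') : adj x y ↔ adj x y' := by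
  rcases h with rfl | rfl
  exacts [Iff.rfl, adj_neg]

theorem B_std : D.B (sx 0) (sy 0) = 7168 ∧ D.B (sx 1) (sy 1) = -1024 ∧ D.B (sx 2) (sy 2) = 0 ∧
    D.B (sx 3) (sy 3) = 256 ∧ D.B (sx 4) (sy 4) = 0 :=
  ⟨by simpa [sx, sy] using cB_sound ip0, by simpa [sx, sy] using cB_sound ip1, by simpa [sx, sy] using cB_sound ip2,
    by simpa [sx, sy] using cB_sound ip3, by simpa [sx, sy] using cB_sound ip4⟩

theorem adj_std {m : ℕ} (hm : m < 5) : adj (sx m) (sy m) ↔ m = 1 := by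
  obtain ⟨h0, h1, h2, h3, h4⟩ := B_std
  interval_cases m <;> simp only [adj, h0, h1, h2, h3, h4] <;> norm_num

theorem Nd.adj {j l m : ℕ} {c : Bool} (h : Nd j l c m) : adj (ax (16 * l) c) (wv j) ↔ m = 1 := by
  obtain ⟨hm, ⟨h, hh, e1, e2⟩, -⟩ := h
  rw [← adj_smul hh, e1, adj_pm e2, adj_std hm]

theorem n_eq {j m1 m2 : ℕ} {os : List (ℕ × ℕ × ℕ)} (h : ∀ o ∈ os, Orb j o)
    (cov : sub DOM (un (fun _ _ => true) os) = true)
    (c : and2 (chkCnt DOM 17 (un (fun x y => or2 (Nat.beq x 1) (Nat.beq y 1)) os) m1)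
      (chkCnt DOM 17 (un (fun x y => and2 (Nat.beq x 1) (Nat.beq y 1)) os) m2) = true) :
    Nat.card ↥(XO 0 ∩ {x | adj x (wv j)}) = m1 + m2 := by
  obtain ⟨c1, c2⟩ := and2_true.1 c
  have key : ∀ p, dom p → ∀ o ∈ os, o.1.testBit p = true →
      ((adj (ax p false) (wv j) ∨ adj (ax p true) (wv j)) ↔ (o.2.1 = 1 ∨ o.2.2 = 1)) ∧
      ((adj (ax p false) (wv j) ∧ adj (ax p true) (wv j)) ↔ (o.2.1 = 1 ∧ o.2.2 = 1)) := by
    intro p hp o ho c
    obtain ⟨k, hk, l, e, -, h2, h3, h4⟩ := orb_at (h o ho) hp c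
    have : ∀ c, adj (ax p c) (wv j) ↔ adj (ax (16 * l) (xor c e)) (wv j) := fun c => by
      rw [← adj_smul (KK_GP hk.1), h4, adj_pm hk.2]
    rw [this, this]
    cases e <;> simp [h2.adj, h3.adj] <;> tauto
  have : Finite {p // p < 70000} := Set.finite_lt_nat 70000
  have tr : ∀ q : ℕ → Prop, Nat.card {p // dom p ∧ q p} =
      Nat.card {p : {p // p < 70000} // dom p ∧ q p} := fun q => Nat.card_congr
    { toFun := fun p => ⟨⟨p.1, by have := p.2.1.1; have := p.2.1.2.2; omega⟩, p.2⟩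
      invFun := fun p => ⟨p.1.1, p.2⟩
      left_inv := fun _ => rfl
      right_inv := fun _ => rfl }
  rw [card_ax, tr, tr, card_two, ← chkCnt_sound c1, ← chkCnt_sound c2]
  simp only [testBit_DOM, Set.coe_setOf, tr, testBit_un, and2_true, or2_true, beq_true]
  congr 1 <;> refine Nat.card_congr (Equiv.subtypeEquivRight fun p => ?_)
  · rw [← and_or_left, and_congr_right_iff]
    intro hp
    obtain ⟨o, ho, hk⟩ := orb_cov cov hp
    exact ⟨fun c => ⟨o, ho, (key _ hp o ho hk).1.1 c, hk⟩,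
      fun ⟨o, ho, c, hk⟩ => (key _ hp o ho hk).1.2 c⟩
  · rw [and_and_and_comm, and_self, and_congr_right_iff]
    intro hp
    obtain ⟨o, ho, hk⟩ := orb_cov cov hp
    exact ⟨fun c => ⟨o, ho, (key _ hp o ho hk).2.1 c, hk⟩,
      fun ⟨o, ho, c, hk⟩ => (key _ hp o ho hk).2.2 c⟩

theorem dbl (j : ℕ) : Nat.card ↥(XO j ∩ {y | adj u y}) * 9200 =
    Nat.card ↥(XO 0 ∩ {x | adj x (wv j)}) * Nat.card (XO j) := by
  have h1 := card_orb_cnt D.KK (wv j) {y | adj u y}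
  have h2 := card_orb_cnt D.KK (wv 0) {x | adj x (wv j)}
  have h3 : Nat.card {k : D.KK // k • wv j ∈ {y | adj u y}} =
      Nat.card {k : D.KK // k • wv 0 ∈ {x | adj x (wv j)}} :=
    Nat.card_congr (Equiv.subtypeEquiv (Equiv.inv _) fun k => by
      change adj u (k.1 • wv j) ↔ adj (k.1⁻¹ • wv 0) (wv j)
      rw [← adj_smul (KK_GP (D.KK.inv_mem k.2)), inv_smul_smul, wv0])
  have h0 : 0 < Nat.card D.KK := Nat.card_pos
  change _ * Nat.card (XO j) = Nat.card ↥(XO j ∩ _) * _ at h1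
  change _ * Nat.card (XO 0) = Nat.card ↥(XO 0 ∩ _) * _ at h2
  rw [card_X0, ← h3] at h2
  refine Nat.eq_of_mul_eq_mul_left h0 ?_
  calc _ = Nat.card ↥(XO j ∩ {y | adj u y}) * Nat.card D.KK * 9200 := by ring
    _ = Nat.card {k : D.KK // k • wv j ∈ {y | adj u y}} * 9200 * Nat.card (XO j) := by rw [← h1]; ring
    _ = _ := by rw [h2]; ring

theorem card_adj : Nat.card ↥(XX ∩ {y | adj u y}) = 2 * 3968055 := by
  rw [card_five]
  simp only [Finset.sum_range_succ, Finset.sum_range_zero]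
  have h0 := dbl 0
  rw [n_eq (m1 := 1784) (m2 := 1782) orb0 pc0 (by decide +kernel), card_X0] at h0
  have h1 := dbl 1
  rw [n_eq (m1 := 56) (m2 := 56) orb1 pc1 (by decide +kernel), card_X1] at h1
  have h2 := dbl 2
  rw [n_eq (m1 := 88) (m2 := 0) orb2 pc2 (by decide +kernel), card_X2] at h2
  have h3 := dbl 3
  rw [n_eq (m1 := 0) (m2 := 0) orb3 pc3 (by decide +kernel), card_X3] at h3
  have h4 := dbl 4
  rw [n_eq (m1 := 2) (m2 := 0) orb4 pc4 (by decide +kernel), card_X4] at h4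
  omega

end H29.BM
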