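import Mathlib
import Cfsg.Agent.H29.BM.G3

/-!
# The involution of an axis, the centraliser of the central involution, the order
-/

set_option autoImplicit false
set_option maxRecDepth 100000
set_option linter.all false

namespace H29.BM
open H19 H29.BE H29.BP H29.BP.Dat

noncomputable def d : GG := D.P (D.cl 4304)

theorem cl0 : D.cl 4304 = 2 ^ 11 := by decide +kernel
theorem d_eq : d = g 11 := by rw [d, cl0, g_pau 11 (by omega)]
theorem d_mem : d ∈ D.KK := D_ok.P_mem _
theorem d_sq : d * d = 1 := by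
  have : ev g [11, 11] = ev g [] := eqM (by decide +kernel)
  simpa [d_eq] using this
theorem td : t * d = d * t := by
  have := tc_conj tc11
  rw [ev_cons, ev_nil, mul_one, mul_inv_eq_iff_eq_mul, ← d_eq] at this
  exact this
theorem sd : s * d = d * s := by
  have : ev g [10, 11] = ev g [11, 10] := eqM (by decide +kernel)
  simpa [d_eq, s] using this

theorem div_mk (k : ℕ) (s : Bool) : (16 * k + s.toNat) / 16 = k := by cases s <;> simp <;> omega

theorem dK {h : GG} (hh : h ∈ D.KK) {k : ℕ} (hk : pt k) {e c : Bool}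
    (a : h • u = ax (16 * k + e.toNat) c) : h * d = D.P (D.cl k ^^^ zb (xor e c)) * h := by
  obtain ⟨k', hk', s1, s2, b⟩ := hh.act 4304 p0
  have : h • u = ax (16 * k' + s1.toNat) s2 := by
    rw [u, ax, ax, BP.x1, BP.x1, ph_even, div_even, div_mk, ph_mk, smul_add', b.om, smul_smul',
      smul_smul', b.e, sn_false, one_smul, smul_comm]
  rw [a] at this
  obtain ⟨h1, rfl⟩ := ax_inj (dom_mk hk e) (dom_mk hk' s1) this
  obtain ⟨rfl, rfl⟩ : k = k' ∧ e = s1 := by cases e <;> cases s1 <;> simp at h1 ⊢ <;> omega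
  exact b.cj

theorem fix_adj {y : VV} (hy : y ∈ XX) (a : adj u y) : d • y = y := by
  obtain ⟨k, hk, j, l, c, m, hl, n, e1, e2⟩ := canon hy
  rw [← adj_smul (KK_GP hk), e1, adj_pm e2, n.adj] at a
  have h1 := n.2.2 a
  have h2 := dK hk hl (e := false) (c := c) (by simpa using e1)
  rw [Bool.false_xor] at h2
  rw [← smul_left_cancel_iff k, smul_smul, h2, mul_smul]
  rcases e2 with e2 | e2 <;> rw [e2]
  · exact h1
  · rw [smul_neg'', h1]

theorem d_u : d • u = u := by
  have : cV (wr 0) (wr 0) [11] [] = true := by decide +kernel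
  have := cV_sound this
  rw [ev_cons, ev_nil, mul_one, one_smul, ← d_eq] at this
  rw [u, ← wv0]; exact this

/-- The largest subspace fixed by `d` and stable under the stabiliser of the axis. -/
noncomputable def WW : Submodule ℚ VV where
  carrier := {y | ∀ h ∈ GP, h • u = u → d • h • y = h • y}
  add_mem' := fun {a b} ha hb h hh e => by rw [smul_add', smul_add', ha h hh e, hb h hh e]
  zero_mem' := fun h _ _ => by simp
  smul_mem' := fun c a ha h hh e => by rw [smul_smul', smul_smul', ha h hh e]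

theorem WW_smul {h : GG} (hh : h ∈ GP) (e : h • u = u) {y : VV} (hy : y ∈ WW) : h • y ∈ WW :=
  fun k hk e' => by
    rw [smul_smul k]; exact hy _ (GP.mul_mem hk hh) (by rw [mul_smul, e, e'])
theorem WW_fix {y : VV} (hy : y ∈ WW) : d • y = y := by simpa using hy 1 GP.one_mem (by simp)
theorem u_WW : u ∈ WW := fun h _ e => by rw [e, d_u]
theorem adj_WW {y : VV} (hy : y ∈ XX) (a : adj u y) : y ∈ WW := fun h hh e =>
  fix_adj (GP_XX hh hy) (by rw [← e, adj_smul hh]; exact a)

theorem B_ax {p q : ℕ} (hp : dom p) (hq : dom q) (c e : Bool) : D.B (ax p c) (ax q e) =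
    D.B (D.ph p) (D.ph q) + if p / 16 = q / 16 then sn c * sn e * 4096 else 0 := by
  have h1 := hp.2.2
  have h2 := hq.2.2
  rw [ax, BP.x1, Dat.B, form_add_left, form_smul_left, form_smul_left, form_bv (by omega),
    wlow _ h1, ext_ax hq e (by omega), ph_inA _ _ h1, form_comm, ax, BP.x1, form_add_left,
    form_smul_left, form_smul_left, form_bv (by omega), ph_inA _ _ h2, form_comm]
  split_ifs <;> simp [Dat.B]; ring

theorem sx1 : sx 1 = u := vc_xq (by omega) false
theorem sy1 : sy 1 = u' := vc_xq (by omega) true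
theorem B_uu' : D.B u u' = -1024 := by rw [← sx1, ← sy1]; exact B_std.2.1

theorem pt_WW {k : ℕ} (hk : pt k) (h : (D.cl k).testBit 0 = false) :
    D.om k ∈ WW ∧ bv 4371 k ∈ WW := by
  have c : allN 2300 (fun j => lit (Nat.add 2048 j) fun k => or2 (tb (cl k) 0) (or2 (Nat.beq k 4304)
      (or2 (Nat.beq (fld ps1 k) (Nat.add (fld ps0 k) 16))
        (Nat.beq (fld ps0 k) (Nat.add (fld ps1 k) 16))))) = true := by decide +kernel
  have c1 := allN_true.1 c (k - 2048) (by have := hk.2; omega)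
  simp only [lit_e, Nat.add_eq, show 2048 + (k - 2048) = k by have := hk.1; omega, or2_true,
    beq_true, tb_eq] at c1
  have key : ∀ c, ax (16 * k) c ∈ WW := fun c => by
    by_cases c0 : k = 4304
    · subst c0
      cases c
      · exact u_WW
      · exact adj_WW u'_XX (by rw [adj, B_uu']; norm_num)
    refine adj_WW (ax_XX (dom_even hk) c) ?_
    rw [adj, u, B_ax (dom_even p0) (dom_even hk), if_neg (by omega), ph_even k, hB0 k hk]
    rcases c1 with c1 | c1 | c1 | c1
    · exact absurd (c1.symm.trans h) (by simp)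
    · omega
    · rw [c1]; push_cast; ring
    · rw [c1]; push_cast; ring
  have e1 : D.om k = (1 / 2 : ℚ) • (ax (16 * k) false + ax (16 * k) true) := by
    simp only [BP.x1, ph_even, sn_false, sn_true]; module
  have e2 : bv 4371 k = (1 / 128 : ℚ) • (ax (16 * k) false - ax (16 * k) true) := by
    simp only [BP.x1, ph_even, sn_false, sn_true, div_even]; module
  rw [e1, e2]
  exact ⟨WW.smul_mem _ (WW.add_mem (key _) (key _)), WW.smul_mem _ (WW.sub_mem (key _) (key _))⟩

theorem d_pt {k : ℕ} (hk : pt k) : d • bv 4371 k = sn ((D.cl k).testBit 0) • bv 4371 k := by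
  rw [d, cl0, ← sp_pow_hi (D.cl k) (j := 0) (by omega), sp_comm]
  exact PL_bv_pt _ _ hk.1 hk.2

theorem d_bv {k : ℕ} (hk : k < 4371) : ∃ c, d • bv 4371 k = sn c • bv 4371 k := by
  by_cases c1 : k < 2048
  · have := PL_bv_lt D.cl (2 ^ 11) c1
    rw [show lo (2 ^ 11) = 0 from rfl, Nat.xor_zero] at this
    exact ⟨_, by rw [d, cl0]; exact this⟩
  · by_cases c2 : k < 4348
    · exact ⟨_, d_pt ⟨by omega, c2⟩⟩
    · exact ⟨false, by rw [sn_false, one_smul]; exact PL_inA _ _ (inA_bv (by omega))⟩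

theorem bv_pt_WW {k : ℕ} (hk : pt k) (h : d • bv 4371 k = bv 4371 k) : bv 4371 k ∈ WW := by
  rw [d_pt hk, ← one_smul ℚ (bv 4371 k), smul_smul, mul_one] at h
  exact (pt_WW hk (sn_inj (bv_smul_inj (sn_ne _) (by have := hk.2; omega) h).2)).2

theorem bv_Y_WW {k : ℕ} (hk : k < 1024) (h : d • bv 4371 k = bv 4371 k) : bv 4371 k ∈ WW := by
  have c : (lit (m27.step idF) fun F => allN 1024 fun k => lit (Nat.land (fld F k) 32767) fun j =>
      and2 (Nat.ble 2048 j) (Nat.ble j 3071)) = true := by decide +kernel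
  obtain ⟨h3, h4⟩ := g_mon (c := 27) (m := m27) rfl
  rw [lit_e] at c
  have c1 := allN_true.1 c k hk
  have h2 : ent 16 (m27.step idF) k = _ := ent_step_id E_ok h3 (show k < 4371 by omega)
  have h5 := h3.net.lt k (by omega)
  rw [lit_e, and2_true, ble_true, ble_true, fld_eq, h2, land_eq, show 32767 = 2 ^ 15 - 1 from rfl,
    Nat.and_two_pow_sub_one_eq_mod] at c1
  have h6 : 2048 ≤ fidx m27.net k ∧ fidx m27.net k < 2048 + 1024 := by split_ifs at c1 <;> omega
  have h7 := BE.chkEq_sound E_ok S0_wf t27 _ h6.1 h6.2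
  rw [ev_cons, ev_cons, ev_nil, mul_one, mul_one] at h7
  have h8 : t • bv 4371 (fidx m27.net k) = sn (m27.sg.testBit (16 * k + 15)) • bv 4371 k :=
    h7.trans (by rw [← mlin_bv h3 (by omega), ← h4]; rfl)
  have h9 : d • bv 4371 (fidx m27.net k) = bv 4371 (fidx m27.net k) := by
    rw [← smul_left_cancel_iff t, smul_smul, td, mul_smul, h8, smul_smul', h]
  have := WW.smul_mem (sn (m27.sg.testBit (16 * k + 15)))
    (WW_smul t_GP tu' (bv_pt_WW ⟨h6.1, by omega⟩ h9))
  rwa [h8, smul_smul, sn_mul_self, one_smul] at this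

theorem s_u : s • u = u := by
  have : cV (wr 0) (wr 0) [10] [] = true := by decide +kernel
  have := cV_sound this
  rw [ev_cons, ev_nil, mul_one, one_smul] at this
  rw [u, ← wv0]; exact this

theorem bv_WW {k : ℕ} (hk : k < 4371) (h : d • bv 4371 k = bv 4371 k) : bv 4371 k ∈ WW := by
  by_cases c0 : k < 1024
  · exact bv_Y_WW c0 h
  by_cases c1 : k < 2048
  · have e := PL_bv_lt D.cl (2 ^ 10) c1
    have e1 : k ^^^ lo (2 ^ 10) < 1024 := by
      have : ∀ j < 1024, (1024 + j) ^^^ 1024 < 1024 := by decide +kernel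
      have := this (k - 1024) (by omega)
      rwa [show 1024 + (k - 1024) = k by omega] at this
    generalize k ^^^ lo (2 ^ 10) = j at e e1
    generalize sn _ = a at e
    have e2 : s • bv 4371 j = a • bv 4371 k := by rw [s_eq]; exact e
    have e3 : d • bv 4371 j = bv 4371 j := by
      rw [← smul_left_cancel_iff s, smul_smul, sd, mul_smul, e2, smul_smul', h]
    have e4 := WW_smul (KK_GP s_mem) s_u (bv_Y_WW e1 e3)
    have ha : a ≠ 0 := by
      rintro rfl
      rw [zero_smul, smul_eq_zero_iff_eq, ← one_smul ℚ (bv 4371 j), ← zero_smul ℚ (bv 4371 j)] at e2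
      exact one_ne_zero (bv_smul_inj one_ne_zero (by omega) e2).2
    rw [e2] at e4
    simpa [smul_smul, inv_mul_cancel₀ ha] using WW.smul_mem a⁻¹ e4
  by_cases c2 : k < 4348
  · exact bv_pt_WW ⟨by omega, c2⟩ h
  have hb : ∀ j < 44, (D.cl (4304 + j)).testBit 0 = false := by decide +kernel
  have key : ∀ j < 22, bv 4371 4348 ∈ WW ∧ bv 4371 (4349 + j) ∈ WW := fun j hj => by
    have a1 := (pt_WW ⟨by omega, by omega⟩ (hb (2 * j) (by omega))).1
    have a2 := (pt_WW ⟨by omega, by omega⟩ (hb (1 + 2 * j) (by omega))).1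
    rw [bcB j hj] at a1
    rw [← add_assoc, bcC j hj] at a2
    have b1 := WW.smul_mem (1 / 32 : ℚ) (WW.sub_mem a2 a1)
    have b2 := WW.smul_mem (1 / 64 : ℚ) (WW.add_mem a2 a1)
    exact ⟨by convert b1 using 1; module, by convert b2 using 1; module⟩
  by_cases c3 : k = 4348
  · subst c3; exact (key 0 (by omega)).1
  · obtain ⟨j, rfl⟩ : ∃ j, k = 4349 + j := ⟨k - 4349, by omega⟩
    exact (key j (by omega)).2

theorem B_anti {x y : VV} (hx : d • x = -x) (hy : d • y = y) : D.B x y = 0 := by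
  have := d_mem.iso x y
  rw [hx, hy, Dat.B, form_neg_left, ← Dat.B] at this
  linarith

theorem mem_WW {y : VV} (h : d • y = y) : y ∈ WW := by
  rw [eq_sum_bv y]
  refine WW.sum_mem fun k hk => ?_
  have hk := Finset.mem_range.1 hk
  obtain ⟨c, hc⟩ := d_bv hk
  cases c
  · exact WW.smul_mem _ (bv_WW hk (by simpa using hc))
  · have := B_anti (by simpa using hc) h
    rw [Dat.B, form_bv hk, mul_eq_zero] at this
    rw [this.resolve_left (by exact_mod_cast (D_ok.pos k hk).ne'), zero_smul]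
    exact WW.zero_mem

theorem T3 {h : GG} (hh : h ∈ GP) (e : h • u = u) : h * d = d * h := by
  refine gg_ext fun k hk => ?_
  obtain ⟨c, hc⟩ := d_bv hk
  rw [mul_smul, mul_smul, hc, smul_smul']
  cases c
  · rw [sn_false, one_smul] at hc ⊢
    exact (mem_WW hc h hh e).symm
  · rw [sn_true, neg_one_smul] at hc ⊢
    refine form_nondeg D_ok.pos fun x => ?_
    have h1 : d • (d • x + x) = d • x + x := by
      rw [smul_add', smul_smul, d_sq, one_smul, add_comm]
    have h2 := B_anti hc (WW_fix (WW_smul (GP.inv_mem hh) (by rw [inv_smul_eq_iff, e]) (mem_WW h1)))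
    rw [← GP_iso hh, smul_inv_smul, Dat.B, form_add_right] at h2
    have h3 := d_mem.iso (d • x) (h • bv 4371 k)
    rw [smul_smul, d_sq, one_smul, Dat.B, Dat.B] at h3
    rw [h3, form_neg_right, form_comm, form_comm (d • x)]
    linarith

open Classical in
/-- The involution of an axis. -/
noncomputable def dl (x : VV) : GG :=
  if c : ∃ h ∈ GP, h • u = x then c.choose * d * c.choose⁻¹ else 1

theorem dl_u {h : GG} (hh : h ∈ GP) : dl (h • u) = h * d * h⁻¹ := by
  have c : ∃ k ∈ GP, k • u = h • u := ⟨h, hh, rfl⟩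
  rw [dl, dif_pos c]
  obtain ⟨h1, h2⟩ := c.choose_spec
  have := T3 (GP.mul_mem (GP.inv_mem hh) h1) (by rw [mul_smul, h2, inv_smul_smul])
  generalize c.choose = k at this
  calc k * d * k⁻¹ = h * (h⁻¹ * k * d) * k⁻¹ := by group
    _ = _ := by rw [this]; group

theorem dl_smul {h : GG} (hh : h ∈ GP) {x : VV} (hx : x ∈ XX) : dl (h • x) = h * dl x * h⁻¹ := by
  obtain ⟨a, ha, rfl⟩ := XX_orb hx
  rw [smul_smul, dl_u (GP.mul_mem hh ha), dl_u ha]; group

theorem dl_neg {x : VV} (hx : x ∈ XX) : dl (-x) = dl x := by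
  have := dl_smul neg_GP hx
  rwa [neg_one_comm, mul_inv_cancel_right] at this

theorem dl_pm {x y : VV} (hy : y ∈ XX) (h : x = y ∨ x = -y) : dl x = dl y := by
  rcases h with rfl | rfl
  exacts [rfl, dl_neg hy]

theorem dl_ax {k : ℕ} (hk : pt k) (e c : Bool) :
    dl (ax (16 * k + e.toNat) c) = D.P (D.cl k ^^^ zb (xor e c)) := by
  obtain ⟨h, hh, a⟩ := X0_orb (ax_X0 (dom_mk hk e) c)
  rw [← a, dl_u (KK_GP hh), dK hh hk a, mul_inv_cancel_right]

theorem dl_ax0 {k : ℕ} (hk : pt k) (c : Bool) : dl (ax (16 * k) c) = D.P (D.cl k ^^^ zb c) := by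
  simpa using dl_ax hk false c

theorem dl_sq {x : VV} (hx : x ∈ XX) : dl x * dl x = 1 := by
  obtain ⟨a, ha, rfl⟩ := XX_orb hx
  rw [dl_u ha]
  calc _ = a * (d * d) * a⁻¹ := by group
    _ = 1 := by rw [d_sq]; group

theorem dl_GP {x : VV} (hx : x ∈ XX) : dl x ∈ GP := by
  obtain ⟨a, ha, rfl⟩ := XX_orb hx
  rw [dl_u ha]
  exact GP.mul_mem (GP.mul_mem ha (KK_GP d_mem)) (GP.inv_mem ha)

theorem dl_x (k : ℕ) (hk : pt k := by exact ⟨by omega, by omega⟩) :
    dl (vc (xq k false)) = D.P (D.cl k) := by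
  rw [vc_xq hk.2, dl_ax0 hk]; simp

theorem dl_w1 : dl (wv 1) = t * D.P (D.cl 3072) * t := by
  rw [← tw1', dl_smul t_GP (ax_XX (dom_even ⟨by omega, by omega⟩) _), dl_ax0 ⟨by omega, by omega⟩,
    t_inv]; simp
theorem cl_s : D.P (D.cl 2048) = s := by rw [s_eq, show D.cl 2048 = 2 ^ 10 by decide +kernel]
theorem dl_w2 : dl (wv 2) = t * s * t := by
  rw [← tw2', dl_smul t_GP (ax_XX (dom_even ⟨by omega, by omega⟩) _), dl_ax0 ⟨by omega, by omega⟩,
    t_inv, ← cl_s]; simp
theorem tst' : t * s * t = s * t * s := by simpa [t, s, mul_assoc] using tst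

theorem sy_XX {m : ℕ} (hm : m < 5) : sy m ∈ XX := by
  have a : ∀ k c, pt k → vc (xq k c) ∈ XX := fun k c hk => by
    rw [vc_xq hk.2]; exact ax_XX (dom_even hk) c
  interval_cases m
  exacts [a _ _ p0, a _ _ p0, wv_XX (j := 1) (by omega), wv_XX (j := 2) (by omega),
    a _ _ ⟨by omega, by omega⟩]

theorem P_four (x : ℕ) : D.P x ^ 4 = 1 := by
  have : D.P x * D.P x = D.P (zb (dot (hi x) (lo x))) := by
    rw [Dat.P, Pu_mul, BP.mul]; simp [Dat.P]
  rw [show 4 = 2 * 2 from rfl, pow_mul, sq, sq, this, Dat.P, Pu_zb_mul, Nat.xor_self, Pu_zero]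

theorem tz : t * D.z * t = D.P 2097152 := by
  have := tc_conj tc22
  rwa [ev_cons, ev_nil, mul_one, g_pau 21 (by omega), ← z_eq, t_inv] at this

theorem std_prod {m : ℕ} (hm : m < 5) : ((dl (sx m) * dl (sy m)) ^ 3 = 1 ∨
    (dl (sx m) * dl (sy m)) ^ 4 = 1) ∧ (dl (sx m) = dl (sy m) → m = 0) := by
  interval_cases m
  · refine ⟨Or.inr ?_, fun _ => rfl⟩
    rw [show sx 0 = sy 0 from rfl, dl_sq (sy_XX (by omega)), one_pow]
  · rw [sx1, sy1, u, u', dl_ax0 p0, dl_ax0 p0]
    refine ⟨Or.inr ?_, fun h => absurd (zb_inj _ h) (by simp)⟩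
    rw [Dat.P, Dat.P, Pu_mul]; exact P_four _
  · have e1 : dl (sx 2) = D.P (D.cl 3184) := dl_x 3184
    have e2 : dl (sy 2) = _ := dl_w1
    have h := cm2
    simp only [ev_append, ev_cons, ev_nil, mul_one, ev_pw'] at h
    have h1 := dl_sq (sy_XX (m := 2) (by omega))
    have h2 : dl (sx 2) * dl (sx 2) = 1 :=
      dl_sq (by rw [show sx 2 = _ from vc_xq (by omega) false]
                exact ax_XX (dom_even ⟨by omega, by omega⟩) _)
    have h3 : dl (sx 2) * dl (sy 2) = dl (sy 2) * dl (sx 2) := by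
      rw [e1, e2]; change D.P (cl _) * (_ * D.P (cl _) * _) = _ * D.P (cl _) * _ * D.P (cl _)
      simpa [t, mul_assoc] using h
    refine ⟨Or.inr ?_, fun c => ?_⟩
    · rw [show 4 = 2 * 2 from rfl, pow_mul, sq (dl _ * _), mul_assoc, ← mul_assoc (dl (sy 2)), ← h3,
        mul_assoc, h1, mul_one, h2, one_pow]
    · have : cN 2 (pw (cl 3184)) (25 :: (pw (cl 3072) ++ [25])) = true := by decide +kernel
      refine (cN_sound this ?_).elim
      rw [e1, e2] at c
      change D.P (cl _) = _ * D.P (cl _) * _ at c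
      simpa [ev_pw', t, mul_assoc] using c
  · have e1 : dl (sx 3) = s := (dl_x 2048).trans cl_s
    have e2 : dl (sy 3) = _ := dl_w2
    rw [e1, e2]
    refine ⟨Or.inl ?_, fun c => ?_⟩
    · rw [tst', ← mul_assoc, ← mul_assoc, s_sq, one_mul]
      calc (t * s) ^ 3 = t * s * t * (s * t * s) := by simp [pow_succ, mul_assoc]
        _ = 1 := by
          rw [← tst']
          calc _ = t * (s * (t * t) * s) * t := by group
            _ = 1 := by rw [t_sq, mul_one, s_sq, mul_one, t_sq]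
    · have : cN 0 [10] [25, 10, 25] = true := by decide +kernel
      refine (cN_sound this ?_).elim
      simpa [t, s, mul_assoc] using c
  · have e1 : dl (sx 4) = D.P (D.cl 4304) := dl_x 4304
    have e2 : dl (sy 4) = D.P (D.cl 2052) := dl_x 2052
    rw [e1, e2]
    refine ⟨Or.inr ?_, fun h => ?_⟩
    · rw [Dat.P, Dat.P, Pu_mul]; exact P_four _
    · have := Pu_inj _ h
      exact absurd (D_ok.cl_inj _ _ p0 ⟨by omega, by omega⟩ this.1 this.2.1) (by omega)

theorem four {x y : VV} (hx : x ∈ XX) (hy : y ∈ XX) :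
    (dl x * dl y) ^ 3 = 1 ∨ (dl x * dl y) ^ 4 = 1 := by
  obtain ⟨h, hh, m, hm, e1, e2⟩ := pairs hx hy
  have := (std_prod hm).1
  rw [← e1, ← dl_pm (sy_XX hm) e2, dl_smul hh hx, dl_smul hh hy,
    show h * dl x * h⁻¹ * (h * dl y * h⁻¹) = h * (dl x * dl y) * h⁻¹ by group, conj_pow, conj_pow] at this
  simpa using this

theorem dl_inj {x y : VV} (hx : x ∈ XX) (hy : y ∈ XX) (e : dl x = dl y) : y = x ∨ y = -x := by
  obtain ⟨h, hh, m, hm, e1, e2⟩ := pairs hx hy
  obtain rfl := (std_prod hm).2 (by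
    rw [← e1, ← dl_pm (sy_XX hm) e2, dl_smul hh hx, dl_smul hh hy, e])
  rw [show sy 0 = sx 0 from rfl, ← e1, ← smul_neg'', smul_left_cancel_iff, smul_left_cancel_iff] at e2
  exact e2

theorem t_dl : t = dl (s • wv 2) := by
  rw [dl_smul (KK_GP s_mem) (wv_XX (by omega)), dl_w2, tst', ← mul_assoc, ← mul_assoc, s_sq, one_mul,
    mul_inv_cancel_right]

theorem not_X1 {y y' : VV} (hy : y ∈ XO 1) (hy' : y' ∈ XX) (e : dl y' = D.z * dl y) : False := by
  obtain ⟨k, hk, rfl⟩ := mem_XO.1 hy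
  have hw : inM km [24, 28, 24, 28, 29, 29, 31, 24, 35, 24, 29, 24, 28, 24, 28, 33, 35, 29] = true := by decide +kernel
  have h1 := Ctx.cj (C := C) hw 2890720
  have h2 := km_mem hw
  change _ * ev g _ = ev g _ * _ at h1
  rw [show cw C.cm [24, 28, 24, 28, 29, 29, 31, 24, 35, 24, 29, 24, 28, 24, 28, 33, 35, 29] 2890720 = 5952780 by decide +kernel] at h1
  generalize ev g [24, 28, 24, 28, 29, 29, 31, 24, 35, 24, 29, 24, 28, 24, 28, 33, 35, 29] = a at h1 h2
  have h3 : D.P 2890720 = D.P 2097152 * D.P (D.cl 3072) := by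
    rw [Dat.P, Dat.P, Dat.P, Pu_mul, ← mulK_eq, show mulK 2097152 (D.cl 3072) = 2890720 by
      decide +kernel]
  have hg : (k * t * a)⁻¹ ∈ GP := GP.inv_mem (GP.mul_mem (GP.mul_mem (KK_GP hk) t_GP) (KK_GP h2))
  have h4 : dl ((k * t * a)⁻¹ • y') = D.P 5952780 := by
    rw [dl_smul hg hy', e, dl_smul (KK_GP hk) (wv_XX (by omega)), dl_w1, ← mul_left_inj a⁻¹,
      ← mul_right_inj a, ← mul_assoc a (D.P _), ← h1, h3, ← tz, ← mul_assoc D.z, ← mul_assoc D.z,
      ← hk.comm]
    simp [mul_assoc, t_inv, ← mul_assoc t t, t_sq]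
  have h5 := four (GP_XX hg hy') (GP_XX (KK_GP s_mem) (wv_XX (j := 2) (by omega)))
  rw [h4, ← t_dl, ← ev_pw', show pw 5952780 = [22, 20, 19, 17, 15, 14, 12, 10, 8, 3, 2] by decide +kernel] at h5
  rcases h5 with h5 | h5
  · exact cN_sound ex3 (by simpa [pow_succ, mul_assoc, t] using h5)
  · exact cN_sound ex4 (by simpa [pow_succ, mul_assoc, t] using h5)

theorem z_ax {p : ℕ} (hp : dom p) (c : Bool) : D.z • ax p c = ax p c := by
  rw [ax, BP.x1, smul_add', show D.z • D.ph p = D.ph p from (D_ok.rel_P _ hp).1, smul_smul',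
    smul_smul']
  change _ + _ • _ • PL D.cl _ _ = _
  rw [PL_bv_pt _ _ hp.2.1 hp.2.2]; simp

theorem B_self {x : VV} (hx : x ∈ XX) : D.B x x = 7168 := by
  obtain ⟨a, ha, rfl⟩ := XX_orb hx
  rw [GP_iso ha, ← sx1]; exact B_std.1

theorem B_om {k : ℕ} (hk : pt k) : D.B (D.om k) (D.om k) = 3072 := by
  have := B_self (ax_XX (dom_even hk) false)
  rw [B_ax (dom_even hk) (dom_even hk), if_pos rfl, ph_even] at this
  simp only [sn_false] at this
  linarith

theorem centZ {h : GG} (hh : h ∈ GP) (hz : h * D.z = D.z * h) : h ∈ D.KK := by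
  refine ⟨GP_iso hh, hz, fun k hk => ?_⟩
  have hx := fun c => ax_XX (dom_even hk) c
  have e0 : ∀ c, dl (h • ax (16 * k) (!c)) = D.z * dl (h • ax (16 * k) c) := fun c => by
    rw [dl_smul hh (hx _), dl_smul hh (hx _), dl_ax0 hk, dl_ax0 hk, ← mul_assoc, ← mul_assoc, ← hz,
      mul_assoc h D.z, Dat.z, Dat.P, Dat.P, zz_mul, Nat.xor_assoc, ← zb_xor]
    cases c <;> rfl
  have key : ∀ c, h • ax (16 * k) c ∈ XO 0 := fun c => by
    obtain ⟨j, hj, a⟩ := GP_XX hh (hx c)
    have q : qz (h • ax (16 * k) c) = 7168 := by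
      rw [qz, smul_smul, ← hz, mul_smul, z_ax (dom_even hk), B_self (GP_XX hh (hx c))]
    interval_cases j
    · exact a
    · exact (not_X1 a (GP_XX hh (hx _)) (e0 c)).elim
    · rw [qz_of zw2 _ a] at q; norm_num at q
    · rw [qz_of zw3 _ a] at q; norm_num at q
    · rw [qz_of zw4 _ a] at q; norm_num at q
  obtain ⟨p, c, hp, e1⟩ := mem_X0.1 (key false)
  obtain ⟨q, c', hq, e2⟩ := mem_X0.1 (key true)
  obtain ⟨k1, a, hk1, rfl⟩ := dom_cases hp
  obtain ⟨k2, a', hk2, rfl⟩ := dom_cases hq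
  have e3 := e0 false
  rw [Bool.not_false, e1, e2, dl_ax hk1, dl_ax hk2, Dat.z, Dat.P, Dat.P, zz_mul] at e3
  have e4 := Pu_inj _ e3
  simp only [lo_xor, hi_xor, lo_zb, hi_zb, Nat.xor_zero, zc_xor, zc_zb] at e4
  obtain rfl := D_ok.cl_inj _ _ hk2 hk1 e4.1 e4.2.1
  have e5 := GP_iso hh (ax (16 * k) false) (ax (16 * k) true)
  rw [e1, e2, B_ax hp hq, B_ax (dom_even hk) (dom_even hk), div_mk, div_mk, if_pos rfl, if_pos rfl,
    ph_mk, ph_mk, ph_even, B_om hk, Dat.B, form_smul_left, form_smul_right, ← Dat.B, B_om hk2] at e5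
  have e6 : a' = a ∧ c' = !c := by
    have := e4.2.2
    cases a <;> cases a' <;> cases c <;> cases c' <;> simp at this ⊢ <;> norm_num at e5
  obtain ⟨rfl, rfl⟩ := e6
  have e7 := dl_smul hh (hx false)
  rw [e1, dl_ax hk2, dl_ax0 hk] at e7
  simp only [BP.x1, ph_mk, ph_even, div_mk, div_even, smul_add', smul_smul', sn_false, sn_true] at e1 e2
  have : sn (!c) = - sn c := by cases c <;> simp
  rw [this] at e2
  refine ⟨k2, hk2, a', c, ?_, ?_, ?_⟩
  · generalize h • D.om k = x at e1 e2 ⊢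
    generalize h • bv 4371 k = y at e1 e2 ⊢
    linear_combination (norm := module) (1 / 2 : ℚ) • e1 + (1 / 2 : ℚ) • e2
  · generalize h • D.om k = x at e1 e2 ⊢
    generalize h • bv 4371 k = y at e1 e2 ⊢
    linear_combination (norm := module) (1 / 128 : ℚ) • e1 - (1 / 128 : ℚ) • e2
  · rw [e7]; simp

theorem stab_eq : GP ⊓ MulAction.stabilizer GG u ⊓ MulAction.stabilizer GG u' =
    D.KK ⊓ MulAction.stabilizer GG u := by
  ext h
  simp only [Subgroup.mem_inf, MulAction.mem_stabilizer_iff]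
  constructor
  · rintro ⟨⟨h1, h2⟩, h3⟩
    refine ⟨centZ h1 ?_, h2⟩
    have a := dl_smul h1 u_XX
    have b := dl_smul h1 u'_XX
    rw [h2] at a
    rw [h3] at b
    have c : dl u' = D.z * dl u := by
      rw [u, u', dl_ax0 p0, dl_ax0 p0, Dat.z, Dat.P, Dat.P, zz_mul]; simp
    rw [c, ← mul_assoc] at b
    nth_rewrite 1 [a] at b
    rw [← mul_assoc, ← mul_assoc, mul_left_inj, mul_left_inj] at b
    exact b.symm
  · rintro ⟨h1, h2⟩
    refine ⟨⟨KK_GP h1, h2⟩, ?_⟩
    obtain ⟨q, hq, a⟩ := exists_ph h1 (dom_even p0)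
    obtain ⟨e, he⟩ := a.x1
    obtain ⟨rfl, b⟩ := ax_inj hq (dom_even p0) ((he false).symm.trans h2)
    obtain rfl : e = false := by simpa using b
    exact he true

theorem orbit_u : MulAction.orbit GP u = XX := by
  ext x
  exact ⟨by rintro ⟨h, rfl⟩; exact GP_XX h.2 u_XX, fun hx => by
    obtain ⟨h, hh, e⟩ := XX_orb hx; exact ⟨⟨h, hh⟩, e⟩⟩

instance : Finite XX := Nat.finite_of_card_ne_zero (by rw [card_XX]; norm_num)

theorem orbit_u' : MulAction.orbit ↥(GP ⊓ MulAction.stabilizer GG u) u' =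
    {y | y ∈ XX ∧ D.B u y = -1024} := by
  ext y
  constructor
  · rintro ⟨⟨h, h1, h2⟩, rfl⟩
    refine ⟨GP_XX h1 u'_XX, ?_⟩
    change D.B u (h • u') = _
    rw [← B_uu', ← GP_iso h1 u u', show h • u = u from h2]
  · rintro ⟨hy, e⟩
    obtain ⟨h, hh, m, hm, e1, e2⟩ := pairs u_XX hy
    obtain rfl : m = 1 := by
      rw [← adj_std hm, ← e1, ← adj_pm e2, adj_smul hh, adj, e]; norm_num
    rw [sx1] at e1
    rw [sy1] at e2
    rcases e2 with e2 | e2
    · exact ⟨⟨h⁻¹, GP.inv_mem hh, by change h⁻¹ • u = u; rw [inv_smul_eq_iff, e1]⟩,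
        by change h⁻¹ • u' = y; rw [inv_smul_eq_iff, e2]⟩
    · rw [← GP_iso hh, e1, e2, Dat.B, form_neg_right, ← Dat.B, B_uu'] at e
      norm_num at e

theorem card_orbit_u' : Nat.card {y | y ∈ XX ∧ D.B u y = -1024} = 3968055 := by
  have h := card_adj
  have h1 := card_two (α := XX) (fun y => D.B u y = -1024) fun y => D.B u y = 1024
  have h2 : Nat.card {y : XX // D.B u y = 1024} = Nat.card {y : XX // D.B u y = -1024} :=
    Nat.card_congr
      { toFun := fun y => ⟨⟨-y.1.1, neg_XX y.1.2⟩, by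
          rw [Dat.B, form_neg_right, ← Dat.B, y.2]⟩
        invFun := fun y => ⟨⟨-y.1.1, neg_XX y.1.2⟩, by
          rw [Dat.B, form_neg_right, ← Dat.B, y.2, neg_neg]⟩
        left_inv := fun y => by simp
        right_inv := fun y => by simp }
  have h3 : Nat.card {y : XX // D.B u y = -1024 ∧ D.B u y = 1024} = 0 :=
    Nat.card_eq_zero.2 (Or.inl ⟨fun y => by have := y.2; rw [this.1] at this; norm_num at this⟩)
  have h4 : Nat.card {y : XX // D.B u y = -1024 ∨ D.B u y = 1024} =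
      Nat.card ↥(XX ∩ {y | adj u y}) :=
    Nat.card_congr ((Equiv.subtypeEquivRight fun y => by
      rw [adj, sq_eq_sq_iff_eq_or_eq_neg, or_comm]).trans
      (Equiv.subtypeSubtypeEquivSubtypeInter (· ∈ XX) (adj u)))
  have h5 : Nat.card {y : XX // D.B u y = -1024} = Nat.card {y | y ∈ XX ∧ D.B u y = -1024} :=
    Nat.card_congr (Equiv.subtypeSubtypeEquivSubtypeInter (· ∈ XX) fun y => D.B u y = -1024)
  omega

theorem card_GP : Nat.card GP = 2 * 4154781481226426191177580544000000 := by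
  have h1 := card_orbit_stab D.KK u
  rw [card_KK, u, ← wv0, show MulAction.orbit D.KK (wv 0) = XO 0 from rfl, card_X0, wv0] at h1
  rw [card_orbit_stab GP u, orbit_u, card_XX, card_orbit_stab (GP ⊓ _) u', orbit_u', card_orbit_u',
    stab_eq]
  change _ = _ * Nat.card ↥(D.KK ⊓ MulAction.stabilizer GG u) at h1
  omega

end H29.BM
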