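import Mathlib
import Cfsg.Agent.H29.BM.G4
import Cfsg.Prelude.Def_Sporadic

/-!
# The simple group
-/

set_option autoImplicit false
set_option maxRecDepth 100000
set_option linter.all false

namespace H29.BM
open H19 H29.BE H29.BP H29.BP.Dat

/-- The normal closure of the central involution. -/
def BB : Subgroup GG := Subgroup.closure {x | ∃ h ∈ GP, x = h * D.z * h⁻¹}

theorem z_GP : D.z ∈ GP := KK_GP D_ok.z_mem
theorem BB_le : BB ≤ GP := (Subgroup.closure_le _).2 (by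
  rintro _ ⟨h, hh, rfl⟩; exact GP.mul_mem (GP.mul_mem hh z_GP) (GP.inv_mem hh))
theorem z_BB : D.z ∈ BB := Subgroup.subset_closure ⟨1, GP.one_mem, by simp⟩
theorem conj_BB {h : GG} (hh : h ∈ GP) {x : GG} (hx : x ∈ BB) : h * x * h⁻¹ ∈ BB :=
  (Subgroup.closure_le (BB.comap (MulAut.conj h).toMonoidHom)).2 (by
    rintro _ ⟨k, hk, rfl⟩
    exact Subgroup.subset_closure ⟨h * k, GP.mul_mem hh hk, by simp [mul_assoc]⟩) hx

theorem d_BB : d ∈ BB := by
  have h1 : D.P 2097152 ∈ BB := by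
    rw [← tz]; nth_rewrite 2 [← t_inv]; exact conj_BB t_GP z_BB
  have h2 : ∀ w, inM km w = true → D.P (cw cm w 2097152) ∈ BB := fun w hw => by
    have := Ctx.cj (C := C) hw 2097152
    change _ * ev g w = ev g w * D.P (cw cm w _) at this
    have h3 := conj_BB (GP.inv_mem (KK_GP (km_mem hw))) h1
    rwa [inv_inv, mul_assoc, this, inv_mul_cancel_left] at h3
  refine P_mem_of_ce z_BB (y := xorL (fun i => cw cm (nth [] [[24, 28, 29], [24, 28, 28], [24, 28, 28, 29, 29, 29, 28, 28, 28, 28, 38]] i) 2097152) [0, 1, 2])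
    (ceq_iff.1 (by decide +kernel)) (P_xorL z_BB _ fun k hk => h2 _ ?_)
  revert k
  decide +kernel

theorem dl_BB {x : VV} (hx : x ∈ XX) : dl x ∈ BB := by
  obtain ⟨a, ha, rfl⟩ := XX_orb hx
  rw [dl_u ha]; exact conj_BB ha d_BB

theorem P_BB (x : ℕ) : D.P x ∈ BB := D_ok.P_ind z_BB (fun k hk => by
  have := dl_BB (ax_XX (dom_even hk) false)
  rw [dl_ax0 hk] at this
  simpa using this) x

theorem t_BB : t ∈ BB := by
  rw [t_dl]; exact dl_BB (GP_XX (KK_GP s_mem) (wv_XX (by omega)))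

theorem y_BB (c : ℕ) (hc : (2 ^ 40 - 2 ^ 30 : ℕ).testBit c = true) : g c ∈ BB := by
  have h1 : ∀ c < 40, (2 ^ 40 - 2 ^ 30 : ℕ).testBit c = true →
      ∃ x ∈ tcl, x.1 = c ∧ inM (2 ^ 23 - 1) x.2 = true := by decide +kernel
  obtain ⟨x, hx, rfl, h2⟩ := h1 c (bit_lt (by decide) hc) hc
  have h3 : ev g x.2 ∈ BB := mem_of_inM (fun c hc => by
    rw [g_pau c (bit_lt (by decide) hc)]; exact P_BB _) h2
  rw [← tc_conj (tc_all x hx)] at h3
  simpa [mul_assoc] using conj_BB (GP.inv_mem t_GP) h3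

theorem neg_mul' (a b : GG) : -(a * b) = -a * b := Units.ext (by simp)
theorem mul_neg' (a b : GG) : -(a * b) = a * -b := Units.ext (by simp)
@[simp] theorem neg_neg' (a : GG) : - -a = a := Units.ext (by simp)
theorem neg_inv' (a : GG) : (-a)⁻¹ = -a⁻¹ := by
  rw [inv_eq_iff_mul_eq_one, ← neg_mul', ← mul_neg', neg_neg', mul_inv_cancel]

noncomputable def PB : Subgroup GG where
  carrier := {h | h ∈ BB ∨ -h ∈ BB}
  one_mem' := Or.inl BB.one_mem
  mul_mem' := by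
    rintro a b (ha | ha) (hb | hb)
    · exact Or.inl (BB.mul_mem ha hb)
    · exact Or.inr (by rw [mul_neg']; exact BB.mul_mem ha hb)
    · exact Or.inr (by rw [neg_mul']; exact BB.mul_mem ha hb)
    · exact Or.inl (by simpa [← neg_mul', ← mul_neg'] using BB.mul_mem ha hb)
  inv_mem' := by
    rintro a (ha | ha)
    · exact Or.inl (BB.inv_mem ha)
    · exact Or.inr (by rw [← neg_inv']; exact BB.inv_mem ha)

theorem conj_PB {h : GG} (hh : h ∈ GP) {x : GG} (hx : x ∈ PB) : h * x * h⁻¹ ∈ PB :=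
  hx.imp (conj_BB hh) fun a => by rw [neg_mul', mul_neg']; exact conj_BB hh a

theorem same_mod {u v : List ℕ} (h : and2 (inM km u) (and2 (inM km v)
    (allN 22 fun i => ceq (cw cm u (bit i)) (cw cm v (bit i)))) = true) :
    ev g u * (ev g v)⁻¹ ∈ PB := by
  simp only [and2_true, allN_true] at h
  obtain ⟨h1, h2, h3⟩ := h
  have a := km_mem h1
  have b := km_mem h2
  obtain ⟨x, hx⟩ := D_ok.of_classes tr (D.KK.mul_mem a (D.KK.inv_mem b)) fun i hi => by
    have c := Ctx.crel (C := C) h1 (h3 i hi)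
    have e := Ctx.crel (C := C) h2 (x := bit i) (ceq_iff.2 (ce.refl _))
    have := c.mul (D.KK.inv_mem b).comm (e.inv b.comm)
    rwa [bit, shl_eq, Nat.one_shiftLeft] at this
  rcases hx with hx | hx <;> rw [hx]
  · exact Or.inl (P_BB x)
  · exact Or.inr (by rw [neg_neg']; exact P_BB x)

theorem xi_PB : g 24 ∈ PB := by
  have h := same_mod (u := [31, 32, 34, 35, 37] ++ 24 :: ([31, 32, 34, 35, 37] ++ 24 :: ([31, 32, 34, 35, 37] ++ [24]))) (v := []) (by decide +kernel)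
  have hy : ev g [31, 32, 34, 35, 37] ∈ BB := mem_of_inM y_BB (by decide +kernel)
  have hx : (g 24)⁻¹ = g 24 := inv_eq_of_mul_eq_one_right (by simpa using xx)
  rw [ev_append, ev_cons _ 24, ev_append, ev_cons _ 24, ev_append, ev_cons _ 24, ev_nil, inv_one,
    mul_one, mul_one] at h
  generalize ev g [31, 32, 34, 35, 37] = y at h hy
  have h1 := conj_BB (KK_GP (lok_all 24 (by decide)).1) hy
  rw [hx] at h1
  have h2 : y * (g 24 * y * g 24) * y ∈ PB := Or.inl (BB.mul_mem (BB.mul_mem hy h1) hy)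
  simpa [mul_assoc] using PB.mul_mem (PB.inv_mem h2) h

theorem filt_PB {p : ℕ → Bool} : ∀ w : List ℕ, (∀ c ∈ w, g c ∈ GP ∧ (p c = true ∨ g c ∈ PB)) →
    ev g w * (ev g (w.filter p))⁻¹ ∈ PB
  | [], _ => by simp
  | c :: w, h => by
    have ih := filt_PB w fun a ha => h a (by simp [ha])
    have hc := h c (by simp)
    by_cases e : p c = true
    · rw [List.filter_cons_of_pos e]
      simpa [mul_assoc] using conj_PB hc.1 ih
    · rw [List.filter_cons_of_neg e]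
      simpa [mul_assoc] using PB.mul_mem (hc.2.resolve_left e) ih

theorem p_PB {c : ℕ} {w : List ℕ} (h1 : and2 (inM km [c]) (and2 (inM km w)
      (allN 22 fun i => ceq (cw cm [c] (bit i)) (cw cm w (bit i)))) = true)
    (h2 : and2 (inM km (w.filter (tb 805306368))) (and2 (inM km [])
      (allN 22 fun i => ceq (cw cm (w.filter (tb 805306368)) (bit i)) (cw cm [] (bit i)))) = true)
    (h3 : inM (2 ^ 40 - 2 ^ 28 + 2 ^ 24) w = true) : g c ∈ PB := by
  have a := same_mod h1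
  have b := same_mod h2
  have e := filt_PB (p := tb 805306368) w fun x hx => by
    have h4 := inM_true h3 x hx
    have h5 : ∀ c < 40, (2 ^ 40 - 2 ^ 28 + 2 ^ 24 : ℕ).testBit c = true → km.testBit c = true ∧
        (tb 805306368 c = true ∨ c = 24 ∨ (2 ^ 40 - 2 ^ 30 : ℕ).testBit c = true) := by
      decide +kernel
    obtain ⟨h6, h7⟩ := h5 x (bit_lt (by decide) h4) h4
    refine ⟨KK_GP (lok_all x h6).1, h7.imp_right ?_⟩
    rintro (rfl | h)
    exacts [xi_PB, Or.inl (y_BB x h)]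
  simpa [mul_assoc] using PB.mul_mem a (PB.mul_mem e b)

theorem GP_PB : GP ≤ PB :=
  GP_ind (K_ind (fun x => Or.inl (P_BB x)) (Or.inr (by rw [neg_neg']; exact BB.one_mem)) xi_PB
    (p_PB (w := [29, 28, 28, 24, 29, 29, 24, 29, 33, 28, 24, 28, 29, 30, 34, 35, 37, 39, 28, 28, 28, 28, 29, 28, 28, 29, 28, 29, 28, 29, 29, 28, 28, 28, 28, 29, 28, 28, 24, 29, 24, 28, 29, 28, 29, 28, 28, 37, 28, 37, 29, 29, 29, 28, 29, 29, 28, 28, 29, 28, 29, 29, 29, 28, 28, 28, 29, 28, 29, 28, 28, 28, 28, 28, 29, 29, 29, 29, 29, 29, 29, 29, 29, 28, 28, 29, 28, 29, 24, 29, 29, 24, 29, 33, 28, 24, 28, 29, 30, 34, 35, 37, 39, 28, 28, 28, 28, 29, 28, 28, 29, 28, 29, 28, 29, 29, 28, 28, 28, 28, 29, 28, 28, 24, 29, 24, 28, 29, 28, 29, 28, 28, 37, 28, 37, 29, 29, 29, 28, 29, 29, 28, 28, 29, 28, 29, 29, 29, 28, 28, 28, 29, 28, 29, 28, 28, 29, 28, 29, 28, 28, 29, 28, 29, 28, 28, 29, 28, 29, 28, 28, 29, 28, 29, 29, 28, 29, 24, 29, 29, 24, 29, 33,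 28, 24, 28, 29, 30, 34, 35, 37, 39, 28, 28, 28, 28, 29, 28, 28, 29, 28, 29, 28, 29, 29, 28, 28, 28, 28, 29, 28, 28, 24, 29, 24, 28, 29, 28, 29, 28, 28, 37, 28, 37, 29, 29, 29, 28, 29, 29, 28, 28, 29, 28, 29, 29, 29, 28, 28, 28, 29, 28, 29, 28, 29, 29, 29, 28, 29, 28, 29, 29, 29, 28, 29, 28, 29, 29, 28, 28, 29, 29, 24, 29, 29, 24, 29, 33, 28, 24, 28, 29, 30, 34, 35, 37, 39, 28, 28, 28, 28, 29, 28, 28, 29, 28, 29, 28, 29, 29, 28, 28, 28, 28, 29, 28, 28, 24, 29, 24, 28, 29, 28, 29, 28, 28, 37, 28, 37, 29, 29, 29, 28, 29, 29, 28, 28, 29, 28, 29, 29, 29, 28, 28, 28, 29, 28, 29, 29, 29, 29, 29, 29, 29, 29, 29, 28, 28, 28, 28, 28]) (by decide +kernel) (by decide +kernel) (by decide +kernel))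
    (p_PB (w := [24, 29, 29, 24, 29, 33, 28, 24, 28, 29, 30, 34, 35, 37, 39, 28, 28, 28, 28, 29, 28, 28, 29, 28, 29, 28, 29, 29, 28, 28, 28, 28, 29, 28, 28, 24, 29, 24, 28, 29, 28, 29, 28, 28, 37, 28, 37, 29, 29, 29, 28, 29, 29, 28, 28, 29, 28, 29, 29, 29, 28, 28, 28, 29, 28, 29, 28, 29, 28, 24, 29, 29, 24, 29, 33, 28, 24, 28, 29, 30, 34, 35, 37, 39, 28, 28, 28, 28, 29, 28, 28, 29, 28, 29, 28, 29, 29, 28, 28, 28, 28, 29, 28, 28, 24, 29, 24, 28, 29, 28, 29, 28, 28, 37, 28, 37, 29, 29, 29, 28, 29, 29, 28, 28, 29, 28, 29, 29, 29, 28, 28, 28, 29, 28, 29, 29, 29, 29, 28, 29, 28, 29, 29, 29, 28, 29, 28, 29, 29, 29, 28, 29, 29, 24, 29, 29, 24, 29, 33, 28, 24, 28, 29, 30, 34, 35, 37, 39, 28, 28, 28, 28, 29, 28, 28, 29, 28, 29, 28, 29, 29, 28, 28, 28, 28, 29, 28, 28, 24, 29, 24, 28, 29, 28, 29, 28, 28, 37, 28, 37, 29, 29, 29, 28, 29, 29, 28, 28, 29, 28, 29, 29, 29, 28, 28, 28, 29, 28, 29, 29, 29, 29, 29, 29, 29, 29, 29, 28,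 28, 28, 28, 28, 28, 28, 28, 29, 29, 28, 24, 29, 29, 24, 29, 33, 28, 24, 28, 29, 30, 34, 35, 37, 39, 28, 28, 28, 28, 29, 28, 28, 29, 28, 29, 28, 29, 29, 28, 28, 28, 28, 29, 28, 28, 24, 29, 24, 28, 29, 28, 29, 28, 28, 37, 28, 37, 29, 29, 29, 28, 29, 29, 28, 28, 29, 28, 29, 29, 29, 28, 28, 28, 29, 28, 29, 29, 29, 28, 29, 29, 28, 28, 28, 29, 29, 29, 28, 28, 28, 28, 29, 29, 28, 28, 28, 24, 29, 29, 24, 29, 33, 28, 24, 28, 29, 30, 34, 35, 37, 39, 28, 28, 28, 28, 29, 28, 28, 29, 28, 29, 28, 29, 29, 28, 28, 28, 28, 29, 28, 28, 24, 29, 24, 28, 29, 28, 29, 28, 28, 37, 28, 37, 29, 29, 29, 28, 29, 29, 28, 28, 29, 28, 29, 29, 29, 28, 28, 28, 29, 28, 29, 28, 28, 28, 28, 29, 29, 29, 29, 29, 29, 29, 29, 29]) (by decide +kernel) (by decide +kernel) (by decide +kernel))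
    (Or.inl (y_BB 30 (by decide)))) (Or.inl t_BB)

theorem z_comm : D.P 1 * D.P (2 ^ 11) = D.z * D.P (2 ^ 11) * D.P 1 := by
  have := Pu_comm D.cl 1 (2 ^ 11)
  rw [sp_pow_hi 1 (j := 0) (by omega), show Nat.testBit 1 0 = true from rfl, ← zz_mul] at this
  exact this

theorem neg_BB : (-1 : GG) ∉ BB := fun h => by
  let φ : GG →* ℚˣ := Units.map (LinearMap.det : Module.End ℚ VV →* ℚ)
  have h1 : φ D.z = 1 := by
    have := congrArg φ z_comm
    simp only [map_mul] at this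
    rw [mul_comm, mul_left_inj, eq_comm, mul_eq_right] at this
    exact this
  have h2 : BB ≤ φ.ker := (Subgroup.closure_le _).2 (by
    rintro _ ⟨k, -, rfl⟩
    simp [h1])
  have h3 := congrArg Units.val (MonoidHom.mem_ker.1 (h2 h))
  change LinearMap.det (-1 : Module.End ℚ VV) = 1 at h3
  rw [← neg_one_smul ℚ, LinearMap.det_smul, map_one, Module.finrank_fin_fun] at h3
  norm_num at h3

instance : Finite GP := Nat.finite_of_card_ne_zero (by rw [card_GP]; norm_num)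
instance : Finite BB := Finite.of_injective _ (Subgroup.inclusion_injective BB_le)

theorem card_BB : Nat.card BB = 4154781481226426191177580544000000 := by
  have h1 : (BB.subgroupOf GP).index = 2 := Subgroup.index_eq_two_iff.2 ⟨⟨-1, neg_GP⟩, fun b => by
    simp only [Subgroup.mem_subgroupOf, Subgroup.coe_mul]
    have e : b.1 * -1 = -b.1 := by rw [← mul_neg', mul_one]
    have : ¬ (-b.1 ∈ BB ∧ b.1 ∈ BB) := fun h => neg_BB (by
      simpa [← neg_mul'] using BB.mul_mem h.1 (BB.inv_mem h.2))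
    have := GP_PB b.2
    change _ ∨ _ at this
    rw [e, xor_def]; tauto⟩
  have h2 := (BB.subgroupOf GP).card_mul_index
  rw [h1, card_GP, Nat.card_congr (Subgroup.subgroupOfEquivOfLe BB_le).toEquiv] at h2
  omega

theorem fpf_inv {M : Subgroup GG} [Finite M] {a : GG} (ha : a * a = 1)
    (h1 : ∀ m ∈ M, a * m * a⁻¹ ∈ M) (h2 : ∀ m ∈ M, m * a = a * m → m = 1) :
    ∀ m ∈ M, a * m * a⁻¹ = m⁻¹ := fun m hm => by
  let φ : M →* M := ((MulAut.conj a).toMonoidHom.comp M.subtype).codRestrict M fun x => h1 x x.2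
  have h3 : MonoidHom.FixedPointFree φ := fun x hx => Subtype.ext (h2 x x.2 (by
    have : a * x * a⁻¹ = x := congrArg Subtype.val hx
    rw [mul_inv_eq_iff_eq_mul] at this; exact this.symm))
  have h4 : Function.Involutive φ := fun x => Subtype.ext (by
    change a * (a * x * a⁻¹) * a⁻¹ = x
    calc _ = a * a * x * (a * a)⁻¹ := by group
      _ = _ := by rw [ha]; simp)
  exact congrArg Subtype.val (congrFun (h3.coe_eq_inv_of_involutive h4) ⟨m, hm⟩)

theorem bot_of_not {M : Subgroup GG} (hle : M ≤ BB) (hM : ∀ h ∈ GP, ∀ m ∈ M, h * m * h⁻¹ ∈ M)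
    (hz : D.z ∉ M) : M = ⊥ := by
  have : Finite M := Finite.of_injective _ (Subgroup.inclusion_injective hle)
  have q : ∀ w, D.P w ∈ M → D.P w = 1 := fun w hw => by
    have h0 : ∀ v, sp v w = false := fun v => by
      have a := M.mul_mem (hM _ (KK_GP (D_ok.P_mem v)) _ hw) (M.inv_mem hw)
      rw [Dat.P, Dat.P, Pu_comm, mul_inv_cancel_right, ← Pu_zb_mul, mul_inv_cancel_right] at a
      cases h : sp v w
      · rfl
      · rw [h] at a; exact absurd a hz
    have e : D.P w = D.P (zb (zc w)) := Pu_congr _ (Nat.eq_of_testBit_eq fun j => by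
        by_cases c : j < 11
        · simp [testBit_lo, ← sp_pow_hi w c, sp_comm w, h0]
        · simp [testBit_lo, c]) (Nat.eq_of_testBit_eq fun j => by
        by_cases c : j < 11
        · simp [testBit_hi, ← sp_pow_lo w c, sp_comm w, h0]
        · simp [testBit_hi, c]) (by simp)
    rw [e] at hw ⊢
    cases h : zc w
    · exact Pu_zero _
    · rw [h] at hw; exact absurd hw hz
  have c0 : ∀ m ∈ M, m * D.z = D.z * m → m = 1 := fun m hm e => by
    have hk := centZ (BB_le (hle hm)) e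
    obtain ⟨c, hc⟩ := D_ok.centQ tr hk fun x => by
      obtain ⟨y, hy⟩ := D_ok.norm hk x
      have a := M.mul_mem hm (hM _ (KK_GP (D_ok.P_mem x)) _ (M.inv_mem hm))
      rw [← mul_assoc, ← mul_assoc, hy, mul_inv_cancel_right, Dat.P, Dat.P, Pu_inv, Pu_mul] at a
      have b := q _ a
      rw [Dat.P, ← Pu_mul, ← Pu_inv, mul_inv_eq_one] at b
      rw [hy, Dat.P, b]; rfl
    rcases hc with rfl | rfl
    · exact q _ hm
    · exact (neg_BB (by simpa [← neg_mul'] using BB.mul_mem (hle hm) (BB.inv_mem (P_BB (zb c))))).elim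
  have c1 : ∀ a ∈ GP, ∀ m ∈ M, m * (a * D.z * a⁻¹) = a * D.z * a⁻¹ * m → m = 1 := fun a ha m hm e => by
    have := c0 _ (hM _ (GP.inv_mem ha) m hm) (by
      calc a⁻¹ * m * a⁻¹⁻¹ * D.z = a⁻¹ * (m * (a * D.z * a⁻¹)) * a := by group
        _ = _ := by rw [e]; group)
    simpa [mul_assoc, inv_mul_eq_iff_eq_mul] using this
  have zz' : D.z * D.z = 1 := zz_sq _
  have i0 := fpf_inv zz' (hM _ z_GP) c0
  have i1 := fpf_inv (a := t * D.z * t⁻¹) (by
    calc _ = t * (D.z * D.z) * t⁻¹ := by group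
      _ = 1 := by rw [zz']; simp)
    (hM _ (GP.mul_mem (GP.mul_mem t_GP z_GP) (GP.inv_mem t_GP))) (c1 t t_GP)
  have e : s * t * D.z * (s * t)⁻¹ = D.z * (t * D.z * t⁻¹) := by
    have := Pu_comm D.cl (2 ^ 10) (2 ^ (11 + 10))
    rw [sp_pow_hi _ (by omega), show Nat.testBit (2 ^ 10) 10 = true from rfl, ← zz_mul] at this
    rw [mul_inv_rev, t_inv, tz, ← mul_assoc, mul_inv_eq_iff_eq_mul, mul_assoc s, mul_assoc s, tz, s_eq]
    exact this
  refine (Subgroup.eq_bot_iff_forall _).2 fun m hm =>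
    c1 (s * t) (GP.mul_mem (KK_GP s_mem) t_GP) m hm ?_
  rw [e, eq_comm, ← mul_inv_eq_iff_eq_mul]
  calc _ = D.z * (t * D.z * t⁻¹ * m * (t * D.z * t⁻¹)⁻¹) * D.z⁻¹ := by group
    _ = m := by rw [i1 m hm, i0 _ (M.inv_mem hm), inv_inv]

instance BB_simple : IsSimpleGroup BB where
  exists_pair_ne := ⟨⟨_, z_BB⟩, 1, fun h => zz_ne _ (congrArg Subtype.val h)⟩
  eq_bot_or_eq_top_of_normal H hH := by
    have hM : ∀ h ∈ GP, ∀ m ∈ H.map BB.subtype, h * m * h⁻¹ ∈ H.map BB.subtype := by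
      rintro h hh _ ⟨m, hm, rfl⟩
      rcases GP_PB hh with a | a
      · exact ⟨_, hH.conj_mem m hm ⟨h, a⟩, rfl⟩
      · exact ⟨_, hH.conj_mem m hm ⟨-h, a⟩, by simp [neg_inv', ← neg_mul', ← mul_neg']⟩
    by_cases hz : D.z ∈ H.map BB.subtype
    · refine Or.inr (top_unique fun x _ => ?_)
      have : BB ≤ H.map BB.subtype := (Subgroup.closure_le _).2 (by
        rintro _ ⟨h, hh, rfl⟩; exact hM h hh _ hz)
      obtain ⟨y, hy, e⟩ := this x.2
      exact Subtype.ext e ▸ hy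
    · exact Or.inl ((Subgroup.map_eq_bot_iff_of_injective _ BB.subtype_injective).1
        (bot_of_not (Subgroup.map_subtype_le _) hM hz))

theorem isB : Cfsg.IsB BB := ⟨BB_simple, card_BB⟩

theorem BB_nonab : ∃ a b : BB, a * b ≠ b * a :=
  ⟨⟨_, P_BB 1⟩, ⟨_, P_BB (2 ^ 11)⟩, fun h => by
    have : D.P 1 * D.P (2 ^ 11) = D.P (2 ^ 11) * D.P 1 := congrArg Subtype.val h
    rw [z_comm, mul_left_inj, mul_eq_right] at this
    exact zz_ne _ this⟩

theorem card_conj {G : Type} [Group G] [Finite G] (e : G) :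
    Nat.card G = Nat.card (conjugatesOf e) * Nat.card (Subgroup.centralizer ({e} : Set G)) := by
  rw [← card_fib (fun g : G => g * e * g⁻¹) (conjugatesOf e) _ Nat.card_pos.ne']
  · exact (Nat.card_congr (Equiv.subtypeUnivEquiv fun g => isConj_iff.2 ⟨g, rfl⟩)).symm
  · intro y hy
    obtain ⟨a, rfl⟩ := isConj_iff.1 hy
    refine Nat.card_congr (Equiv.subtypeEquiv (Equiv.mulLeft a⁻¹) fun k => ?_)
    simp only [Equiv.coe_mulLeft, Subgroup.mem_centralizer_singleton_iff]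
    constructor
    · intro h
      calc a⁻¹ * k * e = a⁻¹ * (k * e * k⁻¹) * k := by group
        _ = _ := by rw [h]; group
    · intro h
      calc k * e * k⁻¹ = a * (a⁻¹ * k * e) * k⁻¹ := by group
        _ = _ := by rw [h]; group

noncomputable def dB : BB := ⟨d, d_BB⟩

theorem mem_class {e : BB} : e ∈ conjugatesOf dB ↔ ∃ x ∈ XX, dl x = e := by
  constructor
  · intro h
    obtain ⟨a, rfl⟩ := isConj_iff.1 h
    exact ⟨_, GP_XX (BB_le a.2) u_XX, dl_u (BB_le a.2)⟩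
  · rintro ⟨x, hx, h⟩
    obtain ⟨a, ha, rfl⟩ := XX_orb hx
    rw [dl_u ha] at h
    rcases GP_PB ha with b | b
    · exact isConj_iff.2 ⟨⟨a, b⟩, Subtype.ext h⟩
    · exact isConj_iff.2 ⟨⟨-a, b⟩, Subtype.ext (by
        simpa [neg_inv', ← neg_mul', ← mul_neg', dB] using h)⟩

theorem card_class : Nat.card (conjugatesOf dB) = 13571955000 := by
  have := card_fib (fun x : XX => (⟨dl x, dl_BB x.2⟩ : BB)) (conjugatesOf dB) 2 (by omega)
    fun e he => by
      obtain ⟨x, hx, h⟩ := mem_class.1 he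
      refine Nat.card_eq_two_iff.2 ⟨⟨⟨x, hx⟩, Subtype.ext h⟩,
        ⟨⟨-x, neg_XX hx⟩, Subtype.ext ((dl_neg hx).trans h)⟩, fun c => ?_, ?_⟩
      · have c1 : x = -x := congrArg (·.1.1) c
        have c2 := B_self hx
        have c3 := c2
        nth_rewrite 1 [c1] at c3
        rw [Dat.B, form_neg_left, ← Dat.B, c2] at c3
        norm_num at c3
      · refine Set.eq_univ_of_forall fun y => ?_
        rcases dl_inj hx y.1.2 (h.trans (congrArg Subtype.val y.2).symm) with c | c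
        · exact Or.inl (Subtype.ext (Subtype.ext c))
        · exact Or.inr (Subtype.ext (Subtype.ext c))
  rw [Nat.card_congr (Equiv.subtypeUnivEquiv fun x => mem_class.2 ⟨x.1, x.2, rfl⟩), card_XX] at this
  omega

end H29.BM
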