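import Mathlib
import Cfsg.Agent.H19.PM

/-!
# Rows of packed digits and Hadamard layers

A row packs the entries of several vectors at one coordinate, with an offset.  A tree of rows is
a batch of vectors.  `layer` applies a signed permutation and then a block diagonal orthogonal map.
-/

set_option autoImplicit false

namespace H29.BE
open H19 Finset

theorem lit_e {α : Type} (x : ℕ) (k : ℕ → α) : lit x k = k x := (lit_eq x k).trans rfl

/-- Digit width `b`, number of columns `C`, offset `h`, and multiples of the all-one row. -/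
structure Par where
  b : ℕ
  C : ℕ
  h : ℕ
  c2 : ℕ
  c4 : ℕ
  c8 : ℕ
  c16 : ℕ
  c14 : ℕ
  c15 : ℕ
  k0 : ℕ
  k1 : ℕ
  k2 : ℕ

/-- The row with all digits equal to `a`. -/
def cst (b C a : ℕ) : ℕ := pack b C fun _ => a

structure Par.OK (P : Par) : Prop where
  lt : 36 * P.h < 2 ^ P.b
  pw : ∃ p, 2 * P.h = 2 ^ p
  c2 : P.c2 = cst P.b P.C (2 * P.h)
  c4 : P.c4 = cst P.b P.C (4 * P.h)
  c8 : P.c8 = cst P.b P.C (8 * P.h)
  c16 : P.c16 = cst P.b P.C (16 * P.h)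
  c14 : P.c14 = cst P.b P.C (14 * P.h)
  c15 : P.c15 = cst P.b P.C (15 * P.h)
  k0 : P.k0 = cst P.b P.C ((2 * P.h - 1) * 2 ^ 0)
  k1 : P.k1 = cst P.b P.C ((2 * P.h - 1) * 2 ^ 1)
  k2 : P.k2 = cst P.b P.C ((2 * P.h - 1) * 2 ^ 2)

/-- The all-one row, by one division. -/
def gone (b C : ℕ) : ℕ := Nat.div (ones (Nat.mul b C)) (ones b)

theorem ones_eq (n : ℕ) : ones n = 2 ^ n - 1 := by simp [ones, Nat.shiftLeft_eq]

theorem cst_one_mul (b : ℕ) : ∀ C, cst b C 1 * (2 ^ b - 1) + 1 = 2 ^ (b * C)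
  | 0 => by simp [cst, pack]
  | C + 1 => by
    have h := cst_one_mul b C
    have h1 : 1 ≤ 2 ^ b := Nat.one_le_two_pow
    rw [cst, pack_succ, mul_add, mul_one, pow_add, ← h]
    change (1 + 2 ^ b * cst b C 1) * (2 ^ b - 1) + 1 = _
    obtain ⟨m, hm⟩ : ∃ m, 2 ^ b = m + 1 := ⟨2 ^ b - 1, by omega⟩
    rw [hm, Nat.add_sub_cancel]; ring

theorem gone_eq {b : ℕ} (hb : 0 < b) (C : ℕ) : gone b C = cst b C 1 := by
  have h := cst_one_mul b C
  have h1 : 1 < 2 ^ b := Nat.one_lt_two_pow (by omega)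
  rw [gone, ones_eq, ones_eq]
  change (2 ^ (b * C) - 1) / (2 ^ b - 1) = _
  rw [← h, Nat.add_sub_cancel, Nat.mul_div_cancel _ (by omega)]

theorem cst_mul (b C a : ℕ) : cst b C 1 * a = cst b C a := by
  rw [cst, pack_mul]; simp [cst]

/-- Build the parameters for offset `2 ^ p` and digits of `p + 6` bits. -/
noncomputable def mkPar (p C : ℕ) (k : Par → Bool) : Bool :=
  lit (Nat.add p 6) fun b => lit (Nat.shiftLeft 1 p) fun h => lit (gone b C) fun G =>
  lit (Nat.mul G (Nat.mul 2 h)) fun c2 => lit (Nat.mul G (Nat.mul 4 h)) fun c4 =>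
  lit (Nat.mul G (Nat.mul 8 h)) fun c8 => lit (Nat.mul G (Nat.mul 16 h)) fun c16 =>
  lit (Nat.mul G (Nat.mul 14 h)) fun c14 => lit (Nat.mul G (Nat.mul 15 h)) fun c15 =>
  lit (Nat.mul G (Nat.sub (Nat.mul 2 h) 1)) fun k0 => lit (Nat.mul k0 2) fun k1 =>
  lit (Nat.mul k0 4) fun k2 => k ⟨b, C, h, c2, c4, c8, c16, c14, c15, k0, k1, k2⟩

theorem mkPar_sound {p C : ℕ} {k : Par → Bool} (h : mkPar p C k = true) :
    ∃ P : Par, P.OK ∧ P.b = p + 6 ∧ P.C = C ∧ P.h = 2 ^ p ∧ k P = true := by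
  simp only [mkPar, lit_e] at h
  refine ⟨_, ?_, rfl, rfl, ?_, h⟩
  · have e : Nat.shiftLeft 1 p = 2 ^ p := by simp [Nat.shiftLeft_eq]
    have g := gone_eq (b := Nat.add p 6) (Nat.succ_pos _) C
    refine ⟨?_, ⟨p + 1, ?_⟩, ?_, ?_, ?_, ?_, ?_, ?_, ?_, ?_, ?_⟩ <;> simp only [e, g]
    · change 36 * 2 ^ p < 2 ^ (p + 6)
      have := Nat.two_pow_pos p
      rw [pow_add]; omega
    · rw [pow_succ, mul_comm]
    any_goals exact cst_mul _ _ _
    · rw [pow_zero, mul_one]; exact cst_mul _ _ _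
    · rw [← cst_mul _ _ (_ * _), ← mul_assoc]; rfl
    · rw [← cst_mul _ _ (_ * _), ← mul_assoc]; rfl
  · simp [Nat.shiftLeft_eq]

/-- `x` packs the values `f` with offset `o` and digits at most `m`. -/
def Row (P : Par) (x o m : ℕ) (f : ℕ → ℚ) : Prop :=
  ∃ g : ℕ → ℕ, x = pack P.b P.C g ∧ ∀ c < P.C, g c ≤ m ∧ (g c : ℚ) = o + f c

variable {P : Par}

theorem Row.congr {x o m o' m' : ℕ} {f f' : ℕ → ℚ} (h : Row P x o m f) (ho : o = o') (hm : m ≤ m')
    (hf : ∀ c < P.C, f c = f' c) : Row P x o' m' f' := by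
  obtain ⟨g, h1, h2⟩ := h
  exact ⟨g, h1, fun c hc => ⟨(h2 c hc).1.trans hm, by rw [← ho, ← hf c hc]; exact (h2 c hc).2⟩⟩

theorem Row.add {x o m y o' m' : ℕ} {f f' : ℕ → ℚ} (h : Row P x o m f) (h' : Row P y o' m' f') :
    Row P (Nat.add x y) (o + o') (m + m') fun c => f c + f' c := by
  obtain ⟨g, rfl, h2⟩ := h
  obtain ⟨g', rfl, h2'⟩ := h'
  refine ⟨_, pack_add _ _ _ _, fun c hc => ⟨add_le_add (h2 c hc).1 (h2' c hc).1, ?_⟩⟩
  push_cast; rw [(h2 c hc).2, (h2' c hc).2]; ring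

theorem Row.cst (a : ℕ) : Row P (cst P.b P.C a) a a fun _ => 0 :=
  ⟨_, rfl, fun _ _ => ⟨le_rfl, by simp⟩⟩

theorem Row.addc {x o m : ℕ} {f : ℕ → ℚ} (h : Row P x o m f) (a : ℕ) :
    Row P (Nat.add x (BE.cst P.b P.C a)) (o + a) (m + a) f :=
  (h.add (Row.cst a)).congr rfl le_rfl fun _ _ => by simp

theorem Row.neg {y o a : ℕ} {f : ℕ → ℚ} (h : Row P y o (2 * o) f) (ha : a = 2 * o) :
    Row P (Nat.sub (BE.cst P.b P.C a) y) o (2 * o) fun c => - f c := by
  obtain ⟨g, rfl, h2⟩ := h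
  subst ha
  refine ⟨fun c => 2 * o - g c, ?_, fun c hc => ⟨Nat.sub_le _ _, ?_⟩⟩
  · change BE.cst _ _ _ - _ = _
    rw [Nat.sub_eq_iff_eq_add, pack_add, BE.cst]
    · exact pack_congr fun c hc => by have := (h2 c hc).1; omega
    · exact sum_le_sum fun c hc => Nat.mul_le_mul_right _ (h2 c (mem_range.1 hc)).1
  · rw [Nat.cast_sub (h2 c hc).1, (h2 c hc).2]; push_cast; ring

theorem pack_inj {b k : ℕ} {f g : ℕ → ℕ} (hf : ∀ t < k, f t < 2 ^ b) (hg : ∀ t < k, g t < 2 ^ b)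
    (h : pack b k f = pack b k g) : ∀ t < k, f t = g t := fun t ht => by
  have := congrArg (fun x => ent b x t) h
  simpa [ent_pack hf, ent_pack hg, ht] using this

theorem pack_land {b k : ℕ} {f g : ℕ → ℕ} (hf : ∀ t < k, f t < 2 ^ b) (hg : ∀ t < k, g t < 2 ^ b) :
    pack b k f &&& pack b k g = pack b k fun t => f t &&& g t := by
  rw [← pack_ent (b := b) (k := k) (c := _ &&& _) (lt_of_le_of_lt Nat.and_le_left (pack_lt hf))]
  exact pack_congr fun t ht => by rw [ent_land, ent_pack hf, ent_pack hg, if_pos ht, if_pos ht]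

theorem Row.eq (hP : P.OK) {x : ℕ} {f f' : ℕ → ℚ} (h : Row P x P.h (2 * P.h) f)
    (h' : Row P x P.h (2 * P.h) f') : ∀ c < P.C, f c = f' c := by
  obtain ⟨g, rfl, h2⟩ := h
  obtain ⟨g', h1, h2'⟩ := h'
  have := hP.lt
  intro c hc
  have e := pack_inj (fun t ht => by have := (h2 t ht).1; omega)
    (fun t ht => by have := (h2' t ht).1; omega) h1 c hc
  have h3 := (h2 c hc).2
  rw [e, (h2' c hc).2] at h3
  exact (add_left_cancel h3).symm

theorem Row.eq_of {x y : ℕ} {f f' : ℕ → ℚ} (h : Row P x P.h (2 * P.h) f)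
    (h' : Row P y P.h (2 * P.h) f') (e : ∀ c < P.C, f c = f' c) : x = y := by
  obtain ⟨g, rfl, h2⟩ := h
  obtain ⟨g', rfl, h2'⟩ := h'
  refine pack_congr fun c hc => ?_
  have : (g c : ℚ) = g' c := by rw [(h2 c hc).2, (h2' c hc).2, e c hc]
  exact_mod_cast this

/-- Check range and divisibility, divide by `2 ^ s` and restore the offset. -/
noncomputable def nrm (P : Par) (K s x : ℕ) (k : ℕ → Bool) : Bool :=
  let y := Nat.land x K
  Bool.rec false (lit (Nat.shiftRight y s) k) (Nat.beq x (Nat.add y P.c16))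

theorem land_keep (g p s : ℕ) : ∃ m, m < 2 ^ p ∧ g &&& ((2 ^ p - 1) * 2 ^ s) = m * 2 ^ s := by
  refine ⟨(g >>> s) % 2 ^ p, Nat.mod_lt _ (Nat.two_pow_pos p), Nat.eq_of_testBit_eq fun i => ?_⟩
  simp only [Nat.testBit_and, Nat.testBit_mul_two_pow, Nat.testBit_two_pow_sub_one,
    Nat.testBit_mod_two_pow, Nat.testBit_shiftRight]
  by_cases h : s ≤ i
  · simp [h, Bool.and_comm]
  · simp [h]

theorem nrm_sound (hP : P.OK) {K s x : ℕ} {k : ℕ → Bool} {f : ℕ → ℚ} (hs : s ≤ 2)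
    (hK : K = cst P.b P.C ((2 * P.h - 1) * 2 ^ s))
    (hx : Row P x (16 * P.h + 2 ^ s * P.h) (36 * P.h) f) (h : nrm P K s x k = true) :
    ∃ y, k y = true ∧ Row P y P.h (2 * P.h) fun c => f c / 2 ^ s := by
  obtain ⟨g, rfl, h2⟩ := hx
  obtain ⟨p, hp⟩ := hP.pw
  have hl := hP.lt
  have hs4 : 2 ^ s ≤ 4 := by interval_cases s <;> norm_num
  simp only [nrm, lit_e] at h
  cases hb : Nat.beq (pack P.b P.C g) (Nat.add (Nat.land (pack P.b P.C g) K) P.c16) with
  | false => rw [hb] at h; exact absurd h (by simp)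
  | true =>
    rw [hb] at h
    refine ⟨_, h, ?_⟩
    choose m hm using fun c => land_keep (g c) p s
    have hg : ∀ t < P.C, g t < 2 ^ P.b := fun t ht => by have := (h2 t ht).1; omega
    have hb4 : (2 * P.h - 1) * 2 ^ s ≤ 8 * P.h :=
      (Nat.mul_le_mul (Nat.sub_le _ _) hs4).trans (by omega)
    have e1 : Nat.land (pack P.b P.C g) K = pack P.b P.C m * 2 ^ s := by
      rw [land_eq, hK, cst, pack_land hg fun _ _ => by omega, pack_mul]
      exact pack_congr fun t _ => by rw [hp]; exact (hm t).2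
    have hm8 : ∀ t, m t * 2 ^ s ≤ 8 * P.h := fun t =>
      (Nat.mul_le_mul (hm t).1.le hs4).trans (by omega)
    have e2 := beq_true.1 hb
    rw [e1, hP.c16, pack_mul, cst] at e2
    replace e2 := e2.trans (pack_add _ _ _ _)
    have e3 := pack_inj hg (fun t _ => by have := hm8 t; omega) e2
    refine ⟨m, ?_, fun c hc => ⟨by have := (hm c).1; omega, ?_⟩⟩
    · rw [e1, shr_eq, Nat.shiftRight_eq_div_pow, Nat.mul_div_cancel _ (Nat.two_pow_pos s)]
    · have e4 := (h2 c hc).2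
      rw [e3 c hc] at e4
      push_cast at e4
      field_simp
      linarith

/-- The four signed sums. -/
def h4f (a b c d : ℚ) (i : ℕ) : ℚ :=
  if i = 0 then a + b + c + d else if i = 1 then a - b + c - d else
    if i = 2 then a + b - c - d else a - b - c + d

/-- Two butterfly levels. -/
noncomputable def bf4 (c1 c2 a b c d : ℕ) (k : ℕ → ℕ → ℕ → ℕ → Bool) : Bool :=
  let s0 := Nat.add a b
  let d0 := Nat.add a (Nat.sub c1 b)
  let s1 := Nat.add c d
  let d1 := Nat.add c (Nat.sub c1 d)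
  k (Nat.add s0 s1) (Nat.add d0 d1) (Nat.add s0 (Nat.sub c2 s1)) (Nat.add d0 (Nat.sub c2 d1))

theorem bf4_sound {c1 c2 a b c d o e : ℕ} {k : ℕ → ℕ → ℕ → ℕ → Bool} {fa fb fc fd : ℕ → ℚ}
    (h1 : c1 = cst P.b P.C (2 * o)) (h2 : c2 = cst P.b P.C (4 * o))
    (ha : Row P a (o + e) (2 * o + e) fa) (hb : Row P b o (2 * o) fb) (hc : Row P c o (2 * o) fc)
    (hd : Row P d o (2 * o) fd) (h : bf4 c1 c2 a b c d k = true) :
    ∃ x0 x1 x2 x3, k x0 x1 x2 x3 = true ∧
      Row P x0 (4 * o + e) (2 * (4 * o) + e) (fun j => h4f (fa j) (fb j) (fc j) (fd j) 0) ∧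
      Row P x1 (4 * o + e) (2 * (4 * o) + e) (fun j => h4f (fa j) (fb j) (fc j) (fd j) 1) ∧
      Row P x2 (4 * o + e) (2 * (4 * o) + e) (fun j => h4f (fa j) (fb j) (fc j) (fd j) 2) ∧
      Row P x3 (4 * o + e) (2 * (4 * o) + e) (fun j => h4f (fa j) (fb j) (fc j) (fd j) 3) := by
  simp only [bf4] at h
  subst h1 h2
  have s0 := ha.add hb
  have d0 := ha.add (hb.neg rfl)
  have s1 : Row P _ (2 * o) (2 * (2 * o)) _ := (hc.add hd).congr (by ring) (by omega) fun _ _ => rfl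
  have d1 : Row P _ (2 * o) (2 * (2 * o)) _ :=
    (hc.add (hd.neg rfl)).congr (by ring) (by omega) fun _ _ => rfl
  refine ⟨_, _, _, _, h, (s0.add s1).congr (by ring) (by omega) ?_,
    (d0.add d1).congr (by ring) (by omega) ?_,
    (s0.add (s1.neg (a := 4 * o) (by ring))).congr (by ring) (by omega) ?_,
    (d0.add (d1.neg (a := 4 * o) (by ring))).congr (by ring) (by omega) ?_⟩ <;>
  · intro _ _; simp [h4f]; ring

/-- A batch of vectors: the row at each position (in the kernel, a decision tree). -/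
abbrev T : Type := ℕ → ℕ

theorem ble_ite {α : Type} (a b : α) (p i : ℕ) :
    (Bool.rec a b (Nat.ble p i) : α) = if p ≤ i then b else a := by
  by_cases h : p ≤ i
  · rw [ble_true.2 h, if_pos h]
  · have : Nat.ble p i = false := by rw [← Bool.not_eq_true, ble_true]; exact h
    rw [this, if_neg h]

/-- A quad at position `p`. -/
noncomputable def mkq (p a b c d : ℕ) (k : T → Bool) : Bool :=
  lit (Nat.add p (nat_lit 1)) fun p1 => lit (Nat.add p (nat_lit 2)) fun p2 =>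
  lit (Nat.add p (nat_lit 3)) fun p3 =>
    k fun i => @Bool.rec (fun _ => ℕ) (@Bool.rec (fun _ => ℕ) a b (Nat.ble p1 i))
      (@Bool.rec (fun _ => ℕ) c d (Nat.ble p3 i)) (Nat.ble p2 i)

/-- Join two trees at `p`. -/
noncomputable def ndK (p : ℕ) (l r : T) (k : T → Bool) : Bool :=
  k fun i => @Bool.rec (fun _ => ℕ) (l i) (r i) (Nat.ble p i)

/-- Join four quads. -/
noncomputable def nd4 (p4 p8 p12 : ℕ) (q0 q1 q2 q3 : T) (k : T → Bool) : Bool :=
  k fun i => @Bool.rec (fun _ => ℕ) (@Bool.rec (fun _ => ℕ) (q0 i) (q1 i) (Nat.ble p4 i))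
    (@Bool.rec (fun _ => ℕ) (q2 i) (q3 i) (Nat.ble p12 i)) (Nat.ble p8 i)

/-- The rows of `t` at the positions `lo ≤ i < hi` pack the values `u c i`. -/
def Rows (P : Par) (t : T) (lo hi : ℕ) (u : ℕ → ℕ → ℚ) : Prop :=
  ∀ i, lo ≤ i → i < hi → Row P (t i) P.h (2 * P.h) fun c => u c i

theorem mkq_sound {p a b c d : ℕ} {k : T → Bool} {u : ℕ → ℕ → ℚ}
    (ha : Row P a P.h (2 * P.h) fun j => u j p) (hb : Row P b P.h (2 * P.h) fun j => u j (p + 1))
    (hc : Row P c P.h (2 * P.h) fun j => u j (p + 2))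
    (hd : Row P d P.h (2 * P.h) fun j => u j (p + 3)) (h : mkq p a b c d k = true) :
    ∃ t, k t = true ∧ Rows P t p (p + 4) u := by
  simp only [mkq, lit_e] at h
  refine ⟨_, h, fun i h1 h2 => ?_⟩
  simp only [ble_ite]
  change Row P (if p + 2 ≤ i then (if p + 3 ≤ i then d else c) else if p + 1 ≤ i then b else a) _ _ _
  have : i = p ∨ i = p + 1 ∨ i = p + 2 ∨ i = p + 3 := by omega
  rcases this with rfl | rfl | rfl | rfl <;> simpa

theorem Rows.node {l r : T} {lo p hi : ℕ} {u : ℕ → ℕ → ℚ} (hl : Rows P l lo p u)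
    (hr : Rows P r p hi u) : Rows P (fun i => @Bool.rec (fun _ => ℕ) (l i) (r i) (Nat.ble p i)) lo hi u :=
    fun i h1 h2 => by
  simp only [ble_ite]
  split_ifs with h
  · exact hr i h h2
  · exact hl i h1 (by omega)

theorem Rows.congr {t : T} {lo hi : ℕ} {u u' : ℕ → ℕ → ℚ} (h : Rows P t lo hi u)
    (e : ∀ c i, lo ≤ i → i < hi → u c i = u' c i) : Rows P t lo hi u' := fun i h1 h2 =>
  (h i h1 h2).congr rfl le_rfl fun c _ => e c i h1 h2

/-- Normalise four rows and make a quad. -/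
noncomputable def nq (P : Par) (K s p a b c d : ℕ) (k : T → Bool) : Bool :=
  nrm P K s a fun a => nrm P K s b fun b => nrm P K s c fun c => nrm P K s d fun d => mkq p a b c d k

theorem nq_sound (hP : P.OK) {K s p a b c d : ℕ} {k : T → Bool} {u : ℕ → ℕ → ℚ} (hs : s ≤ 2)
    (hK : K = cst P.b P.C ((2 * P.h - 1) * 2 ^ s))
    (ha : Row P a (16 * P.h + 2 ^ s * P.h) (36 * P.h) fun j => u j p)
    (hb : Row P b (16 * P.h + 2 ^ s * P.h) (36 * P.h) fun j => u j (p + 1))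
    (hc : Row P c (16 * P.h + 2 ^ s * P.h) (36 * P.h) fun j => u j (p + 2))
    (hd : Row P d (16 * P.h + 2 ^ s * P.h) (36 * P.h) fun j => u j (p + 3))
    (h : nq P K s p a b c d k = true) :
    ∃ t, k t = true ∧ Rows P t p (p + 4) fun j i => u j i / 2 ^ s := by
  obtain ⟨a', h, ha'⟩ := nrm_sound hP hs hK ha h
  obtain ⟨b', h, hb'⟩ := nrm_sound hP hs hK hb h
  obtain ⟨c', h, hc'⟩ := nrm_sound hP hs hK hc h
  obtain ⟨d', h, hd'⟩ := nrm_sound hP hs hK hd h
  exact mkq_sound (u := fun j i => u j i / 2 ^ s) ha' hb' hc' hd' h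

end H29.BE
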