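import Mathlib
import Cfsg.Agent.H29.BM.E1

/-!
# Block shapes and the gather-and-transform step
-/

set_option autoImplicit false

namespace H29.BE
open H19 Finset

/-- Block diagonal maps: identity blocks, Hadamard blocks and the rational `3 × 3` block. -/
inductive Sh : Type
  | i1 (p : ℕ) : Sh
  | i16 (p : ℕ) : Sh
  | h4 (p : ℕ) : Sh
  | h16 (p : ℕ) : Sh
  | t3 (p : ℕ) : Sh
  | nd (p : ℕ) (l r : Sh) : Sh

def h16f (f : ℕ → ℚ) (i : ℕ) : ℚ :=
  h4f (h4f (f 0) (f 1) (f 2) (f 3) (i / 4)) (h4f (f 4) (f 5) (f 6) (f 7) (i / 4))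
    (h4f (f 8) (f 9) (f 10) (f 11) (i / 4)) (h4f (f 12) (f 13) (f 14) (f 15) (i / 4)) (i % 4)

def t3f (a b c : ℚ) (i : ℕ) : ℚ :=
  if i = 0 then (b + c) / 2 else if i = 1 then a + (b - c) / 2 else a - (b - c) / 2

/-- The map denoted by a shape. -/
def Sh.sem : Sh → (ℕ → ℚ) → ℕ → ℚ
  | .i1 _, f, i => f i
  | .i16 _, f, i => f i
  | .h4 p, f, i => h4f (f p) (f (p + 1)) (f (p + 2)) (f (p + 3)) (i - p) / 2 ^ 1
  | .h16 p, f, i => h16f (fun j => f (p + j)) (i - p) / 2 ^ 2
  | .t3 p, f, i => t3f (f p) (f (p + 1)) (f (p + 2)) (i - p)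
  | .nd p l r, f, i => if p ≤ i then r.sem f i else l.sem f i

/-- The shape covers exactly the positions `lo ≤ i < hi`. -/
def Sh.wf : Sh → ℕ → ℕ → Bool
  | .i1 p, lo, hi => Nat.beq p lo && Nat.beq hi (lo + 1)
  | .i16 p, lo, hi => Nat.beq p lo && Nat.beq hi (lo + 16)
  | .h4 p, lo, hi => Nat.beq p lo && Nat.beq hi (lo + 4)
  | .h16 p, lo, hi => Nat.beq p lo && Nat.beq hi (lo + 16)
  | .t3 p, lo, hi => Nat.beq p lo && Nat.beq hi (lo + 3)
  | .nd p l r, lo, hi => Nat.ble lo p && (Nat.ble p hi && (l.wf lo p && r.wf p hi))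

/-- The row named by the field `x`: the low bits are a position, bit 15 is a sign. -/
noncomputable def val (P : Par) (t : T) (x : ℕ) : ℕ :=
  @Bool.rec (fun _ => ℕ) (t x) (Nat.sub P.c2 (lit (Nat.sub x (nat_lit 32768)) t))
    (Nat.ble (nat_lit 32768) x)

theorem val_eq (P : Par) (t : T) (x : ℕ) :
    val P t x = if 32768 ≤ x then Nat.sub P.c2 (t (x - 32768)) else t x := by
  rw [val, ble_ite, lit_e]; rfl

/-- Field `j` of `X`. -/
def fld (X j : ℕ) : ℕ := Nat.land (Nat.shiftRight X (Nat.mul (nat_lit 16) j)) (nat_lit 65535)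

theorem fld_eq (X j : ℕ) : fld X j = ent 16 X j := by
  rw [fld, ent, land_eq, show nat_lit 65535 = 2 ^ 16 - 1 from rfl, Nat.and_two_pow_sub_one_eq_mod]; rfl

/-- Sixteen fields from position `p` on. -/
def blk (F p : ℕ) : ℕ := Nat.land (Nat.shiftRight F (Nat.mul 16 p))
  115792089237316195423570985008687907853269984665640564039457584007913129639935

theorem fld_blk (F p : ℕ) {j : ℕ} (hj : j < 16) : fld (blk F p) j = ent 16 F (p + j) := by
  rw [fld_eq, blk, land_eq, show 115792089237316195423570985008687907853269984665640564039457584007913129639935 = 2 ^ 256 - 1 by norm_num, ← ent_shr]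
  apply Nat.eq_of_testBit_eq
  intro i
  simp only [testBit_ent, Nat.testBit_and, Nat.testBit_two_pow_sub_one]
  by_cases h : i < 16
  · have : 16 * j + i < 256 := by omega
    simp only [h, this, decide_true, Bool.true_and, Bool.and_true]; rfl
  · simp [h]

noncomputable def gv (P : Par) (t : T) (X j : ℕ) (k : ℕ → Bool) : Bool :=
  lit (fld X j) fun x => lit (val P t x) k

noncomputable def g4 (P : Par) (t : T) (X j : ℕ) (k : ℕ → ℕ → ℕ → ℕ → Bool) : Bool :=
  gv P t X j fun a => gv P t X (Nat.add j 1) fun b => gv P t X (Nat.add j 2) fun c =>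
    gv P t X (Nat.add j 3) fun d => k a b c d

theorem g4_eq (P : Par) (t : T) (X j : ℕ) (k : ℕ → ℕ → ℕ → ℕ → Bool) : g4 P t X j k =
    k (val P t (fld X j)) (val P t (fld X (j + 1))) (val P t (fld X (j + 2)))
      (val P t (fld X (j + 3))) := by
  simp only [g4, gv, lit_e, Nat.add_eq]

noncomputable def li16 (P : Par) (t : T) (X p : ℕ) (k : T → Bool) : Bool :=
  lit (Nat.add p 4) fun p4 => lit (Nat.add p 8) fun p8 => lit (Nat.add p 12) fun p12 =>
  g4 P t X 0 fun a b c d => mkq p a b c d fun q0 =>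
  g4 P t X 4 fun a b c d => mkq p4 a b c d fun q1 =>
  g4 P t X 8 fun a b c d => mkq p8 a b c d fun q2 =>
  g4 P t X 12 fun a b c d => mkq p12 a b c d fun q3 =>
  nd4 p4 p8 p12 q0 q1 q2 q3 k

noncomputable def row4 (P : Par) (p a b c d : ℕ) (k : T → Bool) : Bool :=
  bf4 P.c8 P.c16 a b c d fun x y z w => nq P P.k2 2 p x y z w k

noncomputable def lh16 (P : Par) (t : T) (X p : ℕ) (k : T → Bool) : Bool :=
  lit (Nat.add p 4) fun p4 => lit (Nat.add p 8) fun p8 => lit (Nat.add p 12) fun p12 =>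
  g4 P t X 0 fun a b c d => bf4 P.c2 P.c4 (Nat.add a P.c4) b c d fun a0 a1 a2 a3 =>
  g4 P t X 4 fun a b c d => bf4 P.c2 P.c4 a b c d fun b0 b1 b2 b3 =>
  g4 P t X 8 fun a b c d => bf4 P.c2 P.c4 a b c d fun c0 c1 c2 c3 =>
  g4 P t X 12 fun a b c d => bf4 P.c2 P.c4 a b c d fun d0 d1 d2 d3 =>
  row4 P p a0 b0 c0 d0 fun q0 => row4 P p4 a1 b1 c1 d1 fun q1 =>
  row4 P p8 a2 b2 c2 d2 fun q2 => row4 P p12 a3 b3 c3 d3 fun q3 =>
  nd4 p4 p8 p12 q0 q1 q2 q3 k

noncomputable def lh4 (P : Par) (t : T) (X p : ℕ) (k : T → Bool) : Bool :=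
  g4 P t X 0 fun a b c d => bf4 P.c2 P.c4 (Nat.add a P.c14) b c d fun x y z w =>
    nq P P.k1 1 p x y z w k

noncomputable def lt3 (P : Par) (t : T) (X p : ℕ) (k : T → Bool) : Bool :=
  gv P t X 0 fun a => gv P t X 1 fun b => gv P t X 2 fun c =>
  nrm P P.k1 1 (Nat.add (Nat.add b c) P.c16) fun s =>
  nrm P P.k1 1 (Nat.add (Nat.add b (Nat.sub P.c2 c)) P.c16) fun e =>
  nrm P P.k0 0 (Nat.add (Nat.add a e) P.c15) fun y =>
  nrm P P.k0 0 (Nat.add (Nat.add a (Nat.sub P.c2 e)) P.c15) fun z => mkq p s y z z k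

/-- Gather the rows named by `F` and apply the blocks of the shape. -/
noncomputable def layer (P : Par) (t : T) (F : ℕ) (S : Sh) : (T → Bool) → Bool :=
  Sh.rec (motive := fun _ => (T → Bool) → Bool)
    (fun p k => gv P t F p fun a => k fun _ => a)
    (fun p k => lit (blk F p) fun X => li16 P t X p k)
    (fun p k => lit (blk F p) fun X => lh4 P t X p k)
    (fun p k => lit (blk F p) fun X => lh16 P t X p k)
    (fun p k => lit (blk F p) fun X => lt3 P t X p k)
    (fun p _ _ l r k => l fun tl => r fun tr => ndK p tl tr k) S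

variable {P : Par}

theorem layer_i1 (t : T) (F p : ℕ) (k : T → Bool) :
    layer P t F (.i1 p) k = gv P t F p fun a => k fun _ => a := by rw [layer]
theorem layer_i16 (t : T) (F p : ℕ) (k : T → Bool) :
    layer P t F (.i16 p) k = li16 P t (blk F p) p k := by rw [layer]; exact lit_e _ _
theorem layer_h4 (t : T) (F p : ℕ) (k : T → Bool) :
    layer P t F (.h4 p) k = lh4 P t (blk F p) p k := by rw [layer]; exact lit_e _ _
theorem layer_h16 (t : T) (F p : ℕ) (k : T → Bool) :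
    layer P t F (.h16 p) k = lh16 P t (blk F p) p k := by rw [layer]; exact lit_e _ _
theorem layer_t3 (t : T) (F p : ℕ) (k : T → Bool) :
    layer P t F (.t3 p) k = lt3 P t (blk F p) p k := by rw [layer]; exact lit_e _ _
theorem layer_nd (t : T) (F p : ℕ) (l r : Sh) (k : T → Bool) : layer P t F (.nd p l r) k =
    layer P t F l fun tl => layer P t F r fun tr => ndK p tl tr k := by rw [layer, layer, layer]

/-- The gathered rows pack the values `u`. -/
def Src (P : Par) (t : T) (F lo hi : ℕ) (u : ℕ → ℕ → ℚ) : Prop :=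
  ∀ i, lo ≤ i → i < hi → Row P (val P t (ent 16 F i)) P.h (2 * P.h) fun c => u c i

theorem Src.blk {t : T} {F lo hi : ℕ} {u : ℕ → ℕ → ℚ} (h : Src P t F lo hi u) (j : ℕ)
    (h1 : j < 16) (h2 : lo + j < hi) :
    Row P (val P t (fld (blk F lo) j)) P.h (2 * P.h) fun c => u c (lo + j) := by
  rw [fld_blk _ _ h1]; exact h _ (by omega) h2

theorem row4_sound (hP : P.OK) {p a b c d : ℕ} {k : T → Bool} {fa fb fc fd : ℕ → ℚ}
    (ha : Row P a (4 * P.h + 4 * P.h) (2 * (4 * P.h) + 4 * P.h) fa)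
    (hb : Row P b (4 * P.h + 0) (2 * (4 * P.h) + 0) fb)
    (hc : Row P c (4 * P.h + 0) (2 * (4 * P.h) + 0) fc)
    (hd : Row P d (4 * P.h + 0) (2 * (4 * P.h) + 0) fd)
    (h : row4 P p a b c d k = true) :
    ∃ t, k t = true ∧ Rows P t p (p + 4)
      fun j i => h4f (fa j) (fb j) (fc j) (fd j) (i - p) / 2 ^ 2 := by
  simp only [row4] at h
  obtain ⟨x, y, z, w, h, hx, hy, hz, hw⟩ := bf4_sound (o := 4 * P.h) (e := 4 * P.h)
    (hP.c8.trans (by congr 1; ring)) (hP.c16.trans (by congr 1; ring)) ha hb hc hd h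
  exact nq_sound hP (u := fun j i => h4f (fa j) (fb j) (fc j) (fd j) (i - p)) le_rfl hP.k2
    (hx.congr (by ring) (by omega) fun _ _ => by simp)
    (hy.congr (by ring) (by omega) fun _ _ => by simp)
    (hz.congr (by ring) (by omega) fun _ _ => by simp)
    (hw.congr (by ring) (by omega) fun _ _ => by simp) h

theorem layer_sound (hP : P.OK) {t : T} {F : ℕ} {u : ℕ → ℕ → ℚ} :
    ∀ (S : Sh) {lo hi : ℕ} {k : T → Bool}, S.wf lo hi = true → Src P t F lo hi u →
      layer P t F S k = true → ∃ t', k t' = true ∧ Rows P t' lo hi fun c => S.sem (u c)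
  | .i1 p, lo, hi, k, hw, hs, h => by
    simp only [Sh.wf, Bool.and_eq_true, beq_true] at hw
    obtain ⟨rfl, rfl⟩ := hw
    rw [layer_i1, gv, lit_e, lit_e] at h
    refine ⟨_, h, fun i h1 h2 => ?_⟩
    obtain rfl : i = p := by omega
    have := hs i h1 h2
    rwa [← fld_eq] at this
  | .i16 p, lo, hi, k, hw, hs, h => by
    simp only [Sh.wf, Bool.and_eq_true, beq_true] at hw
    obtain ⟨rfl, rfl⟩ := hw
    rw [layer_i16] at h
    simp only [li16, lit_e, g4_eq] at h
    have b := fun j (h1 : j < 16) => hs.blk j h1 (by omega)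
    obtain ⟨q0, h, h0⟩ := mkq_sound (u := u) (b 0 (by omega)) (b 1 (by omega)) (b 2 (by omega))
      (b 3 (by omega)) h
    obtain ⟨q1, h, h1⟩ := mkq_sound (u := u) (b 4 (by omega)) (b 5 (by omega)) (b 6 (by omega))
      (b 7 (by omega)) h
    obtain ⟨q2, h, h2⟩ := mkq_sound (u := u) (b 8 (by omega)) (b 9 (by omega)) (b 10 (by omega))
      (b 11 (by omega)) h
    obtain ⟨q3, h, h3⟩ := mkq_sound (u := u) (b 12 (by omega)) (b 13 (by omega)) (b 14 (by omega))
      (b 15 (by omega)) h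
    exact ⟨_, h, (h0.node h1).node (h2.node h3)⟩
  | .h4 p, lo, hi, k, hw, hs, h => by
    simp only [Sh.wf, Bool.and_eq_true, beq_true] at hw
    obtain ⟨rfl, rfl⟩ := hw
    rw [layer_h4] at h
    simp only [lh4, lit_e, g4_eq] at h
    have b := fun j (h1 : j < 4) => hs.blk j (by omega) (by omega)
    have a := (b 0 (by omega)).addc (14 * P.h)
    rw [← hP.c14] at a
    obtain ⟨x, y, z, w, h, hx, hy, hz, hw⟩ := bf4_sound hP.c2 hP.c4 a (b 1 (by omega))
      (b 2 (by omega)) (b 3 (by omega)) h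
    exact nq_sound hP (u := fun j i => h4f (u j p) (u j (p + 1)) (u j (p + 2)) (u j (p + 3)) (i - p))
      (by omega) hP.k1
      (hx.congr (by ring) (by omega) fun _ _ => by simp)
      (hy.congr (by ring) (by omega) fun _ _ => by simp)
      (hz.congr (by ring) (by omega) fun _ _ => by simp)
      (hw.congr (by ring) (by omega) fun _ _ => by simp) h
  | .h16 p, lo, hi, k, hw, hs, h => by
    simp only [Sh.wf, Bool.and_eq_true, beq_true] at hw
    obtain ⟨rfl, rfl⟩ := hw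
    rw [layer_h16] at h
    simp only [lh16, lit_e, g4_eq] at h
    have b := fun j (h1 : j < 16) => hs.blk j h1 (by omega)
    have a := (b 0 (by omega)).addc (4 * P.h)
    rw [← hP.c4] at a
    obtain ⟨a0, a1, a2, a3, h, ha0, ha1, ha2, ha3⟩ := bf4_sound hP.c2 hP.c4 a (b 1 (by omega))
      (b 2 (by omega)) (b 3 (by omega)) h
    obtain ⟨b0, b1, b2, b3, h, hb0, hb1, hb2, hb3⟩ := bf4_sound (e := 0) hP.c2 hP.c4
      (b 4 (by omega)) (b 5 (by omega)) (b 6 (by omega)) (b 7 (by omega)) h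
    obtain ⟨c0, c1, c2, c3, h, hc0, hc1, hc2, hc3⟩ := bf4_sound (e := 0) hP.c2 hP.c4
      (b 8 (by omega)) (b 9 (by omega)) (b 10 (by omega)) (b 11 (by omega)) h
    obtain ⟨d0, d1, d2, d3, h, hd0, hd1, hd2, hd3⟩ := bf4_sound (e := 0) hP.c2 hP.c4
      (b 12 (by omega)) (b 13 (by omega)) (b 14 (by omega)) (b 15 (by omega)) h
    obtain ⟨q0, h, h0⟩ := row4_sound hP ha0 hb0 hc0 hd0 h
    obtain ⟨q1, h, h1⟩ := row4_sound hP ha1 hb1 hc1 hd1 h
    obtain ⟨q2, h, h2⟩ := row4_sound hP ha2 hb2 hc2 hd2 h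
    obtain ⟨q3, h, h3⟩ := row4_sound hP ha3 hb3 hc3 hd3 h
    refine ⟨_, h, Rows.node (p := p + 8) (Rows.node (p := p + 4) (h0.congr ?_) (h1.congr ?_))
      (Rows.node (p := p + 12) (h2.congr ?_) (h3.congr ?_))⟩ <;>
    · intro c i h1 h2
      try simp only [Nat.add_eq] at h1 h2
      simp only [Sh.sem, h16f, Nat.add_eq]
      congr 2 <;> first | omega | (congr 1; omega)
  | .t3 p, lo, hi, k, hw, hs, h => by
    simp only [Sh.wf, Bool.and_eq_true, beq_true] at hw
    obtain ⟨rfl, rfl⟩ := hw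
    rw [layer_t3] at h
    simp only [lt3, gv, lit_e] at h
    have b := fun j (h1 : j < 3) => hs.blk j (by omega) (by omega)
    have hs := ((b 1 (by omega)).add (b 2 (by omega))).addc (16 * P.h)
    have he := ((b 1 (by omega)).add ((b 2 (by omega)).neg rfl)).addc (16 * P.h)
    rw [← hP.c16] at hs he
    rw [← hP.c2] at he
    obtain ⟨s, h, hs⟩ := nrm_sound hP (by omega) hP.k1
      (hs.congr (by ring) (by omega) fun _ _ => rfl) h
    obtain ⟨e, h, he⟩ := nrm_sound hP (by omega) hP.k1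
      (he.congr (by ring) (by omega) fun _ _ => rfl) h
    have hy := ((b 0 (by omega)).add he).addc (15 * P.h)
    have hz := ((b 0 (by omega)).add (he.neg rfl)).addc (15 * P.h)
    rw [← hP.c15] at hy hz
    rw [← hP.c2] at hz
    obtain ⟨y, h, hy⟩ := nrm_sound hP (by omega) hP.k0
      (hy.congr (by ring) (by omega) fun _ _ => rfl) h
    obtain ⟨z, h, hz⟩ := nrm_sound hP (by omega) hP.k0
      (hz.congr (by ring) (by omega) fun _ _ => rfl) h
    obtain ⟨t', h, ht⟩ := mkq_sound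
      (u := fun j i => t3f (u j p) (u j (p + 1)) (u j (p + 2)) (i - p))
      (hs.congr rfl le_rfl fun _ _ => by simp [t3f])
      (hy.congr rfl le_rfl fun _ _ => by simp [t3f]; ring)
      (hz.congr rfl le_rfl fun _ _ => by simp [t3f]; ring)
      (hz.congr rfl le_rfl fun _ _ => by simp [t3f]; ring) h
    exact ⟨t', h, fun i h1 h2 => ht i h1 (by omega)⟩
  | .nd p l r, lo, hi, k, hw, hs, h => by
    simp only [Sh.wf, Bool.and_eq_true, ble_true] at hw
    obtain ⟨h1, h2, h3, h4⟩ := hw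
    rw [layer_nd] at h
    obtain ⟨tl, h, hl⟩ := layer_sound hP l h3 (fun i a b => hs i a (by omega)) h
    obtain ⟨tr, h, hr⟩ := layer_sound hP r h4 (fun i a b => hs i (by omega) b) h
    refine ⟨_, h, (hl.congr ?_).node (hr.congr ?_)⟩ <;>
    · intro c i h1 h2
      simp only [Sh.sem]
      split_ifs <;> first | rfl | omega

theorem Sh.sem_add : ∀ (S : Sh) (f g : ℕ → ℚ) (i : ℕ), S.sem (f + g) i = S.sem f i + S.sem g i
  | .i1 _, _, _, _ => rfl
  | .i16 _, _, _, _ => rfl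
  | .h4 p, f, g, i => by simp only [Sh.sem, h4f, Pi.add_apply]; split_ifs <;> ring
  | .h16 p, f, g, i => by simp only [Sh.sem, h16f, h4f, Pi.add_apply]; split_ifs <;> ring
  | .t3 p, f, g, i => by simp only [Sh.sem, t3f, Pi.add_apply]; split_ifs <;> ring
  | .nd p l r, f, g, i => by
    simp only [Sh.sem, sem_add l, sem_add r]; split_ifs <;> rfl

theorem Sh.sem_smul : ∀ (S : Sh) (a : ℚ) (f : ℕ → ℚ) (i : ℕ), S.sem (a • f) i = a * S.sem f i
  | .i1 _, _, _, _ => rfl
  | .i16 _, _, _, _ => rfl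
  | .h4 p, a, f, i => by simp only [Sh.sem, h4f, Pi.smul_apply, smul_eq_mul]; split_ifs <;> ring
  | .h16 p, a, f, i => by
    simp only [Sh.sem, h16f, h4f, Pi.smul_apply, smul_eq_mul]; split_ifs <;> ring
  | .t3 p, a, f, i => by simp only [Sh.sem, t3f, Pi.smul_apply, smul_eq_mul]; split_ifs <;> ring
  | .nd p l r, a, f, i => by
    simp only [Sh.sem, sem_smul l, sem_smul r]; split_ifs <;> rfl

/-- The weights `W` suit the blocks of the shape. -/
noncomputable def Sh.okW (W : ℕ) (S : Sh) : Bool :=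
  Sh.rec (motive := fun _ => Bool) (fun _ => true) (fun _ => true)
    (fun p => allN 4 fun j => Nat.beq (fld W (Nat.add p j)) (fld W p))
    (fun p => allN 16 fun j => Nat.beq (fld W (Nat.add p j)) (fld W p))
    (fun p => and2 (Nat.beq (fld W p) (Nat.mul 2 (fld W (Nat.add p 1))))
      (Nat.beq (fld W (Nat.add p 2)) (fld W (Nat.add p 1))))
    (fun _ _ _ l r => and2 l r) S

theorem h16_iso (f g : ℕ → ℚ) :
    ∑ i ∈ range 16, h16f f i / 2 ^ 2 * (h16f g i / 2 ^ 2) = ∑ i ∈ range 16, f i * g i := by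
  simp only [sum_range_succ, sum_range_zero, h16f, h4f]
  norm_num
  ring

theorem Sh.iso {W : ℕ} (f g : ℕ → ℚ) : ∀ (S : Sh) {lo hi : ℕ}, S.wf lo hi = true → S.okW W = true →
    ∑ i ∈ Ico lo hi, (ent 16 W i : ℚ) * (S.sem f i * S.sem g i) =
      ∑ i ∈ Ico lo hi, (ent 16 W i : ℚ) * (f i * g i)
  | .i1 _, _, _, _, _ => rfl
  | .i16 _, _, _, _, _ => rfl
  | .h4 p, lo, hi, hw, ho => by
    simp only [Sh.wf, Bool.and_eq_true, beq_true] at hw
    obtain ⟨rfl, rfl⟩ := hw
    rw [okW] at ho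
    have ho : ∀ j < 4, ent 16 W (p + j) = ent 16 W p := fun j hj => by
      rw [← fld_eq, ← fld_eq]; exact beq_true.1 (allN_true.1 ho j hj)
    simp only [sum_Ico_eq_sum_range, add_tsub_cancel_left, sum_range_succ, sum_range_zero, Sh.sem,
      ho 1 (by omega), ho 2 (by omega), ho 3 (by omega), h4f]
    norm_num
    ring
  | .h16 p, lo, hi, hw, ho => by
    simp only [Sh.wf, Bool.and_eq_true, beq_true] at hw
    obtain ⟨rfl, rfl⟩ := hw
    rw [okW] at ho
    have ho : ∀ j < 16, ent 16 W (p + j) = ent 16 W p := fun j hj => by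
      rw [← fld_eq, ← fld_eq]; exact beq_true.1 (allN_true.1 ho j hj)
    simp only [sum_Ico_eq_sum_range, add_tsub_cancel_left, Sh.sem]
    rw [sum_congr rfl fun j hj => by rw [ho j (mem_range.1 hj)], ← mul_sum, h16_iso, mul_sum]
    exact sum_congr rfl fun j hj => by rw [ho j (mem_range.1 hj)]
  | .t3 p, lo, hi, hw, ho => by
    simp only [Sh.wf, Bool.and_eq_true, beq_true] at hw
    obtain ⟨rfl, rfl⟩ := hw
    obtain ⟨h1, h2⟩ := and2_true.1 ho
    rw [beq_true, fld_eq, fld_eq] at h1 h2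
    simp only [Nat.add_eq, Nat.mul_eq] at h1 h2
    simp only [sum_Ico_eq_sum_range, add_tsub_cancel_left, sum_range_succ, sum_range_zero, Sh.sem,
      h2, t3f, add_zero, h1]
    norm_num
    ring
  | .nd p l r, lo, hi, hw, ho => by
    simp only [Sh.wf, Bool.and_eq_true, ble_true] at hw
    obtain ⟨h1, h2, h3, h4⟩ := hw
    obtain ⟨o1, o2⟩ := and2_true.1 ho
    rw [← sum_Ico_consecutive _ h1 h2, ← sum_Ico_consecutive _ h1 h2, ← Sh.iso f g l h3 o1,
      ← Sh.iso f g r h4 o2]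
    congr 1 <;> refine sum_congr rfl fun i hi => ?_ <;> simp only [Sh.sem] <;>
      rw [mem_Ico] at hi <;> split_ifs <;> first | rfl | omega

end H29.BE
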