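import Mathlib
import Cfsg.Agent.H29.BM.E2

/-!
# Letters as linear maps, and the evaluation of words on batches of vectors
-/

set_option autoImplicit false

namespace H29.BE
open H19 Finset

abbrev V (n : ℕ) : Type := Fin n → ℚ

/-- Extension by zero. -/
def ext {n : ℕ} (v : V n) (k : ℕ) : ℚ := if h : k < n then v ⟨k, h⟩ else 0

theorem ext_val {n : ℕ} (v : V n) (i : Fin n) : ext v i = v i := by simp [ext]
theorem ext_lt {n : ℕ} (f : ℕ → ℚ) {k : ℕ} (h : k < n) : ext (fun i : Fin n => f i) k = f k := by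
  simp [ext, h]
theorem ext_add {n : ℕ} (v w : V n) : ext (v + w) = ext v + ext w := by
  funext k; simp only [ext, Pi.add_apply]; split_ifs <;> simp
theorem ext_smul {n : ℕ} (a : ℚ) (v : V n) : ext (a • v) = a • ext v := by
  funext k; simp only [ext, Pi.smul_apply]; split_ifs <;> simp
theorem ext_neg {n : ℕ} (v : V n) (k : ℕ) : ext (-v) k = - ext v k := by
  simp only [ext, Pi.neg_apply]; split_ifs <;> simp
theorem eq_of_ext {n : ℕ} {v w : V n} (h : ∀ k < n, ext v k = ext w k) : v = w := by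
  funext i; rw [← ext_val v, ← ext_val w, h i i.2]

/-- The signed selection given by the fields of `F`. -/
def gat (F : ℕ) (f : ℕ → ℚ) (k : ℕ) : ℚ :=
  if 32768 ≤ ent 16 F k then - f (ent 16 F k - 32768) else f (ent 16 F k)

def gatL (n F : ℕ) : Module.End ℚ (V n) where
  toFun v i := gat F (ext v) i
  map_add' v w := by
    funext i; simp only [gat, ext_add, Pi.add_apply]; split_ifs <;> ring
  map_smul' a v := by
    funext i; simp only [gat, ext_smul, Pi.smul_apply, smul_eq_mul, RingHom.id_apply]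
    split_ifs <;> ring

def Sh.lin (n : ℕ) (S : Sh) : Module.End ℚ (V n) where
  toFun v i := S.sem (ext v) i
  map_add' v w := by funext i; simp only [ext_add, Sh.sem_add, Pi.add_apply]
  map_smul' a v := by
    funext i; simp only [ext_smul, Sh.sem_smul, Pi.smul_apply, smul_eq_mul, RingHom.id_apply]

theorem ext_gatL {n : ℕ} (F : ℕ) (v : V n) {k : ℕ} (h : k < n) :
    ext (gatL n F v) k = gat F (ext v) k := ext_lt (gat F (ext v)) h

theorem ext_lin {n : ℕ} (S : Sh) (v : V n) {k : ℕ} (h : k < n) :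
    ext (S.lin n v) k = S.sem (ext v) k := ext_lt (S.sem (ext v)) h

def FOK (n F : ℕ) : Prop := ∀ k < n, ent 16 F k % 32768 < n

/-- A signed permutation: a network on fields of 16 bits and a mask of sign bits. -/
structure Mon where
  net : Net
  sg : ℕ

noncomputable def Mon.step (m : Mon) (F : ℕ) : ℕ := Nat.xor (m.net.pull F) m.sg
noncomputable def fidx (a : Net) (k : ℕ) : ℕ := a.perm (16 * k) / 16
def Mon.sgn (m : Mon) (k : ℕ) : ℚ := if m.sg.testBit (16 * k + 15) then -1 else 1

/-- All stages move whole fields; `G` is the all-one row. -/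
noncomputable def aligned (G : ℕ) (a : Net) : Bool :=
  Net.rec (motive := fun _ => Bool) true (fun d m _ ih =>
    and2 (Nat.beq (Nat.mod d 16) 0) (and2 (Nat.beq m (Nat.mul (Nat.land m G) 65535)) ih)) a

def Al (p : Equiv.Perm ℕ) : Prop := ∀ k, ∃ k', ∀ r < 16, p (16 * k + r) = 16 * k' + r

theorem ent_cst {b C a : ℕ} (ha : a < 2 ^ b) (t : ℕ) :
    ent b (cst b C a) t = if t < C then a else 0 := ent_pack (fun _ _ => ha) t

theorem field_const {N m : ℕ} (h : m = (m &&& cst 16 N 1) * 65535) (k : ℕ) {r : ℕ} (hr : r < 16) :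
    m.testBit (16 * k + r) = m.testBit (16 * k) := by
  have h1 : ∀ t, ent 16 (m &&& cst 16 N 1) t ≤ 1 := fun t => by
    rw [ent_land, ent_cst (by norm_num)]
    refine Nat.and_le_right.trans ?_
    split_ifs <;> omega
  have h2 : m &&& cst 16 N 1 < 2 ^ (16 * N) :=
    lt_of_le_of_lt Nat.and_le_right (pack_lt fun _ _ => by norm_num)
  have h3 : ent 16 m k = 0 ∨ ent 16 m k = 2 ^ 16 - 1 := by
    rw [h, ← pack_ent h2, pack_mul, ent_pack fun t _ => by have := h1 t; omega]
    have := h1 k
    split_ifs <;> omega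
  have h4 := testBit_ent 16 m k r
  have h5 := testBit_ent 16 m k 0
  rcases h3 with h3 | h3 <;> rw [h3] at h4 h5
  · simp [hr] at h4 h5; rw [h4, h5]
  · rw [Nat.testBit_two_pow_sub_one] at h4 h5
    simp [hr] at h4 h5; rw [h4, h5]

theorem aligned_sound {K N : ℕ} : ∀ {a : Net}, a.valid K = true → aligned (cst 16 N 1) a = true →
    Al a.perm
  | .nil, _, _ => fun k => ⟨k, fun _ _ => rfl⟩
  | .cons d m a, hv, h => by
    obtain ⟨h1, -, h3⟩ := Net.valid_cons.1 hv
    rw [aligned] at h
    obtain ⟨h4, h⟩ := and2_true.1 h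
    obtain ⟨h5, h6⟩ := and2_true.1 h
    rw [beq_true] at h4 h5
    have fc := field_const (N := N) h5
    obtain ⟨e, rfl⟩ : ∃ e, d = 16 * e := ⟨d / 16, by change d % 16 = 0 at h4; omega⟩
    intro k
    obtain ⟨j, hj⟩ := aligned_sound h3 h6 k
    simp only [Net.perm, Equiv.Perm.mul_apply, stagePerm_apply h1]
    by_cases c1 : m.testBit (16 * j) = true
    · refine ⟨j + e, fun r hr => ?_⟩
      rw [hj r hr, swapFun, fc j hr, if_pos c1]; ring
    · by_cases c2 : e ≤ j ∧ m.testBit (16 * (j - e)) = true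
      · refine ⟨j - e, fun r hr => ?_⟩
        have : 16 * j + r - 16 * e = 16 * (j - e) + r := by omega
        rw [hj r hr, swapFun, fc j hr, if_neg c1, this, fc _ hr, if_pos ⟨by omega, c2.2⟩]
      · refine ⟨j, fun r hr => ?_⟩
        rw [hj r hr, swapFun, fc j hr, if_neg c1, if_neg]
        rintro ⟨c3, c4⟩
        have : 16 * j + r - 16 * e = 16 * (j - e) + r := by omega
        rw [this, fc _ hr] at c4
        exact c2 ⟨by omega, c4⟩

theorem Al.eq {a : Net} (h : Al a.perm) (k : ℕ) {r : ℕ} (hr : r < 16) :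
    a.perm (16 * k + r) = 16 * fidx a k + r := by
  obtain ⟨j, hj⟩ := h k
  have := hj 0 (by omega)
  rw [add_zero] at this
  rw [hj r hr, fidx, this]; omega

/-- A network that permutes the first `n` fields. -/
structure NOK (n : ℕ) (a : Net) : Prop where
  valid : ∃ K, a.valid K = true
  al : Al a.perm
  lt : ∀ k < n, fidx a k < n

theorem NOK.inj {n : ℕ} {a : Net} (h : NOK n a) : Function.Injective (fidx a) := fun j k e => by
  have h1 := h.al.eq j (r := 0) (by omega)
  have h2 := h.al.eq k (r := 0) (by omega)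
  rw [e, ← h2] at h1
  have := a.perm.injective h1
  omega

theorem NOK.ent_pull {n : ℕ} {a : Net} (h : NOK n a) (x k : ℕ) :
    ent 16 (a.pull x) k = ent 16 x (fidx a k) := by
  obtain ⟨K, hK⟩ := h.valid
  apply Nat.eq_of_testBit_eq
  intro i
  simp only [testBit_ent, Net.testBit_pull hK]
  by_cases hi : i < 16
  · rw [h.al.eq k hi]
  · simp [hi]

noncomputable def nok (n N : ℕ) (a : Net) : Bool :=
  and2 (a.valid (Nat.mul 16 N)) (and2 (lit (gone 16 N) fun G => aligned G a)
    (Nat.beq (a.pull (ones (Nat.mul 16 n))) (ones (Nat.mul 16 n))))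

theorem nok_sound {n N : ℕ} {a : Net} (h : nok n N a = true) : NOK n a := by
  simp only [nok, and2_true, lit_e, beq_true, gone_eq (show 0 < 16 by omega)] at h
  obtain ⟨h1, h2, h3⟩ := h
  have al := aligned_sound h1 h2
  refine ⟨⟨_, h1⟩, al, fun k hk => ?_⟩
  have := congrArg (fun x => Nat.testBit x (16 * k + 0)) h3
  simp only [Net.testBit_pull h1, testBit_ones, al.eq k (show 0 < 16 by omega), Nat.mul_eq,
    decide_eq_decide] at this
  omega

structure Mon.OK (n : ℕ) (m : Mon) : Prop where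
  net : NOK n m.net
  sg : ∀ k, ent 16 m.sg k = if m.sg.testBit (16 * k + 15) then 32768 else 0

noncomputable def Mon.ok (n N : ℕ) (m : Mon) : Bool :=
  and2 (nok n N m.net) (sub m.sg (Nat.mul (gone 16 n) 32768))

theorem ent_of_sub {x n s : ℕ} (hs : s < 16) (h : sub x (Nat.mul (gone 16 n) (2 ^ s)) = true)
    (k : ℕ) : ent 16 x k = if x.testBit (16 * k + s) then 2 ^ s else 0 := by
  rw [gone_eq (by omega), Nat.mul_eq, cst_mul] at h
  apply Nat.eq_of_testBit_eq
  intro i
  rw [testBit_ent]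
  by_cases hi : i = s
  · subst hi
    split_ifs with c <;> simp [c, hs]
  · have : (decide (i < 16) && x.testBit (16 * k + i)) = false := by
      by_contra hc
      simp only [Bool.not_eq_false, Bool.and_eq_true, decide_eq_true_eq] at hc
      have h2 := sub_true h hc.2
      have h3 := testBit_ent 16 (cst 16 n (2 ^ s)) k i
      rw [h2, ent_cst (Nat.pow_lt_pow_right (by omega) hs)] at h3
      split_ifs at h3
      · simp [hc.1, Nat.testBit_two_pow] at h3; omega
      · simp [hc.1] at h3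
    rw [this]
    split_ifs
    · rw [Nat.testBit_two_pow_of_ne (Ne.symm hi)]
    · simp

theorem Mon.ok_sound {n N : ℕ} {m : Mon} (h : m.ok n N = true) : m.OK n := by
  rw [Mon.ok, and2_true] at h
  exact ⟨nok_sound h.1, ent_of_sub (s := 15) (by omega) h.2⟩

noncomputable def Mon.lin (n : ℕ) (m : Mon) : Module.End ℚ (V n) where
  toFun v i := m.sgn i * ext v (fidx m.net i)
  map_add' v w := by funext i; simp only [ext_add, Pi.add_apply]; ring
  map_smul' a v := by
    funext i; simp only [ext_smul, Pi.smul_apply, smul_eq_mul, RingHom.id_apply]; ring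

theorem ext_mlin {n : ℕ} (m : Mon) (v : V n) {k : ℕ} (h : k < n) :
    ext (m.lin n v) k = m.sgn k * ext v (fidx m.net k) :=
  ext_lt (fun k => m.sgn k * ext v (fidx m.net k)) h

theorem ent_xor (b x y t : ℕ) : ent b (x ^^^ y) t = ent b x t ^^^ ent b y t := by
  apply Nat.eq_of_testBit_eq
  intro i
  simp only [testBit_ent, Nat.testBit_xor]
  cases decide (i < b) <;> simp

theorem xor_top {x : ℕ} (h : x < 65536) :
    x ^^^ 32768 = if 32768 ≤ x then x - 32768 else x + 32768 := by
  have key : ∀ y < 2 ^ 15, y ^^^ 2 ^ 15 = y + 2 ^ 15 := fun y hy => by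
    rw [add_comm, Nat.xor_comm]
    have := Nat.two_pow_add_eq_or_of_lt hy 1
    rw [mul_one] at this
    rw [this]
    apply Nat.eq_of_testBit_eq
    intro i
    by_cases hi : 15 = i
    · subst hi; simp [Nat.testBit_lt_two_pow hy]
    · simp only [Nat.testBit_xor, Nat.testBit_or, Nat.testBit_two_pow_of_ne hi]; simp
  split_ifs with c
  · have := key (x - 32768) (by omega)
    norm_num at this
    rw [show x - 32768 + 32768 = x by omega] at this
    conv_lhs => rw [← this, Nat.xor_assoc, Nat.xor_self, Nat.xor_zero]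
  · exact key x (by omega)

theorem Mon.OK.ent_step {n : ℕ} {m : Mon} (h : m.OK n) (F k : ℕ) : ent 16 (m.step F) k =
    if m.sg.testBit (16 * k + 15) then ent 16 F (fidx m.net k) ^^^ 32768
      else ent 16 F (fidx m.net k) := by
  rw [Mon.step, xor_eq, ent_xor, h.net.ent_pull, h.sg]
  split_ifs <;> simp

theorem Mon.OK.fok {n : ℕ} {m : Mon} (h : m.OK n) {F : ℕ} (hF : FOK n F) : FOK n (m.step F) := by
  intro k hk
  have h1 := hF _ (h.net.lt k hk)
  have h2 : ent 16 F (fidx m.net k) < 65536 := ent_lt _ _ _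
  rw [h.ent_step]
  split_ifs
  · rw [xor_top h2]; split_ifs <;> omega
  · exact h1

theorem Mon.OK.gat_step {n : ℕ} {m : Mon} (h : m.OK n) (F : ℕ) :
    gatL n (m.step F) = m.lin n * gatL n F := by
  refine LinearMap.ext fun v => eq_of_ext fun k hk => ?_
  have h2 : ent 16 F (fidx m.net k) < 65536 := ent_lt _ _ _
  rw [Module.End.mul_apply, ext_mlin _ _ hk, ext_gatL _ _ hk, ext_gatL _ _ (h.net.lt k hk), gat, gat,
    h.ent_step, Mon.sgn]
  by_cases c : m.sg.testBit (16 * k + 15) = true
  · simp only [c, if_true, xor_top h2]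
    by_cases c2 : 32768 ≤ ent 16 F (fidx m.net k)
    · simp only [c2, if_true]
      rw [if_neg (by omega)]; ring
    · simp only [c2, if_false]
      rw [if_pos (by omega), Nat.add_sub_cancel]; ring
  · simp [c]

/-- The diagonal form with the weights in the fields of `W`. -/
def form (n W : ℕ) (v w : V n) : ℚ := ∑ i ∈ range n, (ent 16 W i : ℚ) * (ext v i * ext w i)

theorem Mon.OK.iso {n : ℕ} {m : Mon} (h : m.OK n) (W : ℕ) (v w : V n) :
    form n (m.net.pull W) (m.lin n v) (m.lin n w) = form n W v w := by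
  refine sum_nbij (fidx m.net) (fun k hk => mem_range.2 (h.net.lt k (mem_range.1 hk)))
    (h.net.inj.injOn) ?_ fun k hk => ?_
  · exact surjOn_of_injOn_of_card_le _ (fun k hk => mem_range.2 (h.net.lt k (mem_range.1 hk)))
      h.net.inj.injOn le_rfl
  · rw [ext_mlin _ _ (mem_range.1 hk), ext_mlin _ _ (mem_range.1 hk), h.net.ent_pull, Mon.sgn]
    split_ifs <;> ring

theorem Sh.lin_iso {n W : ℕ} {S : Sh} (h : S.wf 0 n = true) (ho : S.okW W = true) (v w : V n) :
    form n W (S.lin n v) (S.lin n w) = form n W v w := by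
  rw [form, form, range_eq_Ico, ← S.iso (ext v) (ext w) h ho]
  exact sum_congr rfl fun i hi => by
    rw [ext_lin _ _ (mem_Ico.1 hi).2, ext_lin _ _ (mem_Ico.1 hi).2]

/-- A letter: a signed permutation, or a block map between two signed permutations. -/
inductive Let : Type
  | mon (m : Mon) : Let
  | hl (m1 : Mon) (S : Sh) (m2 : Mon) (W1 : ℕ) : Let

noncomputable def Let.lin (n : ℕ) : Let → Module.End ℚ (V n)
  | .mon m => m.lin n
  | .hl m1 S m2 _ => m1.lin n * (S.lin n * m2.lin n)

noncomputable def Let.ok (n N W : ℕ) (l : Let) : Bool :=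
  Let.rec (motive := fun _ => Bool) (fun m => and2 (m.ok n N) (Nat.beq (m.net.pull W) W))
    (fun m1 S m2 W1 => and2 (and2 (m1.ok n N) (m2.ok n N)) (and2 (and2 (S.wf 0 n) (S.okW W1))
      (and2 (Nat.beq (m1.net.pull W1) W) (Nat.beq (m2.net.pull W) W1)))) l

def Let.OK (n W : ℕ) : Let → Prop
  | .mon m => m.OK n ∧ m.net.pull W = W
  | .hl m1 S m2 W1 => (m1.OK n ∧ m2.OK n) ∧ (S.wf 0 n = true ∧ S.okW W1 = true) ∧
      m1.net.pull W1 = W ∧ m2.net.pull W = W1

theorem Let.ok_sound {n N W : ℕ} : ∀ {l : Let}, l.ok n N W = true → l.OK n W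
  | .mon m, h => by
    rw [Let.ok] at h
    simp only [and2_true, beq_true] at h
    exact ⟨Mon.ok_sound h.1, h.2⟩
  | .hl m1 S m2 W1, h => by
    rw [Let.ok] at h
    simp only [and2_true, beq_true] at h
    exact ⟨⟨Mon.ok_sound h.1.1, Mon.ok_sound h.1.2⟩, h.2.1, h.2.2⟩

theorem Let.OK.iso {n W : ℕ} : ∀ {l : Let}, l.OK n W → ∀ v w : V n,
    form n W (l.lin n v) (l.lin n w) = form n W v w
  | .mon m, h, v, w => by
    have := h.1.iso W v w
    rwa [h.2] at this
  | .hl m1 S m2 W1, ⟨⟨h1, h2⟩, ⟨h3, h4⟩, h5, h6⟩, v, w => by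
    have e1 := h1.iso W1
    have e2 := h2.iso W
    rw [h5] at e1
    rw [h6] at e2
    simp only [Let.lin, Module.End.mul_apply]
    rw [e1, Sh.lin_iso h3 h4, e2]

theorem form_self_eq_zero {n W : ℕ} (hW : ∀ k < n, 0 < ent 16 W k) {v : V n}
    (h : form n W v v = 0) : v = 0 := by
  rw [form, sum_eq_zero_iff_of_nonneg fun i _ =>
    mul_nonneg (Nat.cast_nonneg _) (mul_self_nonneg _)] at h
  funext i
  have := h i (mem_range.2 i.2)
  have h1 : (ent 16 W i : ℚ) ≠ 0 := by exact_mod_cast (hW i i.2).ne'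
  simpa [h1, ext_val] using this

/-- The table of letters. -/
structure Env where
  n : ℕ
  id : ℕ
  W : ℕ
  tab : ℕ → Let

structure Env.OK (E : Env) : Prop where
  le : E.n ≤ 32768
  id : ∀ k < E.n, ent 16 E.id k = k
  pos : ∀ k < E.n, 0 < ent 16 E.W k
  tab : ∀ c, (E.tab c).OK E.n E.W

abbrev Gam (n : ℕ) : Type := (Module.End ℚ (V n))ˣ

open Classical in
/-- The group element of a letter. -/
noncomputable def Env.g (E : Env) (c : ℕ) : Gam E.n :=
  if h : IsUnit ((E.tab c).lin E.n) then h.unit else 1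

variable {E : Env}

theorem Env.OK.val_g (h : E.OK) (c : ℕ) : (E.g c : Module.End ℚ (V E.n)) = (E.tab c).lin E.n := by
  have : IsUnit ((E.tab c).lin E.n) := by
    rw [LinearMap.isUnit_iff_ker_eq_bot, LinearMap.ker_eq_bot']
    intro v hv
    have := (h.tab c).iso v v
    rw [hv] at this
    exact form_self_eq_zero h.pos (by rw [← this]; simp [form, ext])
  rw [Env.g, dif_pos this]; rfl

theorem Env.OK.gat_id (h : E.OK) : gatL E.n E.id = 1 := by
  refine LinearMap.ext fun v => eq_of_ext fun k hk => ?_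
  have := h.le
  rw [ext_gatL _ _ hk, gat, h.id k hk, if_neg (by omega)]; rfl

theorem Env.OK.fok_id (h : E.OK) : FOK E.n E.id := fun k hk => by
  have := h.le
  rw [h.id k hk]; omega

/-- The rows of `t` pack the vectors `v c`. -/
def Rep (P : Par) (n : ℕ) (t : T) (v : ℕ → V n) : Prop := Rows P t 0 n fun c => ext (v c)

variable {P : Par}

theorem Rep.src (hP : P.OK) {n : ℕ} {t : T} {v : ℕ → V n} (h : Rep P n t v) {F : ℕ}
    (hF : FOK n F) : Src P t F 0 n fun c => ext (gatL n F (v c)) := fun i _ hi => by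
  have h1 := hF i hi
  have h2 : ent 16 F i < 65536 := ent_lt _ _ _
  simp only [ext_gatL _ _ hi, gat, val_eq]
  split_ifs with c
  · rw [hP.c2]
    exact (h (ent 16 F i - 32768) (by omega) (by omega)).neg rfl
  · exact h _ (by omega) (by omega)

/-- Apply a word (last letter first) to a batch; the result is a selection from a tree. -/
noncomputable def run (E : Env) (P : Par) (t : T) (w : List ℕ) : (ℕ → T → Bool) → Bool :=
  List.rec (motive := fun _ => (ℕ → T → Bool) → Bool) (fun k => k E.id t)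
    (fun c _ ih k => ih fun F t' => Let.rec (motive := fun _ => Bool)
      (fun m => lit (m.step F) fun F' => k F' t')
      (fun m1 S m2 _ => lit (m2.step F) fun F' => layer P t' F' S fun t'' =>
        lit (m1.step E.id) fun F'' => k F'' t'') (E.tab c)) w

/-- The pair `F`, `t` stands for the vectors `v c`. -/
def St (P : Par) (n F : ℕ) (t : T) (v : ℕ → V n) : Prop :=
  FOK n F ∧ ∃ v', Rep P n t v' ∧ ∀ c, gatL n F (v' c) = v c

theorem run_sound (hE : E.OK) (hP : P.OK) {t : T} {v : ℕ → V E.n} (ht : Rep P E.n t v) :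
    ∀ (w : List ℕ) {k : ℕ → T → Bool}, run E P t w k = true →
      ∃ F t', k F t' = true ∧ St P E.n F t' fun c => (ev E.g w : Gam E.n).1 (v c)
  | [], k, h => ⟨_, _, h, hE.fok_id, v, ht, fun c => by rw [hE.gat_id]; rfl⟩
  | c :: w, k, h => by
    rw [run] at h
    obtain ⟨F, t', h, hF, v', h1, h2⟩ := run_sound hE hP ht w h
    have e : ∀ x, (ev E.g (c :: w) : Gam E.n).1 x = (E.tab c).lin E.n ((ev E.g w : Gam E.n).1 x) :=
      fun x => by rw [ev_cons, Units.val_mul, hE.val_g]; rfl
    have ok := hE.tab c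
    simp only [e]
    generalize E.tab c = l at h ok
    cases l with
    | mon m =>
      dsimp only at h
      rw [lit_e] at h
      exact ⟨_, _, h, ok.1.fok hF, v', h1, fun c => by
        rw [ok.1.gat_step, Module.End.mul_apply, h2]; rfl⟩
    | hl m1 S m2 W1 =>
      obtain ⟨⟨o1, o2⟩, ⟨o3, -⟩, -⟩ := ok
      dsimp only at h
      rw [lit_e] at h
      obtain ⟨t'', h, h3⟩ := layer_sound hP S o3 (h1.src hP (o2.fok hF)) h
      rw [lit_e] at h
      refine ⟨_, _, h, o1.fok hE.fok_id, fun c => S.lin E.n (gatL E.n (m2.step F) (v' c)),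
        h3.congr fun c i _ hi => (ext_lin _ _ hi).symm, fun c => ?_⟩
      rw [o1.gat_step, hE.gat_id, o2.gat_step, mul_one]
      simp only [Module.End.mul_apply, h2, Let.lin]

/-- Compare two states in the columns from `J` on; `w` is `P.b * J`. -/
noncomputable def eqv (P : Par) (w n F : ℕ) (t : T) (F' : ℕ) (t' : T) : Bool :=
  allN n fun k => lit (fld F k) fun x => lit (fld F' k) fun y =>
    Nat.beq (Nat.shiftRight (val P t x) w) (Nat.shiftRight (val P t' y) w)

theorem St.row (hP : P.OK) {n F : ℕ} {t : T} {v : ℕ → V n} (h : St P n F t v) {k : ℕ} (hk : k < n) :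
    Row P (val P t (fld F k)) P.h (2 * P.h) fun c => ext (v c) k := by
  obtain ⟨h1, v', h2, h3⟩ := h
  rw [fld_eq]
  exact (h2.src hP h1 k (by omega) hk).congr rfl le_rfl fun c _ => by simp only [h3]

theorem Row.ent (hP : P.OK) {x : ℕ} {f : ℕ → ℚ} (h : Row P x P.h (2 * P.h) f) {c : ℕ}
    (hc : c < P.C) : (ent P.b x c : ℚ) = P.h + f c := by
  obtain ⟨g, rfl, h2⟩ := h
  have := hP.lt
  rw [ent_pack fun t ht => by have := (h2 t ht).1; omega, if_pos hc, (h2 c hc).2]

theorem eqv_sound (hP : P.OK) {J n F F' : ℕ} {t t' : T} {v v' : ℕ → V n} (h : St P n F t v)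
    (h' : St P n F' t' v') (e : eqv P (P.b * J) n F t F' t' = true) :
    ∀ c, J + c < P.C → v (J + c) = v' (J + c) := by
  intro c hc
  refine eq_of_ext fun k hk => ?_
  have := allN_true.1 e k hk
  rw [lit_e, lit_e, beq_true, shr_eq, shr_eq] at this
  have h1 := (h.row hP hk).ent hP hc
  have h2 := (h'.row hP hk).ent hP hc
  rw [← ent_shr] at h1 h2
  rw [this, h2] at h1
  exact (add_left_cancel h1).symm

/-- The two states differ in row `k`, column `J`. -/
noncomputable def nev (P : Par) (J k F : ℕ) (t : T) (F' : ℕ) (t' : T) : Bool :=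
  Bool.rec true false (Nat.beq (ent P.b (val P t (fld F k)) J) (ent P.b (val P t' (fld F' k)) J))

theorem nev_sound (hP : P.OK) {J n k F F' : ℕ} {t t' : T} {v v' : ℕ → V n} (h : St P n F t v)
    (h' : St P n F' t' v') (hk : k < n) (hJ : J < P.C) (e : nev P J k F t F' t' = true) :
    v J ≠ v' J := by
  intro hc
  have h1 := (h.row hP hk).ent hP hJ
  have h2 := (h'.row hP hk).ent hP hJ
  rw [hc, ← h2] at h1
  rw [nev, beq_true.2 (by exact_mod_cast h1)] at e
  exact absurd e (by simp)

noncomputable def iq (f : ℕ → ℕ) (p : ℕ) (k : T → Bool) : Bool :=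
  lit (f p) fun a => lit (f (Nat.add p 1)) fun b => lit (f (Nat.add p 2)) fun c =>
    lit (f (Nat.add p 3)) fun d => mkq p a b c d k

/-- The tree with the rows `f i`. -/
noncomputable def init (f : ℕ → ℕ) (S : Sh) : (T → Bool) → Bool :=
  Sh.rec (motive := fun _ => (T → Bool) → Bool)
    (fun p k => lit (f p) fun a => k fun _ => a)
    (fun p k => lit (Nat.add p 4) fun p4 => lit (Nat.add p 8) fun p8 => lit (Nat.add p 12) fun p12 =>
      iq f p fun q0 => iq f p4 fun q1 => iq f p8 fun q2 => iq f p12 fun q3 =>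
        nd4 p4 p8 p12 q0 q1 q2 q3 k)
    (fun _ _ => false) (fun _ _ => false) (fun _ _ => false)
    (fun p _ _ l r k => l fun tl => r fun tr => ndK p tl tr k) S

theorem iq_sound {f : ℕ → ℕ} {u : ℕ → ℕ → ℚ} {p : ℕ} {k : T → Bool}
    (hf : ∀ i, p ≤ i → i < p + 4 → Row P (f i) P.h (2 * P.h) fun c => u c i) (h : iq f p k = true) :
    ∃ t, k t = true ∧ Rows P t p (p + 4) u := by
  simp only [iq, lit_e, Nat.add_eq] at h
  exact mkq_sound (hf p le_rfl (by omega)) (hf (p + 1) (by omega) (by omega))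
    (hf (p + 2) (by omega) (by omega)) (hf (p + 3) (by omega) (by omega)) h

theorem init_sound {f : ℕ → ℕ} {u : ℕ → ℕ → ℚ} : ∀ (S : Sh) {lo hi : ℕ} {k : T → Bool},
    S.wf lo hi = true → (∀ i, lo ≤ i → i < hi → Row P (f i) P.h (2 * P.h) fun c => u c i) →
    init f S k = true → ∃ t, k t = true ∧ Rows P t lo hi u
  | .i1 p, lo, hi, k, hw, hs, h => by
    simp only [Sh.wf, Bool.and_eq_true, beq_true] at hw
    obtain ⟨rfl, rfl⟩ := hw
    rw [init] at h
    dsimp only at h
    rw [lit_e] at h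
    refine ⟨_, h, fun i h1 h2 => ?_⟩
    obtain rfl : i = p := by omega
    exact hs i h1 h2
  | .i16 p, lo, hi, k, hw, hs, h => by
    simp only [Sh.wf, Bool.and_eq_true, beq_true] at hw
    obtain ⟨rfl, rfl⟩ := hw
    rw [init] at h
    simp only [lit_e, Nat.add_eq] at h
    obtain ⟨q0, h, h0⟩ := iq_sound (u := u) (fun i a b => hs i (by omega) (by omega)) h
    obtain ⟨q1, h, h1⟩ := iq_sound (u := u) (fun i a b => hs i (by omega) (by omega)) h
    obtain ⟨q2, h, h2⟩ := iq_sound (u := u) (fun i a b => hs i (by omega) (by omega)) h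
    obtain ⟨q3, h, h3⟩ := iq_sound (u := u) (fun i a b => hs i (by omega) (by omega)) h
    exact ⟨_, h, (h0.node h1).node (h2.node h3)⟩
  | .h4 p, lo, hi, k, hw, hs, h => by rw [init] at h; exact absurd h (by simp)
  | .h16 p, lo, hi, k, hw, hs, h => by rw [init] at h; exact absurd h (by simp)
  | .t3 p, lo, hi, k, hw, hs, h => by rw [init] at h; exact absurd h (by simp)
  | .nd p l r, lo, hi, k, hw, hs, h => by
    simp only [Sh.wf, Bool.and_eq_true, ble_true] at hw
    obtain ⟨h1, h2, h3, h4⟩ := hw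
    rw [init] at h
    obtain ⟨tl, h, hl⟩ := init_sound l h3 (fun i a b => hs i a (by omega)) h
    obtain ⟨tr, h, hr⟩ := init_sound r h4 (fun i a b => hs i (by omega) b) h
    exact ⟨_, h, hl.node hr⟩

end H29.BE
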