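import Mathlib
import Cfsg.Agent.H29.BM.E3

/-!
# Ready-made checks: equations between words on basis vectors or on given vectors
-/

set_option autoImplicit false

namespace H29.BE
open H19 Finset

variable {E : Env} {P : Par}

/-- The basis vector number `k`. -/
def bv (n k : ℕ) : V n := fun i => if (i : ℕ) = k then 1 else 0

theorem ext_bv {n k i : ℕ} (hi : i < n) : ext (bv n k) i = if i = k then 1 else 0 :=
  ext_lt (fun i => if i = k then 1 else 0) hi

theorem eq_sum_bv {n : ℕ} (v : V n) : v = ∑ k ∈ range n, ext v k • bv n k := by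
  funext i
  simp only [Finset.sum_apply, Pi.smul_apply, bv, smul_eq_mul, mul_ite, mul_one, mul_zero]
  rw [sum_ite_eq, if_pos (mem_range.2 i.2), ext_val]

theorem end_ext {n : ℕ} {f g : Module.End ℚ (V n)} (h : ∀ k < n, f (bv n k) = g (bv n k)) :
    f = g := LinearMap.ext fun v => by
  rw [eq_sum_bv v, map_sum, map_sum]
  exact sum_congr rfl fun k hk => by rw [map_smul, map_smul, h k (mem_range.1 hk)]

/-- The vector whose entries are given by digits with offset `o`. -/
def vec (n o : ℕ) (r : ℕ → ℕ) : V n := fun i => (r i : ℚ) - o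

theorem ext_vec {n o : ℕ} (r : ℕ → ℕ) {i : ℕ} (hi : i < n) : ext (vec n o r) i = r i - o :=
  ext_lt (fun i => (r i : ℚ) - o) hi

/-- Rows of a list of vectors. -/
noncomputable def rowL (b : ℕ) (l : List (ℕ → ℕ)) (i : ℕ) : ℕ :=
  List.rec (motive := fun _ => ℕ) 0 (fun r _ ih => Nat.add (r i) (Nat.shiftLeft ih b)) l

theorem rowL_eq (b i : ℕ) : ∀ l : List (ℕ → ℕ),
    rowL b l i = pack b l.length fun c => l.getD c (fun _ => 0) i
  | [] => by simp [rowL, pack]
  | r :: l => by
    rw [List.length_cons, pack_succ, rowL]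
    change r i + rowL b l i <<< b = _
    rw [rowL_eq b i l, Nat.shiftLeft_eq, mul_comm]; rfl

noncomputable def bnd (n m : ℕ) (l : List (ℕ → ℕ)) : Bool :=
  allL l fun r => allN n fun i => Nat.ble (r i) m

theorem rowL_row {n : ℕ} {l : List (ℕ → ℕ)} (hC : P.C = l.length)
    (h : bnd n (2 * P.h) l = true) {i : ℕ} (hi : i < n) : Row P (rowL P.b l i) P.h (2 * P.h)
      fun c => ext (vec n P.h (l.getD c fun _ => 0)) i := by
  refine ⟨_, by rw [rowL_eq, hC], fun c hc => ⟨?_, by simp only [ext_vec _ hi]; ring⟩⟩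
  rw [hC] at hc
  rw [List.getD_eq_getElem _ _ hc]
  exact ble_true.1 (allN_true.1 (allL_true.1 h _ (List.getElem_mem hc)) i hi)

theorem Row.cat {J x y : ℕ} {f f' : ℕ → ℚ} (hJ : J ≤ P.C)
    (h : Row {P with C := J} x P.h (2 * P.h) f) (h' : Row {P with C := P.C - J} y P.h (2 * P.h) f') :
    Row P (Nat.add x (Nat.shiftLeft y (Nat.mul P.b J))) P.h (2 * P.h)
      fun c => if c < J then f c else f' (c - J) := by
  obtain ⟨g, rfl, h2⟩ := h
  obtain ⟨g', rfl, h2'⟩ := h'
  refine ⟨fun c => if c < J then g c else g' (c - J), ?_, fun c hc => ?_⟩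
  · obtain ⟨m, hm⟩ : ∃ m, P.C = J + m := ⟨P.C - J, by omega⟩
    simp only [hm, add_tsub_cancel_left, pack_add_len, shl_eq, Nat.shiftLeft_eq, Nat.add_eq,
      Nat.mul_eq]
    rw [mul_comm]
    congr 1
    · exact pack_congr fun t ht => by rw [if_pos ht]
    · congr 1
      exact pack_congr fun t _ => by rw [if_neg (by omega)]
  · dsimp only
    split_ifs with c1
    · exact h2 c c1
    · exact h2' (c - J) (by change c - J < P.C - J; omega)

/-- Rows of the batch of the vectors `s • bv (lo + c)`, `lo + c < hi`; `O` is the zero row. -/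
noncomputable def idRow (b O s lo hi i : ℕ) : ℕ :=
  @Bool.rec (fun _ => ℕ) O (@Bool.rec (fun _ => ℕ)
    (Nat.add O (Nat.shiftLeft s (Nat.mul b (Nat.sub i lo)))) O (Nat.ble hi i)) (Nat.ble lo i)

theorem idRow_row {n s lo i : ℕ} (hs : s ≤ P.h) (hi : i < n) :
    Row P (idRow P.b (cst P.b P.C P.h) s lo (lo + P.C) i) P.h (2 * P.h)
      fun c => ext ((s : ℚ) • bv n (lo + c)) i := by
  simp only [idRow, ble_ite, ext_smul, Pi.smul_apply, ext_bv hi, Nat.add_eq]
  by_cases h1 : lo ≤ i ∧ ¬ lo + P.C ≤ i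
  · rw [if_pos h1.1, if_neg h1.2]
    refine ⟨fun c => P.h + if i = lo + c then s else 0, ?_, fun c _ => ⟨?_, ?_⟩⟩
    · rw [← pack_add, cst]
      congr 1
      rw [pack, sum_eq_single (i - lo), if_pos (by omega), shl_eq, Nat.shiftLeft_eq]
      · rfl
      · intro c _ h; rw [if_neg (by omega), zero_mul]
      · intro h; exact absurd (mem_range.2 (by omega)) h
    · dsimp only; split_ifs <;> omega
    · dsimp only; split_ifs <;> simp
  · have : (if lo ≤ i then (if lo + P.C ≤ i then cst P.b P.C P.h else cst P.b P.C P.h +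
        Nat.shiftLeft s (Nat.mul P.b (Nat.sub i lo))) else cst P.b P.C P.h) = cst P.b P.C P.h := by
      split_ifs <;> first | rfl | omega
    rw [this]
    exact (Row.cst _).congr rfl (by omega) fun c hc => by rw [if_neg (by omega)]; simp

theorem Par.OK.b_pos (hP : P.OK) : 0 < P.b := by
  have h1 := hP.lt
  obtain ⟨p, hp⟩ := hP.pw
  have := Nat.two_pow_pos p
  by_contra h
  rw [show P.b = 0 by omega] at h1
  omega

/-- `u` and `v` agree on the basis vectors `lo, …, lo + C - 1`.  The vectors `sa` ride along: they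
only make the low bits of the rows differ, which keeps the kernel's tables fast. -/
noncomputable def chkEq (E : Env) (S : Sh) (sa : List (ℕ → ℕ)) (p s lo C : ℕ) (u v : List ℕ) :
    Bool :=
  and2 (Nat.ble s (Nat.shiftLeft 1 p)) (and2 (Nat.ble 1 s) (lit sa.length fun J =>
    mkPar p (Nat.add J C) fun P => and2 (bnd E.n (Nat.mul 2 P.h) sa)
    (lit (Nat.mul (gone P.b C) P.h) fun O => lit (Nat.add lo C) fun hi => lit (Nat.mul P.b J) fun w =>
      init (fun i => Nat.add (rowL P.b sa i) (Nat.shiftLeft (idRow P.b O s lo hi i) w)) S fun t =>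
        run E P t u fun F t1 => run E P t v fun F' t2 => eqv P w E.n F t1 F' t2)))

theorem chkEq_sound (hE : E.OK) {S : Sh} (hS : S.wf 0 E.n = true) {sa : List (ℕ → ℕ)}
    {p s lo C : ℕ} {u v : List ℕ}
    (h : chkEq E S sa p s lo C u v = true) : ∀ k, lo ≤ k → k < lo + C →
      (ev E.g u : Gam E.n).1 (bv E.n k) = (ev E.g v : Gam E.n).1 (bv E.n k) := by
  simp only [chkEq, and2_true, ble_true, lit_e] at h
  obtain ⟨h1, h2, h⟩ := h
  rw [shl_eq, Nat.shiftLeft_eq, one_mul] at h1
  obtain ⟨P, hP, -, hC, hh, h⟩ := mkPar_sound h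
  rw [and2_true, gone_eq hP.b_pos] at h
  obtain ⟨hb, h⟩ := h
  rw [Nat.add_eq] at hC
  have e1 : Nat.mul (cst P.b C 1) P.h = cst P.b (P.C - sa.length) P.h := by
    rw [hC, add_tsub_cancel_left]; exact cst_mul _ _ _
  have e2 : Nat.add lo C = lo + (P.C - sa.length) := by rw [hC, add_tsub_cancel_left]; rfl
  rw [e1, e2] at h
  obtain ⟨t, h, ht⟩ := init_sound (P := P) (u := fun c => ext (if c < sa.length then
      vec E.n P.h (sa.getD c fun _ => 0) else (s : ℚ) • bv E.n (lo + (c - sa.length)))) S hS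
    (fun i _ hi => (Row.cat (by omega) (rowL_row (P := {P with C := sa.length}) rfl hb hi)
      (idRow_row (P := {P with C := P.C - sa.length}) (n := E.n) (by change s ≤ P.h; omega)
        hi)).congr rfl le_rfl fun c _ => by split_ifs <;> rfl) h
  obtain ⟨F, t1, h, h3⟩ := run_sound hE hP ht u h
  obtain ⟨F', t2, h, h4⟩ := run_sound hE hP ht v h
  intro k hk1 hk2
  have := eqv_sound hP h3 h4 h (k - lo) (by omega)
  simp only [add_lt_iff_neg_left, not_lt_zero', if_false, add_tsub_cancel_left, map_smul,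
    show lo + (k - lo) = k by omega] at this
  exact smul_right_injective _ (by exact_mod_cast (by omega : s ≠ 0)) this

theorem eq_of_cols {u v : Gam E.n} (h : ∀ k < E.n, u.1 (bv E.n k) = v.1 (bv E.n k)) : u = v :=
  Units.ext (end_ext h)

theorem chkEq_full (hE : E.OK) {S : Sh} (hS : S.wf 0 E.n = true) {sa : List (ℕ → ℕ)} {p s : ℕ}
    {u v : List ℕ} (h : chkEq E S sa p s 0 E.n u v = true) : ev E.g u = ev E.g v :=
  eq_of_cols fun k hk => chkEq_sound hE hS h k (by omega) (by omega)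

/-- Run `u` on the vectors `l` and `v` on the vectors `l'`, then apply the test `q`. -/
noncomputable def chkG (E : Env) (S : Sh) (p C : ℕ) (l l' : List (ℕ → ℕ)) (u v : List ℕ)
    (q : Par → ℕ → T → ℕ → T → Bool) : Bool :=
  and2 (Nat.beq C l.length) (and2 (Nat.beq C l'.length) (mkPar p C fun P =>
    and2 (bnd E.n (Nat.mul 2 P.h) l) (and2 (bnd E.n (Nat.mul 2 P.h) l')
      (init (rowL P.b l) S fun t => init (rowL P.b l') S fun t' =>
        run E P t u fun F t1 => run E P t' v fun F' t2 => q P F t1 F' t2))))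

theorem chkG_sound (hE : E.OK) {S : Sh} (hS : S.wf 0 E.n = true) {p C : ℕ}
    {l l' : List (ℕ → ℕ)} {u v : List ℕ} {q : Par → ℕ → T → ℕ → T → Bool}
    (h : chkG E S p C l l' u v q = true) : ∃ P F t1 F' t2, P.OK ∧ P.C = C ∧ q P F t1 F' t2 = true ∧
      (St P E.n F t1 fun c => (ev E.g u : Gam E.n).1 (vec E.n (2 ^ p) (l.getD c fun _ => 0))) ∧
      St P E.n F' t2 fun c => (ev E.g v : Gam E.n).1 (vec E.n (2 ^ p) (l'.getD c fun _ => 0)) := by
  simp only [chkG, and2_true, beq_true] at h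
  obtain ⟨h1, h2, h⟩ := h
  obtain ⟨P, hP, -, hC, hh, h⟩ := mkPar_sound h
  simp only [and2_true] at h
  obtain ⟨b1, b2, h⟩ := h
  obtain ⟨t, h, ht⟩ := init_sound (P := P) S hS (fun i _ hi => rowL_row (hC.trans h1) b1 hi) h
  obtain ⟨t', h, ht'⟩ := init_sound (P := P) S hS (fun i _ hi => rowL_row (hC.trans h2) b2 hi) h
  obtain ⟨F, t1, h, h3⟩ := run_sound hE hP ht u h
  obtain ⟨F', t2, h, h4⟩ := run_sound hE hP ht' v h
  rw [hh] at h3 h4
  exact ⟨P, F, t1, F', t2, hP, hC, h, h3, h4⟩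

/-- `u` maps `a` where `v` maps `a'`; the vectors `z`, `z'` ride along. -/
noncomputable def chkV (E : Env) (S : Sh) (z z' : ℕ → ℕ) (p : ℕ) (a a' : ℕ → ℕ) (u v : List ℕ) :
    Bool :=
  chkG E S p 2 [z, a] [z', a'] u v fun P F t F' t' => eqv P P.b E.n F t F' t'

theorem chkV_sound (hE : E.OK) {S : Sh} (hS : S.wf 0 E.n = true) {p : ℕ} {z z' a a' : ℕ → ℕ}
    {u v : List ℕ} (h : chkV E S z z' p a a' u v = true) :
    (ev E.g u : Gam E.n).1 (vec E.n (2 ^ p) a) = (ev E.g v : Gam E.n).1 (vec E.n (2 ^ p) a') := by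
  obtain ⟨P, F, t1, F', t2, hP, hC, h, h1, h2⟩ := chkG_sound hE hS h
  rw [← mul_one P.b] at h
  exact eqv_sound hP h1 h2 h 0 (by omega)

/-- The same for two vectors at a time. -/
noncomputable def chkV2 (E : Env) (S : Sh) (z z' : ℕ → ℕ) (p : ℕ) (a b a' b' : ℕ → ℕ)
    (u v : List ℕ) : Bool :=
  chkG E S p 3 [z, a, b] [z', a', b'] u v fun P F t F' t' => eqv P P.b E.n F t F' t'

theorem chkV2_sound (hE : E.OK) {S : Sh} (hS : S.wf 0 E.n = true) {p : ℕ}
    {z z' a b a' b' : ℕ → ℕ} {u v : List ℕ} (h : chkV2 E S z z' p a b a' b' u v = true) :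
    (ev E.g u : Gam E.n).1 (vec E.n (2 ^ p) a) = (ev E.g v : Gam E.n).1 (vec E.n (2 ^ p) a') ∧
    (ev E.g u : Gam E.n).1 (vec E.n (2 ^ p) b) = (ev E.g v : Gam E.n).1 (vec E.n (2 ^ p) b') := by
  obtain ⟨P, F, t1, F', t2, hP, hC, h, h1, h2⟩ := chkG_sound hE hS h
  rw [← mul_one P.b] at h
  exact ⟨eqv_sound hP h1 h2 h 0 (by omega), eqv_sound hP h1 h2 h 1 (by omega)⟩

/-- `u` does not map `a` where `v` maps `a'`: the entries number `k` differ. -/
noncomputable def chkN (E : Env) (S : Sh) (z z' : ℕ → ℕ) (p k : ℕ) (a a' : ℕ → ℕ)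
    (u v : List ℕ) : Bool :=
  and2 (Nat.ble (Nat.succ k) E.n)
    (chkG E S p 2 [z, a] [z', a'] u v fun P F t F' t' => nev P 1 k F t F' t')

theorem chkN_sound (hE : E.OK) {S : Sh} (hS : S.wf 0 E.n = true) {p k : ℕ} {z z' a a' : ℕ → ℕ}
    {u v : List ℕ} (h : chkN E S z z' p k a a' u v = true) :
    (ev E.g u : Gam E.n).1 (vec E.n (2 ^ p) a) ≠ (ev E.g v : Gam E.n).1 (vec E.n (2 ^ p) a') := by
  rw [chkN, and2_true, ble_true] at h
  obtain ⟨P, F, t1, F', t2, hP, hC, h', h1, h2⟩ := chkG_sound hE hS h.2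
  exact nev_sound hP h1 h2 h.1 (by omega) h'

/-- The fields of a word of signed permutations. -/
noncomputable def monF (E : Env) (w : List ℕ) : (ℕ → Bool) → Bool :=
  List.rec (motive := fun _ => (ℕ → Bool) → Bool) (fun k => k E.id)
    (fun c _ ih k => ih fun F => Let.rec (motive := fun _ => Bool)
      (fun m => lit (m.step F) k) (fun _ _ _ _ => false) (E.tab c)) w

theorem monF_sound (hE : E.OK) : ∀ (w : List ℕ) {k : ℕ → Bool}, monF E w k = true →
    ∃ F, k F = true ∧ FOK E.n F ∧ (ev E.g w : Gam E.n).1 = gatL E.n F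
  | [], k, h => ⟨_, h, hE.fok_id, hE.gat_id.symm⟩
  | c :: w, k, h => by
    rw [monF] at h
    obtain ⟨F, h, h1, h2⟩ := monF_sound hE w h
    rw [ev_cons, Units.val_mul, hE.val_g, h2]
    have ok := hE.tab c
    generalize E.tab c = l at h ok
    cases l with
    | mon m =>
      dsimp only at h
      rw [lit_e] at h
      exact ⟨_, h, ok.1.fok h1, (ok.1.gat_step F).symm⟩
    | hl m1 S m2 W1 => exact absurd h (by simp)

noncomputable def chkM (E : Env) (u v : List ℕ) : Bool :=
  monF E u fun F => monF E v fun F' => Nat.beq F F'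

theorem chkM_sound (hE : E.OK) {u v : List ℕ} (h : chkM E u v = true) : ev E.g u = ev E.g v := by
  obtain ⟨F, h, -, h1⟩ := monF_sound hE u h
  obtain ⟨F', h, -, h2⟩ := monF_sound hE v h
  rw [beq_true] at h
  exact Units.ext (by rw [h1, h2, h])

theorem Env.OK.iso (hE : E.OK) {g : Gam E.n} (hg : g ∈ Subgroup.closure (Set.range E.g))
    (v w : V E.n) : form E.n E.W (g.1 v) (g.1 w) = form E.n E.W v w := by
  induction hg using Subgroup.closure_induction generalizing v w with
  | mem x hx =>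
    obtain ⟨c, rfl⟩ := hx
    rw [hE.val_g]; exact (hE.tab c).iso v w
  | one => rfl
  | mul x y _ _ hx hy => simp only [Units.val_mul, Module.End.mul_apply, hx, hy]
  | inv x _ hx =>
    rw [← hx]
    simp only [← Module.End.mul_apply, Units.mul_inv, Module.End.one_apply]

end H29.BE
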