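import Mathlib
import Cfsg.Agent.H29.BM.K0

set_option autoImplicit false
set_option maxRecDepth 100000
set_option Elab.async false
set_option linter.all false

namespace H29.BM

open H19 H29.BE H29.BP H29.BP.Dat

theorem lok0 : LOK 0 := lok_mon (m := m0) (s := 0) rfl rfl (by decide +kernel) (by decide +kernel)
theorem lok1 : LOK 1 := lok_mon (m := m1) (s := 0) rfl rfl (by decide +kernel) (by decide +kernel)
theorem lok2 : LOK 2 := lok_mon (m := m2) (s := 0) rfl rfl (by decide +kernel) (by decide +kernel)
theorem lok3 : LOK 3 := lok_mon (m := m3) (s := 0) rfl rfl (by decide +kernel) (by decide +kernel)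
theorem lok4 : LOK 4 := lok_mon (m := m4) (s := 0) rfl rfl (by decide +kernel) (by decide +kernel)
theorem lok5 : LOK 5 := lok_mon (m := m5) (s := 0) rfl rfl (by decide +kernel) (by decide +kernel)
theorem lok6 : LOK 6 := lok_mon (m := m6) (s := 0) rfl rfl (by decide +kernel) (by decide +kernel)
theorem lok7 : LOK 7 := lok_mon (m := m7) (s := 0) rfl rfl (by decide +kernel) (by decide +kernel)
theorem lok8 : LOK 8 := lok_mon (m := m8) (s := 0) rfl rfl (by decide +kernel) (by decide +kernel)
theorem lok9 : LOK 9 := lok_mon (m := m9) (s := 0) rfl rfl (by decide +kernel) (by decide +kernel)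
theorem lok10 : LOK 10 := lok_mon (m := m10) (s := 0) rfl rfl (by decide +kernel) (by decide +kernel)
theorem lok11 : LOK 11 := lok_mon (m := m11) (s := 0) rfl rfl (by decide +kernel) (by decide +kernel)
theorem lok12 : LOK 12 := lok_mon (m := m12) (s := 0) rfl rfl (by decide +kernel) (by decide +kernel)
theorem lok13 : LOK 13 := lok_mon (m := m13) (s := 0) rfl rfl (by decide +kernel) (by decide +kernel)
theorem lok14 : LOK 14 := lok_mon (m := m14) (s := 0) rfl rfl (by decide +kernel) (by decide +kernel)
theorem lok15 : LOK 15 := lok_mon (m := m15) (s := 0) rfl rfl (by decide +kernel) (by decide +kernel)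
theorem lok16 : LOK 16 := lok_mon (m := m16) (s := 0) rfl rfl (by decide +kernel) (by decide +kernel)
theorem lok17 : LOK 17 := lok_mon (m := m17) (s := 0) rfl rfl (by decide +kernel) (by decide +kernel)
theorem lok18 : LOK 18 := lok_mon (m := m18) (s := 0) rfl rfl (by decide +kernel) (by decide +kernel)
theorem lok19 : LOK 19 := lok_mon (m := m19) (s := 0) rfl rfl (by decide +kernel) (by decide +kernel)
theorem lok20 : LOK 20 := lok_mon (m := m20) (s := 0) rfl rfl (by decide +kernel) (by decide +kernel)
theorem lok21 : LOK 21 := lok_mon (m := m21) (s := 0) rfl rfl (by decide +kernel) (by decide +kernel)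
theorem lok22 : LOK 22 := lok_mon (m := m22) (s := 0) rfl rfl (by decide +kernel) (by decide +kernel)
theorem lok23 : LOK 23 := lok_mon (m := m23) (s := sg23) rfl rfl (by decide +kernel) (by decide +kernel)

end H29.BM
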