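import Mathlib
import Cfsg.Agent.H29.BM.K0

set_option autoImplicit false
set_option maxRecDepth 100000
set_option Elab.async false
set_option linter.all false

namespace H29.BM

open H19 H29.BE H29.BP H29.BP.Dat

theorem lok28 : LOK 28 := lok_mon (m := m28) (s := sg28) rfl rfl (by decide +kernel) (by decide +kernel)
theorem lok29 : LOK 29 := lok_mon (m := m29) (s := sg29) rfl rfl (by decide +kernel) (by decide +kernel)
theorem lok30 : LOK 30 := lok_mon (m := m30) (s := sg30) rfl rfl (by decide +kernel) (by decide +kernel)
theorem lok31 : LOK 31 := lok_mon (m := m31) (s := sg31) rfl rfl (by decide +kernel) (by decide +kernel)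
theorem lok32 : LOK 32 := lok_mon (m := m32) (s := sg32) rfl rfl (by decide +kernel) (by decide +kernel)
theorem lok33 : LOK 33 := lok_mon (m := m33) (s := sg33) rfl rfl (by decide +kernel) (by decide +kernel)
theorem lok34 : LOK 34 := lok_mon (m := m34) (s := sg34) rfl rfl (by decide +kernel) (by decide +kernel)
theorem lok35 : LOK 35 := lok_mon (m := m35) (s := sg35) rfl rfl (by decide +kernel) (by decide +kernel)
theorem lok36 : LOK 36 := lok_mon (m := m36) (s := sg36) rfl rfl (by decide +kernel) (by decide +kernel)
theorem lok37 : LOK 37 := lok_mon (m := m37) (s := sg37) rfl rfl (by decide +kernel) (by decide +kernel)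
theorem lok38 : LOK 38 := lok_mon (m := m38) (s := sg38) rfl rfl (by decide +kernel) (by decide +kernel)
theorem lok39 : LOK 39 := lok_mon (m := m39) (s := sg39) rfl rfl (by decide +kernel) (by decide +kernel)

end H29.BM
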