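import Mathlib
import Cfsg.Agent.H29.BM.K0

set_option autoImplicit false
set_option maxRecDepth 100000
set_option Elab.async false
set_option linter.all false

namespace H29.BM

open H19 H29.BE H29.BP H29.BP.Dat

theorem tx0 : ev g [0, 24] = ev g (24 :: pw (f32 (cm 24) 0)) := eqF (by decide +kernel)
theorem tx1 : ev g [1, 24] = ev g (24 :: pw (f32 (cm 24) 1)) := eqF (by decide +kernel)
theorem tx2 : ev g [2, 24] = ev g (24 :: pw (f32 (cm 24) 2)) := eqF (by decide +kernel)
theorem tx3 : ev g [3, 24] = ev g (24 :: pw (f32 (cm 24) 3)) := eqF (by decide +kernel)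
theorem tx4 : ev g [4, 24] = ev g (24 :: pw (f32 (cm 24) 4)) := eqF (by decide +kernel)
theorem tx5 : ev g [5, 24] = ev g (24 :: pw (f32 (cm 24) 5)) := eqF (by decide +kernel)
theorem tx6 : ev g [6, 24] = ev g (24 :: pw (f32 (cm 24) 6)) := eqF (by decide +kernel)
theorem tx7 : ev g [7, 24] = ev g (24 :: pw (f32 (cm 24) 7)) := eqF (by decide +kernel)
theorem tx8 : ev g [8, 24] = ev g (24 :: pw (f32 (cm 24) 8)) := eqF (by decide +kernel)
theorem tx9 : ev g [9, 24] = ev g (24 :: pw (f32 (cm 24) 9)) := eqF (by decide +kernel)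
theorem tx10 : ev g [10, 24] = ev g (24 :: pw (f32 (cm 24) 10)) := eqF (by decide +kernel)
theorem tx11 : ev g [11, 24] = ev g (24 :: pw (f32 (cm 24) 11)) := eqF (by decide +kernel)
theorem tx12 : ev g [12, 24] = ev g (24 :: pw (f32 (cm 24) 12)) := eqF (by decide +kernel)
theorem tx13 : ev g [13, 24] = ev g (24 :: pw (f32 (cm 24) 13)) := eqF (by decide +kernel)
theorem tx14 : ev g [14, 24] = ev g (24 :: pw (f32 (cm 24) 14)) := eqF (by decide +kernel)
theorem tx15 : ev g [15, 24] = ev g (24 :: pw (f32 (cm 24) 15)) := eqF (by decide +kernel)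
theorem tx16 : ev g [16, 24] = ev g (24 :: pw (f32 (cm 24) 16)) := eqF (by decide +kernel)
theorem tx17 : ev g [17, 24] = ev g (24 :: pw (f32 (cm 24) 17)) := eqF (by decide +kernel)
theorem tx18 : ev g [18, 24] = ev g (24 :: pw (f32 (cm 24) 18)) := eqF (by decide +kernel)
theorem tx19 : ev g [19, 24] = ev g (24 :: pw (f32 (cm 24) 19)) := eqF (by decide +kernel)
theorem tx20 : ev g [20, 24] = ev g (24 :: pw (f32 (cm 24) 20)) := eqF (by decide +kernel)
theorem tx21 : ev g [21, 24] = ev g (24 :: pw (f32 (cm 24) 21)) := eqF (by decide +kernel)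
theorem tx22 : ev g [22, 24] = ev g (24 :: pw (f32 (cm 24) 22)) := eqF (by decide +kernel)
theorem he24 : BE.chkEq E S0 (sa 0) 7 16 2048 2300 [24] [26] = true := by decide +kernel
theorem lok24 : LOK 24 := lok_of (m := m26) (s := sg24) (g_mon (c := 26) rfl).1 rfl (tab_of (lt_step (lt_step (lt_step (lt_step (lt_step (lt_step (lt_step (lt_step (lt_step (lt_step (lt_step (lt_step (lt_step (lt_step (lt_step (lt_step (lt_step (lt_step (lt_step (lt_step (lt_step (lt_step (lt_step lt_base tx0) tx1) tx2) tx3) tx4) tx5) tx6) tx7) tx8) tx9) tx10) tx11) tx12) tx13) tx14) tx15) tx16) tx17) tx18) tx19) tx20) tx21) tx22))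
  (fun j hj => by
    have := BE.chkEq_sound E_ok S0_wf he24 j hj.1 hj.2
    rw [ev_cons, ev_cons, ev_nil, mul_one, mul_one] at this
    rw [← (g_mon (c := 26) rfl).2]
    exact this) (by decide +kernel)

end H29.BM
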