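import Mathlib
import Cfsg.Agent.H29.BM.K1
import Cfsg.Agent.H29.BM.K2
import Cfsg.Agent.H29.BM.K3

set_option autoImplicit false
set_option maxRecDepth 100000
set_option Elab.async false
set_option linter.all false

namespace H29.BM

open H19 H29.BE H29.BP H29.BP.Dat

theorem lok_all : ∀ c, km.testBit c = true → LOK c := by
  have h : ∀ c < 40, km.testBit c = true → LOK c := (lt_step (lt_step (lt_step (lt_step (lt_step (lt_step (lt_step (lt_step (lt_step (lt_step (lt_step (lt_step (lt_step (lt_step (lt_step (lt_step (lt_step (lt_step (lt_step (lt_step (lt_step (lt_step (lt_step (lt_step (lt_step (lt_step (lt_step (lt_step (lt_step (lt_step (lt_step (lt_step (lt_step (lt_step (lt_step (lt_step (lt_step (lt_step (lt_step (lt_step lt_base fun _ => lok0) fun _ => lok1) fun _ => lok2) fun _ => lok3) fun _ => lok4) fun _ => lok5) fun _ => lok6) fun _ => lok7) fun _ => lok8) fun _ => lok9) fun _ => lok10) fun _ => lok11) fun _ => lok12) fun _ => lok13) fun _ => lok14) fun _ => lok15) fun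 _ => lok16) fun _ => lok17) fun _ => lok18) fun _ => lok19) fun _ => lok20) fun _ => lok21) fun _ => lok22) fun _ => lok23) fun _ => lok24) fun h => absurd h (by decide)) fun h => absurd h (by decide)) fun h => absurd h (by decide)) fun _ => lok28) fun _ => lok29) fun _ => lok30) fun _ => lok31) fun _ => lok32) fun _ => lok33) fun _ => lok34) fun _ => lok35) fun _ => lok36) fun _ => lok37) fun _ => lok38) fun _ => lok39)
  intro c hc
  refine h c ?_ hc
  by_contra h1
  rw [Nat.testBit_lt_two_pow (lt_of_lt_of_le (by decide : km < 2 ^ 40)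
    (Nat.pow_le_pow_right (by omega) (by omega)))] at hc
  exact absurd hc (by simp)

noncomputable def C : Ctx D := ⟨g, kp, cm, km, lok_all⟩

theorem words_ok {H : Subgroup GG} {m : ℕ} (hH : ∀ c, m.testBit c = true → g c ∈ H)
    {ws : List (List ℕ)} (h : allL ws (fun w => and2 (inM km w) (inM m w)) = true) :
    ∀ w ∈ ws, inM C.km w = true ∧ ev C.e w ∈ H := fun w hw => by
  have := and2_true.1 (allL_true.1 h w hw)
  exact ⟨this.1, mem_of_inM hH this.2⟩

theorem trS (p : ℕ) (hp : dom p) : ∃ h ∈ D.KK, D.Rel h p (16 * 4304) :=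
  Ctx.cover (C := C) (ws := [[28], [29], [30], [24], [23]]) (r := 5) (S := DOM)
    (words_ok (fun c hc => (lok_all c hc).1) (by decide +kernel)) (by decide +kernel) p
    ((testBit_DOM p).2 hp) hp
theorem tr : D.Tr := fun k hk => trS _ (dom_even hk)

theorem om_bc {k j a : ℕ} (hj : j < 22) (h : allN 23 (fun r => Nat.beq (fld (Ψ r) k)
    (@Bool.rec (fun _ => ℕ) (@Bool.rec (fun _ => ℕ) 128 160 (Nat.beq r (Nat.succ j))) a
      (Nat.beq r 0))) = true) :
    D.om k = ((a : ℚ) - 128) • bv 4371 4348 + (32 : ℚ) • bv 4371 (4349 + j) := by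
  refine eq_of_ext fun i hi => ?_
  change ext (omv 4371 Ψ k) i = _
  simp only [ext_omv _ _ hi, ext_add, ext_smul, Pi.add_apply, Pi.smul_apply, ext_bv hi]
  by_cases c : 4348 ≤ i
  · have := beq_true.1 (allN_true.1 h (i - 4348) (by omega))
    rw [if_pos c, this]
    simp only [rec_ite, beq_true]
    split_ifs <;> first | omega | norm_num
  · rw [if_neg c, if_neg (by omega), if_neg (by omega)]; simp

theorem bcB : ∀ j < 22, D.om (4304 + 2 * j) =
    (-16 : ℚ) • bv 4371 4348 + (32 : ℚ) • bv 4371 (4349 + j) := fun j hj => by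
  have h : allN 22 (fun j => allN 23 (fun r => Nat.beq (fld (Ψ r) (4304 + 2 * j))
    (@Bool.rec (fun _ => ℕ) (@Bool.rec (fun _ => ℕ) 128 160 (Nat.beq r (Nat.succ j))) 112
      (Nat.beq r 0)))) = true := by decide +kernel
  rw [om_bc hj (allN_true.1 h j hj)]; norm_num
theorem bcC : ∀ j < 22, D.om (4305 + 2 * j) =
    (16 : ℚ) • bv 4371 4348 + (32 : ℚ) • bv 4371 (4349 + j) := fun j hj => by
  have h : allN 22 (fun j => allN 23 (fun r => Nat.beq (fld (Ψ r) (4305 + 2 * j))
    (@Bool.rec (fun _ => ℕ) (@Bool.rec (fun _ => ℕ) 128 160 (Nat.beq r (Nat.succ j))) 144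
      (Nat.beq r 0)))) = true := by decide +kernel
  rw [om_bc hj (allN_true.1 h j hj)]; norm_num
theorem w0 : ent 16 D.W 4348 = 4 := by
  rw [← fld_eq]; exact beq_true.1 (by decide +kernel)
theorem w1 : ∀ j < 22, ent 16 D.W (4349 + j) = 2 := fun j hj => by
  have h : allN 22 (fun j => Nat.beq (fld W0 (4349 + j)) 2) = true := by decide +kernel
  rw [← fld_eq]; exact beq_true.1 (allN_true.1 h j hj)
theorem wlow : ∀ k < 4348, ent 16 D.W k = 1 := fun k hk => by
  have h : allN 4348 (fun j => Nat.beq (fld W0 j) 1) = true := by decide +kernel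
  rw [← fld_eq]; exact beq_true.1 (allN_true.1 h k hk)
theorem B_b0 (v : VV) : D.B (D.om 4304) v = 64 * (ext v 4349 - ext v 4348) := by
  have e0 := bcB 0 (by omega)
  have e1 := w1 0 (by omega)
  simp only [mul_zero, add_zero] at e0 e1
  rw [e0, Dat.B, form_add_left, form_smul_left, form_smul_left, form_bv (by omega),
    form_bv (by omega), w0, e1]
  push_cast; ring
theorem hB0 (k : ℕ) (_ : pt k) :
    D.B (D.ph (16 * 4304)) (D.om k) = 64 * ((fld ps1 k : ℚ) - fld ps0 k) := by
  rw [ph_even, B_b0]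
  change 64 * (ext (omv 4371 Ψ k) 4349 - ext (omv 4371 Ψ k) 4348) = _
  rw [ext_omv _ _ (by omega), ext_omv _ _ (by omega), if_pos (by omega), if_pos (by omega)]
  change 64 * (((fld ps1 k : ℚ) - 128) - ((fld ps0 k : ℚ) - 128)) = _
  ring
theorem hB0' (k : ℕ) (hk : pt k) :
    D.B (D.ph (16 * 4304)) (D.om k) = -64 * ((fld ps0 k : ℚ) - fld ps1 k) := by
  rw [hB0 k hk]; ring
theorem msk3 : Msk D (16 * 4304) (64 * (48 : ℕ)) (bit (16 * 4304)) :=
  msk_base (by norm_num) hB0 (by decide +kernel)

theorem D_ok : D.OK where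
  pos := E_ok.pos
  inA k i hi := by
    change ext (omv 4371 Ψ k) i = 0
    rw [ext_omv _ _ (by omega), if_neg (by omega)]
  isoP := Pu_induction D.cl (p := D.Iso) (fun v w => by simp) fun i hi g hg =>
    Iso.mul (by have := g_iso i; rwa [g_pau i hi] at this) hg
  gen := gen_of_chk (ls := [[2221, 2181, 3762], [2105, 2059, 3517], [2107, 2080, 4160], [2200, 2076, 3634], [2137, 2128, 3962], [2232, 3057], [2100, 2068, 3841], [2069, 2064, 3680], [2067, 2064, 3376], [2100, 2097, 3155], [2048], [4304], [4306], [4308], [4310], [4312], [4316], [4318], [4320], [4324], [4332], [4304, 4305]]) (by decide +kernel)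
  cl_inj j k hj hk h1 h2 := cl_inj_of_tr tr (by decide +kernel) hj hk ⟨h1, h2⟩
  bcB := bcB
  bcC := bcC
  w0 := w0
  w1 := w1
  wp k hk := wlow k hk.2
  row k hk s e := by
    have p0 : pt 4304 := ⟨by omega, by omega⟩
    have h1 := (msk3 _ (dom_even p0)).1 (by simp [testBit_bit])
    have h2 := (msk3 _ (dom_mk hk s)).2 (by rw [ph_mk, e, ← h1, ph_even])
    rw [testBit_bit, decide_eq_true_eq] at h2
    cases s <;> simp at h2 ⊢ <;> omega

theorem g23 : g 23 = -1 := by
  have h : (lit (m23.step idF) fun F => allN 4371 fun k => Nat.beq (fld F k) (Nat.add k 32768)) = true := by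
    decide +kernel
  rw [lit_e] at h
  obtain ⟨h3, h4⟩ := g_mon (c := 23) (m := m23) rfl
  refine Units.ext (h4.trans (LinearMap.ext fun v => eq_of_ext fun k hk => ?_))
  have h1 := beq_true.1 (allN_true.1 h k hk)
  have h2 : ent 16 (m23.step idF) k = _ := ent_step_id E_ok h3 hk
  have h5 := h3.net.lt k hk
  rw [fld_eq, h2, Nat.add_eq] at h1
  rw [ext_mlin _ _ hk, Mon.sgn]
  change _ = ext (-v) k
  rw [ext_neg]
  split_ifs at h1 ⊢
  · rw [show fidx m23.net k = k by omega]; ring
  · omega

end H29.BM
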