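import Mathlib
import Cfsg.Agent.H29.BM.E4

/-!
# The extraspecial group `2 ^ (1 + 22)` acting on `2048 + 2300 + 23` coordinates
-/

set_option autoImplicit false
set_option linter.unusedSimpArgs false

namespace H29.BP
open H19 Finset H29.BE

/-- Parity of the low `n` bits. -/
noncomputable def parN (n x : ℕ) : Bool :=
  Nat.rec (motive := fun _ => Bool) false (fun i ih => xor ih (x.testBit i)) n

theorem parN_succ (n x : ℕ) : parN (n + 1) x = xor (parN n x) (x.testBit n) := rfl

theorem parN_xor : ∀ n x y : ℕ, parN n (x ^^^ y) = xor (parN n x) (parN n y)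
  | 0, _, _ => rfl
  | n + 1, x, y => by
    rw [parN_succ, parN_succ, parN_succ, parN_xor n, Nat.testBit_xor]
    cases parN n x <;> cases parN n y <;> cases x.testBit n <;> cases y.testBit n <;> rfl

theorem parN_zero : ∀ n, parN n 0 = false
  | 0 => rfl
  | n + 1 => by rw [parN_succ, parN_zero n]; simp

theorem parN_pow (x j : ℕ) : ∀ n, parN n (x &&& 2 ^ j) = (decide (j < n) && x.testBit j)
  | 0 => rfl
  | n + 1 => by
    rw [parN_succ, parN_pow x j n, Nat.testBit_and, Nat.testBit_two_pow]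
    rcases lt_trichotomy j n with h | rfl | h
    · simp [h, h.ne, Nat.lt_succ_of_lt h]
    · simp
    · simp [h.ne', h.le.not_gt, show ¬ j < n + 1 by omega]

noncomputable def dot (a b : ℕ) : Bool := parN 11 (a &&& b)

theorem dot_comm (a b : ℕ) : dot a b = dot b a := by rw [dot, dot, Nat.and_comm]
theorem dot_xor (a b c : ℕ) : dot a (b ^^^ c) = xor (dot a b) (dot a c) := by
  rw [dot, Nat.and_xor_distrib_left, parN_xor]; rfl
theorem xor_dot (a b c : ℕ) : dot (a ^^^ b) c = xor (dot a c) (dot b c) := by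
  rw [dot_comm, dot_xor, dot_comm c, dot_comm c]
@[simp] theorem dot_zero (a : ℕ) : dot a 0 = false := by rw [dot, Nat.and_zero, parN_zero]
@[simp] theorem zero_dot (a : ℕ) : dot 0 a = false := by rw [dot_comm, dot_zero]
theorem dot_pow (a : ℕ) {j : ℕ} (h : j < 11) : dot a (2 ^ j) = a.testBit j := by
  rw [dot, parN_pow]; simp [h]

def lo (x : ℕ) : ℕ := x % 2 ^ 11
def hi (x : ℕ) : ℕ := x >>> 11 % 2 ^ 11
def zc (x : ℕ) : Bool := x.testBit 22
def zb (c : Bool) : ℕ := if c then 2 ^ 22 else 0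

theorem lo_lt (x : ℕ) : lo x < 2 ^ 11 := Nat.mod_lt _ (by norm_num)
theorem hi_lt (x : ℕ) : hi x < 2 ^ 11 := Nat.mod_lt _ (by norm_num)
theorem testBit_lo (x i : ℕ) : (lo x).testBit i = (decide (i < 11) && x.testBit i) := by
  rw [lo, Nat.testBit_mod_two_pow]
theorem testBit_hi (x i : ℕ) : (hi x).testBit i = (decide (i < 11) && x.testBit (11 + i)) := by
  rw [hi, Nat.testBit_mod_two_pow, Nat.testBit_shiftRight]
theorem lo_xor (x y : ℕ) : lo (x ^^^ y) = lo x ^^^ lo y := Nat.xor_mod_two_pow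
theorem hi_xor (x y : ℕ) : hi (x ^^^ y) = hi x ^^^ hi y := by
  rw [hi, Nat.shiftRight_xor_distrib, Nat.xor_mod_two_pow]; rfl
theorem zc_xor (x y : ℕ) : zc (x ^^^ y) = xor (zc x) (zc y) := Nat.testBit_xor _ _ _
@[simp] theorem lo_zb (c : Bool) : lo (zb c) = 0 := by cases c <;> decide
@[simp] theorem hi_zb (c : Bool) : hi (zb c) = 0 := by cases c <;> decide
@[simp] theorem zc_zb (c : Bool) : zc (zb c) = c := by cases c <;> decide
theorem zb_xor (c d : Bool) : zb (xor c d) = zb c ^^^ zb d := by cases c <;> cases d <;> decide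
@[simp] theorem zb_false : zb false = 0 := rfl
@[simp] theorem lo_zero : lo 0 = 0 := rfl
@[simp] theorem hi_zero : hi 0 = 0 := rfl
@[simp] theorem zc_zero : zc 0 = false := rfl

/-- The symplectic form. -/
noncomputable def sp (x y : ℕ) : Bool := xor (dot (lo x) (hi y)) (dot (hi x) (lo y))

theorem xor_sp (x y w : ℕ) : sp (x ^^^ y) w = xor (sp x w) (sp y w) := by
  simp only [sp, lo_xor, hi_xor, xor_dot]
  cases dot (lo x) (hi w) <;> cases dot (lo y) (hi w) <;> cases dot (hi x) (lo w) <;> simp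
@[simp] theorem zb_sp (c : Bool) (w : ℕ) : sp (zb c) w = false := by simp [sp]
@[simp] theorem zero_sp (w : ℕ) : sp 0 w = false := by simp [sp]
theorem sp_self (x : ℕ) : sp x x = false := by simp [sp, dot_comm (lo x)]
theorem sp_comm (x y : ℕ) : sp x y = sp y x := by
  rw [sp, sp, dot_comm (lo x), dot_comm (hi x), Bool.xor_comm]

/-- The sign of a bit. -/
def sn (b : Bool) : ℚ := if b then -1 else 1

theorem sn_xor (a b : Bool) : sn (xor a b) = sn a * sn b := by cases a <;> cases b <;> simp [sn]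
@[simp] theorem sn_false : sn false = 1 := rfl
@[simp] theorem sn_true : sn true = -1 := rfl
@[simp] theorem sn_mul_self (a : Bool) : sn a * sn a = 1 := by cases a <;> simp
theorem sn_ne (a : Bool) : sn a ≠ 0 := by cases a <;> simp
theorem sn_inj {a b : Bool} (h : sn a = sn b) : a = b := by
  cases a <;> cases b <;> first | rfl | (norm_num at h)

noncomputable def mul (x y : ℕ) : ℕ := x ^^^ y ^^^ zb (dot (hi y) (lo x))

abbrev VV : Type := V 4371
abbrev GG : Type := Gam 4371

variable (cl : ℕ → ℕ)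

noncomputable def Pf (x : ℕ) (f : ℕ → ℚ) (k : ℕ) : ℚ :=
  if k < 2048 then sn (xor (zc x) (dot (hi x) k)) * f (k ^^^ lo x)
  else if k < 4348 then sn (sp x (cl k)) * f k else f k

noncomputable def PL (x : ℕ) : Module.End ℚ VV where
  toFun v i := Pf cl x (ext v) i
  map_add' v w := by funext i; simp only [Pf, ext_add, Pi.add_apply]; split_ifs <;> ring
  map_smul' a v := by
    funext i; simp only [Pf, ext_smul, Pi.smul_apply, smul_eq_mul, RingHom.id_apply]
    split_ifs <;> ring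

theorem ext_PL (x : ℕ) (v : VV) {k : ℕ} (h : k < 4371) : ext (PL cl x v) k = Pf cl x (ext v) k :=
  ext_lt (Pf cl x (ext v)) h

theorem xor_lo_lt {k : ℕ} (h : k < 2048) (x : ℕ) : k ^^^ lo x < 2048 :=
  Nat.xor_lt_two_pow (n := 11) h (lo_lt x)

theorem PL_mul (x y : ℕ) : PL cl x * PL cl y = PL cl (mul x y) := by
  refine LinearMap.ext fun v => eq_of_ext fun k hk => ?_
  rw [Module.End.mul_apply, ext_PL _ _ _ hk, ext_PL _ _ _ hk, Pf]
  split_ifs with h1 h2
  · have h3 := xor_lo_lt h1 x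
    rw [ext_PL _ _ _ (by omega), Pf, Pf, if_pos h3, if_pos h1]
    simp only [mul, zc_xor, hi_xor, lo_xor, lo_zb, hi_zb, zc_zb, Nat.xor_zero, xor_dot, dot_xor,
      sn_xor, Nat.xor_assoc]
    ring
  · rw [ext_PL _ _ _ hk, Pf, Pf, if_neg h1, if_neg h1, if_pos h2, if_pos h2]
    simp only [mul, xor_sp, zb_sp, sn_xor, sn_false]; ring
  · rw [ext_PL _ _ _ hk, Pf, Pf, if_neg h1, if_neg h1, if_neg h2, if_neg h2]

theorem PL_congr {x y : ℕ} (h1 : lo x = lo y) (h2 : hi x = hi y) (h3 : zc x = zc y) :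
    PL cl x = PL cl y := by
  refine LinearMap.ext fun v => eq_of_ext fun k hk => ?_
  rw [ext_PL _ _ _ hk, ext_PL _ _ _ hk]
  simp only [Pf, sp, h1, h2, h3]

theorem PL_zero : PL cl 0 = 1 := by
  refine LinearMap.ext fun v => eq_of_ext fun k hk => ?_
  rw [ext_PL _ _ _ hk]
  simp [Pf]

/-- The group element with the code `x`. -/
noncomputable def Pu (x : ℕ) : GG :=
  ⟨PL cl x, PL cl (x ^^^ zb (dot (hi x) (lo x))),
    by rw [PL_mul, ← PL_zero cl]; apply PL_congr <;> simp [mul, lo_xor, hi_xor, zc_xor],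
    by rw [PL_mul, ← PL_zero cl]; apply PL_congr <;> simp [mul, lo_xor, hi_xor, zc_xor]⟩

theorem Pu_mul (x y : ℕ) : Pu cl x * Pu cl y = Pu cl (mul x y) := Units.ext (PL_mul cl x y)
theorem Pu_zero : Pu cl 0 = 1 := Units.ext (PL_zero cl)
theorem Pu_congr {x y : ℕ} (h1 : lo x = lo y) (h2 : hi x = hi y) (h3 : zc x = zc y) :
    Pu cl x = Pu cl y := Units.ext (PL_congr cl h1 h2 h3)
theorem Pu_inv (x : ℕ) : (Pu cl x)⁻¹ = Pu cl (x ^^^ zb (dot (hi x) (lo x))) := Units.ext rfl

theorem Pu_zb_mul (c : Bool) (x : ℕ) : Pu cl (zb c) * Pu cl x = Pu cl (x ^^^ zb c) := by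
  rw [Pu_mul]; apply Pu_congr <;> simp [mul, lo_xor, hi_xor, zc_xor, Bool.xor_comm]
theorem Pu_mul_zb (c : Bool) (x : ℕ) : Pu cl x * Pu cl (zb c) = Pu cl (x ^^^ zb c) := by
  rw [Pu_mul]; apply Pu_congr <;> simp [mul, lo_xor, hi_xor, zc_xor]

theorem Pu_comm (x y : ℕ) : Pu cl x * Pu cl y = Pu cl (y ^^^ zb (sp x y)) * Pu cl x := by
  rw [Pu_mul, Pu_mul]
  apply Pu_congr <;> simp only [mul, lo_xor, hi_xor, zc_xor, lo_zb, hi_zb, zc_zb, Nat.xor_zero, sp]
  · exact Nat.xor_comm _ _
  · exact Nat.xor_comm _ _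
  · rw [dot_comm (lo x)]
    cases zc x <;> cases zc y <;> cases dot (hi y) (lo x) <;> cases dot (hi x) (lo y) <;> rfl

/-- The central involution. -/
noncomputable def zz : GG := Pu cl (zb true)

theorem zz_mul (x : ℕ) : zz cl * Pu cl x = Pu cl (x ^^^ zb true) := Pu_zb_mul cl true x
theorem zz_comm (x : ℕ) : Pu cl x * zz cl = zz cl * Pu cl x := by
  rw [zz, Pu_zb_mul, Pu_mul_zb]
theorem zz_sq : zz cl * zz cl = 1 := (zz_mul cl _).trans (by rw [Nat.xor_self, Pu_zero])

theorem Pu_zb_comm {h : GG} (hz : h * zz cl = zz cl * h) (c : Bool) :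
    h * Pu cl (zb c) = Pu cl (zb c) * h := by
  cases c
  · simp [Pu_zero]
  · exact hz

theorem PL_bv_lt (x : ℕ) {k : ℕ} (h : k < 2048) :
    PL cl x (bv 4371 (k ^^^ lo x)) = sn (xor (zc x) (dot (hi x) k)) • bv 4371 k := by
  refine eq_of_ext fun i hi' => ?_
  have h3 := xor_lo_lt h x
  rw [ext_PL _ _ _ hi', ext_smul, Pi.smul_apply, ext_bv hi', Pf]
  split_ifs with h1 h2 h4 h5 h6
  · rw [h2, ext_bv (by omega), if_pos rfl]; rfl
  · rw [ext_bv (by have := xor_lo_lt h1 x; omega), if_neg (by simpa using h2)]; simp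
  · omega
  · rw [ext_bv hi', if_neg (by omega)]; simp
  · omega
  · rw [ext_bv hi', if_neg (by omega)]; simp

theorem PL_bv_pt (x : ℕ) {k : ℕ} (h : 2048 ≤ k) (h' : k < 4348) :
    PL cl x (bv 4371 k) = sn (sp x (cl k)) • bv 4371 k := by
  refine eq_of_ext fun i hi' => ?_
  rw [ext_PL _ _ _ hi', ext_smul, Pi.smul_apply, ext_bv hi', Pf]
  split_ifs with h1 h2 h4 h5 h6
  · omega
  · rw [ext_bv (by have := xor_lo_lt h1 x; omega), if_neg (by have := xor_lo_lt h1 x; omega)]; simp
  · rw [ext_bv hi', if_pos h5, h5]; rfl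
  · rw [ext_bv hi', if_neg h5]; simp
  · omega
  · rw [ext_bv hi', if_neg h6]; simp

/-- Vectors supported on the last 23 coordinates. -/
def InA (v : VV) : Prop := ∀ i < 4348, ext v i = 0

theorem PL_inA (x : ℕ) {v : VV} (h : InA v) : PL cl x v = v := by
  refine eq_of_ext fun i hi' => ?_
  rw [ext_PL _ _ _ hi', Pf]
  split_ifs with h1 h2
  · rw [h _ (by have := xor_lo_lt h1 x; omega), h i (by omega), mul_zero]
  · rw [h i h2, mul_zero]
  · rfl

theorem inA_bv {k : ℕ} (h : 4348 ≤ k) : InA (bv 4371 k) := fun i hi' => by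
  rw [ext_bv (by omega), if_neg (by omega)]

theorem bv_smul_inj {a b : ℚ} {j k : ℕ} (ha : a ≠ 0) (hj : j < 4371)
    (h : a • bv 4371 j = b • bv 4371 k) : j = k ∧ a = b := by
  have := congrArg (fun v => ext v j) h
  simp only [ext_smul, Pi.smul_apply, ext_bv hj, if_true, smul_eq_mul, mul_one] at this
  split_ifs at this with c
  · exact ⟨c, by simpa using this⟩
  · exact absurd (by simpa using this) ha

theorem Pu_inj {x y : ℕ} (h : Pu cl x = Pu cl y) : lo x = lo y ∧ hi x = hi y ∧ zc x = zc y := by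
  have e : PL cl x = PL cl y := congrArg Units.val h
  have h0 := PL_bv_lt cl x (k := 0) (by omega)
  have h1 := PL_bv_lt cl y (k := lo x ^^^ lo y) (Nat.xor_lt_two_pow (n := 11) (lo_lt x) (lo_lt y))
  rw [Nat.xor_assoc, Nat.xor_self, Nat.xor_zero, ← e] at h1
  rw [Nat.zero_xor, h1] at h0
  have h2 : lo x = lo y := by
    have := (bv_smul_inj (sn_ne _) (by omega) h0.symm).1
    exact Nat.xor_eq_zero_iff.1 this.symm
  have key : ∀ k < 2048, xor (zc x) (dot (hi x) k) = xor (zc y) (dot (hi y) k) := fun k hk => by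
    have a := PL_bv_lt cl x hk
    rw [e, h2, PL_bv_lt cl y hk] at a
    exact (sn_inj (bv_smul_inj (sn_ne _) (by omega) a).2).symm
  have h3 : zc x = zc y := by simpa using key 0 (by omega)
  refine ⟨h2, Nat.eq_of_testBit_eq fun j => ?_, h3⟩
  by_cases hj : j < 11
  · have := key (2 ^ j) (Nat.pow_lt_pow_right (by omega) hj : 2 ^ j < 2 ^ 11)
    rw [dot_pow _ hj, dot_pow _ hj, h3] at this
    simpa using this
  · simp [testBit_hi, hj]

theorem zb_inj {x : ℕ} {c d : Bool} (h : Pu cl (x ^^^ zb c) = Pu cl (x ^^^ zb d)) : c = d := by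
  have := (Pu_inj cl h).2.2
  simpa [zc_xor] using this

theorem zz_ne : zz cl ≠ 1 := fun h => by
  have := (Pu_inj cl (h.trans (Pu_zero cl).symm)).2.2
  simp at this

theorem mod_succ_bit (x i : ℕ) :
    x % 2 ^ (i + 1) = if x.testBit i then 2 ^ i ^^^ x % 2 ^ i else x % 2 ^ i := by
  apply Nat.eq_of_testBit_eq
  intro j
  rcases lt_trichotomy j i with h | rfl | h
  · split_ifs <;>
      simp [Nat.testBit_mod_two_pow, h, Nat.lt_succ_of_lt h, Nat.testBit_two_pow_of_ne h.ne']
  · split_ifs with c <;> simp [Nat.testBit_mod_two_pow, c]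
  · split_ifs <;> simp [Nat.testBit_mod_two_pow, h.le.not_gt, show ¬ j < i + 1 by omega,
      Nat.testBit_two_pow_of_ne h.ne]

theorem Pu_pow_mul (x i : ℕ) : Pu cl (2 ^ i) * Pu cl (x % 2 ^ i) = Pu cl (2 ^ i ^^^ x % 2 ^ i) := by
  have : dot (hi (x % 2 ^ i)) (lo (2 ^ i)) = false := by
    by_cases h : i < 11
    · have : hi (x % 2 ^ i) = 0 := Nat.eq_of_testBit_eq fun j => by
        simp [testBit_hi, Nat.testBit_mod_two_pow]; omega
      rw [this, zero_dot]
    · have : lo (2 ^ i) = 0 := Nat.eq_of_testBit_eq fun j => by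
        simp [testBit_lo, Nat.testBit_two_pow]; omega
      rw [this, dot_zero]
  rw [Pu_mul, mul, this]; simp

theorem Pu_mod (x : ℕ) : Pu cl (x % 2 ^ 23) = Pu cl x := by
  apply Pu_congr
  · exact Nat.eq_of_testBit_eq fun j => by
      simp only [testBit_lo, Nat.testBit_mod_two_pow]
      by_cases h : j < 11 <;> simp [h]; omega
  · exact Nat.eq_of_testBit_eq fun j => by
      simp only [testBit_hi, Nat.testBit_mod_two_pow]
      by_cases h : j < 11 <;> simp [h]; omega
  · rw [zc, zc, Nat.testBit_mod_two_pow]; simp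

theorem Pu_induction {p : GG → Prop} (h1 : p 1) (h2 : ∀ i < 23, ∀ g, p g → p (Pu cl (2 ^ i) * g))
    (x : ℕ) : p (Pu cl x) := by
  have : ∀ n ≤ 23, p (Pu cl (x % 2 ^ n)) := by
    intro n hn
    induction n with
    | zero => simpa [Nat.mod_one, Pu_zero] using h1
    | succ i ih =>
      rw [mod_succ_bit]
      split_ifs
      · rw [← Pu_pow_mul]; exact h2 i (by omega) _ (ih (by omega))
      · exact ih (by omega)
  rw [← Pu_mod]; exact this 23 le_rfl

/-- The extraspecial group. -/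
def QQ : Subgroup GG where
  carrier := Set.range (Pu cl)
  mul_mem' := by rintro _ _ ⟨x, rfl⟩ ⟨y, rfl⟩; exact ⟨_, (Pu_mul cl x y).symm⟩
  one_mem' := ⟨0, Pu_zero cl⟩
  inv_mem' := by rintro _ ⟨x, rfl⟩; exact ⟨_, (Pu_inv cl x).symm⟩

theorem eq_of_parts {x y : ℕ} (hx : x < 2 ^ 23) (hy : y < 2 ^ 23) (h1 : lo x = lo y)
    (h2 : hi x = hi y) (h3 : zc x = zc y) : x = y := Nat.eq_of_testBit_eq fun j => by
  by_cases c1 : j < 11
  · simpa [testBit_lo, c1] using congrArg (fun a => a.testBit j) h1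
  · by_cases c2 : j < 22
    · have := congrArg (fun a => a.testBit (j - 11)) h2
      simpa [testBit_hi, show j - 11 < 11 by omega, show 11 + (j - 11) = j by omega] using this
    · by_cases c3 : j = 22
      · subst c3; exact h3
      · have : 2 ^ 23 ≤ 2 ^ j := Nat.pow_le_pow_right (by omega) (by omega)
        rw [Nat.testBit_lt_two_pow (by omega), Nat.testBit_lt_two_pow (by omega)]

theorem card_QQ : Nat.card (QQ cl) = 2 ^ 23 := by
  have : Function.Bijective fun x : Fin (2 ^ 23) => (⟨Pu cl x, x, rfl⟩ : QQ cl) := by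
    constructor
    · intro x y h
      obtain ⟨h1, h2, h3⟩ := Pu_inj cl (congrArg Subtype.val h)
      exact Fin.ext (eq_of_parts x.2 y.2 h1 h2 h3)
    · rintro ⟨_, x, rfl⟩
      exact ⟨⟨x % 2 ^ 23, Nat.mod_lt _ (by norm_num)⟩, Subtype.ext (Pu_mod cl x)⟩
  rw [← Nat.card_eq_of_bijective _ this, Nat.card_fin]

theorem sp_pow_lo (y : ℕ) {j : ℕ} (h : j < 11) : sp y (2 ^ j) = y.testBit (11 + j) := by
  have e1 : hi (2 ^ j) = 0 := Nat.eq_of_testBit_eq fun i => by
    simp [testBit_hi, Nat.testBit_two_pow]; omega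
  have e2 : lo (2 ^ j) = 2 ^ j := Nat.mod_eq_of_lt (Nat.pow_lt_pow_right (by omega) h)
  simp [sp, e1, e2, dot_pow _ h, testBit_hi, h]

theorem sp_pow_hi (y : ℕ) {j : ℕ} (h : j < 11) : sp y (2 ^ (11 + j)) = y.testBit j := by
  have e1 : lo (2 ^ (11 + j)) = 0 := Nat.eq_of_testBit_eq fun i => by
    simp [testBit_lo, Nat.testBit_two_pow]; omega
  have e2 : hi (2 ^ (11 + j)) = 2 ^ j := Nat.eq_of_testBit_eq fun i => by
    simp only [testBit_hi, Nat.testBit_two_pow]
    by_cases c : j = i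
    · simp [← c, h]
    · simp [c]
  simp [sp, e1, e2, dot_pow _ h, testBit_lo, h]

theorem exists_bits (f : ℕ → Bool) : ∀ n, ∃ y : ℕ, ∀ i < n, y.testBit i = f i
  | 0 => ⟨0, fun _ h => absurd h (by omega)⟩
  | n + 1 => by
    obtain ⟨y, hy⟩ := exists_bits f n
    refine ⟨if y.testBit n = f n then y else y ^^^ 2 ^ n, fun i hi' => ?_⟩
    rcases Nat.lt_succ_iff_lt_or_eq.1 hi' with h | rfl
    · split_ifs <;> simp [hy i h, Nat.testBit_two_pow_of_ne h.ne']
    · split_ifs with c
      · exact c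
      · simp only [Nat.testBit_xor, Nat.testBit_two_pow_self]
        cases h1 : y.testBit i <;> cases h2 : f i <;> simp_all

theorem exists_dual (f : ℕ → Bool) : ∃ y, ∀ i < 22, sp y (2 ^ i) = f i := by
  obtain ⟨y, hy⟩ := exists_bits (fun i => if i < 11 then f (11 + i) else f (i - 11)) 22
  refine ⟨y, fun i hi' => ?_⟩
  by_cases c : i < 11
  · rw [sp_pow_lo _ c, hy _ (by omega), if_neg (by omega), Nat.add_sub_cancel_left]
  · obtain ⟨j, rfl⟩ : ∃ j, i = 11 + j := ⟨i - 11, by omega⟩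
    rw [sp_pow_hi _ (by omega), hy _ (by omega), if_pos (by omega)]

/-- An element that commutes with the whole group is a scalar on the first 2048 coordinates. -/
theorem scalar_of_comm {h : GG} (hc : ∀ x, h * Pu cl x = Pu cl x * h) :
    ∃ a : ℚ, ∀ k < 2048, h.1 (bv 4371 k) = a • bv 4371 k := by
  have app : ∀ x v, h.1 (PL cl x v) = PL cl x (h.1 v) := fun x v =>
    congrArg (fun g : GG => g.1 v) (hc x)
  have h0 : h.1 (bv 4371 0) = ext (h.1 (bv 4371 0)) 0 • bv 4371 0 := by
    refine eq_of_ext fun i hi' => ?_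
    rw [ext_smul, Pi.smul_apply, ext_bv hi']
    split_ifs with c
    · simp [c]
    · rw [smul_zero]
      by_cases c2 : i < 2048
      · obtain ⟨j, hj⟩ := Nat.exists_testBit_of_ne_zero c
        have hj11 : j < 11 := by
          by_contra c3
          have : 2 ^ 11 ≤ 2 ^ j := Nat.pow_le_pow_right (by omega) (by omega)
          rw [Nat.testBit_lt_two_pow (by omega)] at hj
          exact absurd hj (by simp)
        have e1 : lo (2 ^ (11 + j)) = 0 := Nat.eq_of_testBit_eq fun i => by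
          simp [testBit_lo, Nat.testBit_two_pow]; omega
        have e2 : hi (2 ^ (11 + j)) = 2 ^ j := Nat.eq_of_testBit_eq fun i => by
          simp only [testBit_hi, Nat.testBit_two_pow]
          by_cases c : j = i
          · simp [← c, hj11]
          · simp [c]
        have e3 : zc (2 ^ (11 + j)) = false := Nat.testBit_two_pow_of_ne (by omega)
        have a := PL_bv_lt cl (2 ^ (11 + j)) (k := 0) (by omega)
        have b := congrArg (fun v => ext v i) (app (2 ^ (11 + j)) (bv 4371 0))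
        simp only [e1, e3, Nat.xor_zero, dot_zero, Bool.xor_false, sn_false, one_smul] at a
        simp only [a, ext_PL _ _ _ hi', Pf, if_pos c2, e1, e2, e3, Nat.xor_zero, dot_comm (2 ^ j),
          dot_pow _ hj11, hj, Bool.false_xor, sn_true] at b
        linarith
      · have a := PL_bv_lt cl (zb true) (k := 0) (by omega)
        have b := congrArg (fun v => ext v i) (app (zb true) (bv 4371 0))
        simp only [lo_zb, zc_zb, Nat.xor_zero, dot_zero, Bool.xor_false, sn_true] at a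
        simp only [a, map_smul, ext_smul, Pi.smul_apply, smul_eq_mul, ext_PL _ _ _ hi', Pf,
          if_neg c2, zb_sp, sn_false, one_mul, ite_self] at b
        linarith
  refine ⟨ext (h.1 (bv 4371 0)) 0, fun k hk => ?_⟩
  have e1 : lo k = k := Nat.mod_eq_of_lt hk
  have e2 : hi k = 0 := by
    rw [hi, Nat.shiftRight_eq_div_pow, Nat.div_eq_of_lt hk, Nat.zero_mod]
  have e3 : zc k = false := Nat.testBit_lt_two_pow (by omega)
  have a := PL_bv_lt cl k hk
  simp only [e1, e2, e3, Nat.xor_self, zero_dot, Bool.xor_false, sn_false, one_smul] at a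
  rw [← a, app, h0, map_smul, ← h0]

end H29.BP
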