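import Mathlib
import Cfsg.Agent.H29.BM.P1
import Cfsg.Agent.H29.Group

/-!
# The normaliser of the configuration of 2300 points
-/

set_option autoImplicit false
set_option linter.all false

namespace H29.BP
open H19 Finset H29.BE

theorem card_orbit_stab {G X : Type*} [Group G] [MulAction G X] (H : Subgroup G) (a : X) :
    Nat.card H = Nat.card (MulAction.orbit H a) * Nat.card ↥(H ⊓ MulAction.stabilizer G a) := by
  rw [← Nat.card_congr (MulAction.orbitProdStabilizerEquivGroup H a), Nat.card_prod]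
  congr 1
  have : MulAction.stabilizer H a = (H ⊓ MulAction.stabilizer G a).subgroupOf H := by
    ext x; simp [Subgroup.mem_subgroupOf, Subgroup.smul_def]
  rw [this]
  exact Nat.card_congr (Subgroup.subgroupOfEquivOfLe inf_le_left).toEquiv

section Form
variable {n W : ℕ}

theorem form_comm (v w : V n) : form n W v w = form n W w v :=
  sum_congr rfl fun i _ => by ring
theorem form_add_left (u v w : V n) : form n W (u + v) w = form n W u w + form n W v w := by
  simp only [form, ext_add, Pi.add_apply, ← sum_add_distrib]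
  exact sum_congr rfl fun i _ => by ring
theorem form_smul_left (a : ℚ) (v w : V n) : form n W (a • v) w = a * form n W v w := by
  simp only [form, ext_smul, Pi.smul_apply, smul_eq_mul, mul_sum]
  exact sum_congr rfl fun i _ => by ring
theorem form_add_right (u v w : V n) : form n W u (v + w) = form n W u v + form n W u w := by
  rw [form_comm, form_add_left, form_comm v, form_comm w]
theorem form_smul_right (a : ℚ) (v w : V n) : form n W v (a • w) = a * form n W v w := by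
  rw [form_comm, form_smul_left, form_comm]
theorem form_neg_left (v w : V n) : form n W (-v) w = - form n W v w := by
  rw [← neg_one_smul ℚ, form_smul_left]; ring
theorem form_neg_right (v w : V n) : form n W v (-w) = - form n W v w := by
  rw [← neg_one_smul ℚ, form_smul_right]; ring
theorem form_bv {k : ℕ} (hk : k < n) (w : V n) : form n W (bv n k) w = ent 16 W k * ext w k := by
  rw [form, sum_eq_single k, ext_bv hk, if_pos rfl, one_mul]
  · intro i hi h; rw [ext_bv (mem_range.1 hi), if_neg h]; simp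
  · intro h; exact absurd (mem_range.2 hk) h
theorem form_nondeg (hW : ∀ k < n, 0 < ent 16 W k) {v w : V n}
    (h : ∀ x, form n W x v = form n W x w) : v = w := eq_of_ext fun k hk => by
  have := h (bv n k)
  rw [form_bv hk, form_bv hk] at this
  exact mul_left_cancel₀ (by exact_mod_cast (hW k hk).ne') this

end Form

theorem smul_eq (g : GG) (v : VV) : g • v = g.1 v := rfl
theorem smul_add' (g : GG) (v w : VV) : g • (v + w) = g • v + g • w := map_add g.1 v w
theorem smul_smul' (g : GG) (a : ℚ) (v : VV) : g • (a • v) = a • g • v := map_smul g.1 a v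
theorem smul_neg'' (g : GG) (v : VV) : g • (-v) = - (g • v) := map_neg g.1 v
theorem neg_smul'' (g : GG) (v : VV) : (-g) • v = - (g • v) := rfl
theorem neg_one_smul'' (v : VV) : (-1 : GG) • v = -v := rfl
theorem neg_one_comm (g : GG) : -1 * g = g * -1 := Units.ext (by simp)
theorem gg_ext {g h : GG} (e : ∀ k < 4371, g • bv 4371 k = h • bv 4371 k) : g = h :=
  Units.ext (end_ext e)

/-- Classes of the points, their short vectors, and the weights. -/
structure Dat where
  cl : ℕ → ℕ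
  om : ℕ → VV
  W : ℕ

def pt (k : ℕ) : Prop := 2048 ≤ k ∧ k < 4348

namespace Dat
variable (D : Dat)

def B (v w : VV) : ℚ := form 4371 D.W v w
noncomputable def P (x : ℕ) : GG := Pu D.cl x
noncomputable def z : GG := zz D.cl
def Iso (h : GG) : Prop := ∀ v w, D.B (h • v) (h • w) = D.B v w

structure Act (h : GG) (k k' : ℕ) (s1 s2 : Bool) : Prop where
  om : h • D.om k = sn s1 • D.om k'
  e : h • bv 4371 k = sn s2 • bv 4371 k'
  cj : h * D.P (D.cl k) = D.P (D.cl k' ^^^ zb (xor s1 s2)) * h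

structure IsK (h : GG) : Prop where
  iso : D.Iso h
  comm : h * D.z = D.z * h
  act : ∀ k, pt k → ∃ k', pt k' ∧ ∃ s1 s2, D.Act h k k' s1 s2

variable {D}

theorem Iso.mul {g h : GG} (hg : D.Iso g) (hh : D.Iso h) : D.Iso (g * h) := fun v w => by
  rw [mul_smul, mul_smul, hg, hh]
theorem Iso.inv {g : GG} (hg : D.Iso g) : D.Iso g⁻¹ := fun v w => by
  rw [← hg, smul_inv_smul, smul_inv_smul]

theorem P_zb {h : GG} (hz : h * D.z = D.z * h) {x y : ℕ} (e : h * D.P x = D.P y * h) (c : Bool) :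
    h * D.P (x ^^^ zb c) = D.P (y ^^^ zb c) * h := by
  simp only [P] at e ⊢
  rw [← Pu_mul_zb, ← Pu_mul_zb, ← mul_assoc, e, mul_assoc, Pu_zb_comm D.cl hz, mul_assoc]

theorem Act.mul {g h : GG} (hz : g * D.z = D.z * g) {k k' k'' : ℕ} {s1 s2 t1 t2 : Bool}
    (a : D.Act h k k' s1 s2) (b : D.Act g k' k'' t1 t2) :
    D.Act (g * h) k k'' (xor s1 t1) (xor s2 t2) := by
  refine ⟨?_, ?_, ?_⟩
  · rw [mul_smul, a.om, smul_smul', b.om, smul_smul, sn_xor]
  · rw [mul_smul, a.e, smul_smul', b.e, smul_smul, sn_xor]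
  · rw [mul_assoc, a.cj, ← mul_assoc, P_zb hz b.cj, ← mul_assoc, Nat.xor_assoc, ← zb_xor]
    cases s1 <;> cases s2 <;> cases t1 <;> cases t2 <;> rfl

theorem Act.inv {h : GG} (hz : h * D.z = D.z * h) {k k' : ℕ} {s1 s2 : Bool}
    (a : D.Act h k k' s1 s2) : D.Act h⁻¹ k' k s1 s2 := by
  refine ⟨?_, ?_, ?_⟩
  · rw [inv_smul_eq_iff, smul_smul', a.om, smul_smul, sn_mul_self, one_smul]
  · rw [inv_smul_eq_iff, smul_smul', a.e, smul_smul, sn_mul_self, one_smul]
  · have := P_zb hz a.cj (xor s1 s2)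
    rw [Nat.xor_assoc, Nat.xor_self, Nat.xor_zero] at this
    rw [inv_mul_eq_iff_eq_mul, ← mul_assoc, this, mul_inv_cancel_right]

theorem IsK.inv {h : GG} (a : D.IsK h) : D.IsK h⁻¹ := by
  refine ⟨a.iso.inv, by rw [inv_mul_eq_iff_eq_mul, ← mul_assoc, a.comm, mul_inv_cancel_right], ?_⟩
  choose! f hf s1 s2 hs using a.act
  have hm : ∀ k, k ∈ Ico 2048 4348 ↔ pt k := fun k => mem_Ico
  have := surjOn_of_injOn_of_card_le (s := Ico 2048 4348) (t := Ico 2048 4348) f
    (fun k hk => (hm _).2 (hf k ((hm k).1 hk))) (fun j hj k hk e => by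
      have h1 := ((hs j ((hm j).1 hj)).inv a.comm).e
      have h2 := ((hs k ((hm k).1 hk)).inv a.comm).e
      rw [e, h2] at h1
      exact (bv_smul_inj (sn_ne _) (by have := ((hm k).1 hk).2; omega) h1).1.symm) le_rfl
  intro k hk
  obtain ⟨j, hj, rfl⟩ := this ((hm k).2 hk)
  exact ⟨j, (hm j).1 hj, _, _, (hs j ((hm j).1 hj)).inv a.comm⟩

variable (D) in
/-- The group of the isometries that respect the configuration. -/
def KK : Subgroup GG where
  carrier := {h | D.IsK h}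
  one_mem' := ⟨fun _ _ => by simp, by simp, fun k hk => ⟨k, hk, false, false, by simp, by simp,
    by simp⟩⟩
  mul_mem' := fun {g h} a b => ⟨a.iso.mul b.iso,
    by rw [mul_assoc, b.comm, ← mul_assoc, a.comm, mul_assoc], fun k hk => by
      obtain ⟨k', hk', s1, s2, c⟩ := b.act k hk
      obtain ⟨k'', hk'', t1, t2, d⟩ := a.act k' hk'
      exact ⟨k'', hk'', _, _, c.mul a.comm d⟩⟩
  inv_mem' := IsK.inv

theorem neg_one_mem : (-1 : GG) ∈ D.KK :=
  ⟨fun v w => by simp only [neg_one_smul'', B, form_neg_left, form_neg_right, neg_neg], neg_one_comm _,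
    fun k hk => ⟨k, hk, true, true, by simp [neg_one_smul''], by simp [neg_one_smul''], by simpa using neg_one_comm _⟩⟩

variable (D) in
structure OK : Prop where
  pos : ∀ k < 4371, 0 < ent 16 D.W k
  inA : ∀ k, InA (D.om k)
  isoP : ∀ x, D.Iso (D.P x)
  gen : ∀ i < 22, D.P (2 ^ i) ∈ Subgroup.closure ({D.z} ∪ {g | ∃ k, pt k ∧ g = D.P (D.cl k)})
  cl_inj : ∀ j k, pt j → pt k → lo (D.cl j) = lo (D.cl k) → hi (D.cl j) = hi (D.cl k) → j = k
  bcB : ∀ j < 22, D.om (4304 + 2 * j) = (-16 : ℚ) • bv 4371 4348 + (32 : ℚ) • bv 4371 (4349 + j)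
  bcC : ∀ j < 22, D.om (4305 + 2 * j) = (16 : ℚ) • bv 4371 4348 + (32 : ℚ) • bv 4371 (4349 + j)
  w0 : ent 16 D.W 4348 = 4
  w1 : ∀ j < 22, ent 16 D.W (4349 + j) = 2
  wp : ∀ k, pt k → ent 16 D.W k = 1
  row : ∀ k, pt k → ∀ s, sn s • D.om k = D.om 4304 → k = 4304 ∧ s = false

theorem OK.P_mem (hD : D.OK) (x : ℕ) : D.P x ∈ D.KK :=
  ⟨hD.isoP x, zz_comm D.cl x, fun k hk => ⟨k, hk, false, sp x (D.cl k),
    by rw [sn_false, one_smul]; exact PL_inA _ _ (hD.inA k), PL_bv_pt _ _ hk.1 hk.2,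
    by rw [Bool.false_xor]; exact Pu_comm _ _ _⟩⟩

theorem OK.z_mem (hD : D.OK) : D.z ∈ D.KK := hD.P_mem _

theorem OK.P_ind (hD : D.OK) {H : Subgroup GG} (hz : D.z ∈ H)
    (h : ∀ k, pt k → D.P (D.cl k) ∈ H) (x : ℕ) : D.P x ∈ H := by
  refine Pu_induction D.cl (p := fun g => g ∈ H) H.one_mem (fun i hi g hg => H.mul_mem ?_ hg) x
  by_cases c : i = 22
  · subst c; exact hz
  · refine (Subgroup.closure_le H).2 ?_ (hD.gen i (by omega))
    rintro g (rfl | ⟨k, hk, rfl⟩)
    · exact hz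
    · exact h k hk

theorem OK.norm (hD : D.OK) {h : GG} (hh : h ∈ D.KK) (x : ℕ) : ∃ y, h * D.P x = D.P y * h := by
  have := hD.P_ind (H := (QQ D.cl).comap (MulAut.conj h).toMonoidHom) ?_ ?_ x
  · obtain ⟨y, hy⟩ := this
    refine ⟨y, ?_⟩
    change Pu D.cl y = h * D.P x * h⁻¹ at hy
    rw [P, P, hy, inv_mul_cancel_right]; rfl
  · refine ⟨zb true, ?_⟩
    change D.z = h * D.z * h⁻¹
    rw [hh.comm, mul_inv_cancel_right]
  · intro k hk
    obtain ⟨k', -, s1, s2, a⟩ := hh.act k hk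
    refine ⟨D.cl k' ^^^ zb (xor s1 s2), ?_⟩
    change D.P _ = h * D.P _ * h⁻¹
    rw [a.cj, mul_inv_cancel_right]

/-- Signed points: position `16 k + s` stands for `± om k`. -/
noncomputable def ph (D : Dat) (p : ℕ) : VV := sn (decide (p % 16 = 1)) • D.om (p / 16)
def dom (p : ℕ) : Prop := p % 16 < 2 ∧ pt (p / 16)
def Rel (D : Dat) (h : GG) (p q : ℕ) : Prop :=
  h • D.ph q = D.ph p ∧ ∃ s, h • bv 4371 (q / 16) = sn s • bv 4371 (p / 16)

theorem Rel.mul {g h : GG} {p q r : ℕ} (a : D.Rel g p q) (b : D.Rel h q r) : D.Rel (g * h) p r := by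
  obtain ⟨a1, s, a2⟩ := a
  obtain ⟨b1, t, b2⟩ := b
  exact ⟨by rw [mul_smul, b1, a1], xor t s, by rw [mul_smul, b2, smul_smul', a2, smul_smul, sn_xor]⟩

theorem Rel.one (p : ℕ) : D.Rel 1 p p := ⟨by simp, false, by simp⟩

theorem ph_mk (k : ℕ) (s : Bool) : D.ph (16 * k + s.toNat) = sn s • D.om k := by
  have h1 : (16 * k + s.toNat) / 16 = k := by cases s <;> simp <;> omega
  have h2 : decide ((16 * k + s.toNat) % 16 = 1) = s := by cases s <;> simp <;> omega
  rw [ph, h1, h2]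

theorem dom_mk {k : ℕ} (hk : pt k) (s : Bool) : dom (16 * k + s.toNat) := by
  have h1 : (16 * k + s.toNat) / 16 = k := by cases s <;> simp <;> omega
  exact ⟨by cases s <;> simp <;> omega, by rwa [h1]⟩

theorem dom_cases {p : ℕ} (h : dom p) : ∃ k s, pt k ∧ p = 16 * k + Bool.toNat s := by
  refine ⟨p / 16, decide (p % 16 = 1), h.2, ?_⟩
  have := h.1
  by_cases c : p % 16 = 1 <;> simp [c] <;> omega

theorem exists_ph {h : GG} (hh : h ∈ D.KK) {p : ℕ} (hp : dom p) : ∃ q, dom q ∧ D.Rel h q p := by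
  obtain ⟨k, s, hk, rfl⟩ := dom_cases hp
  obtain ⟨k', hk', s1, s2, a⟩ := hh.act k hk
  have h1 : ∀ (k : ℕ) (s : Bool), (16 * k + s.toNat) / 16 = k := fun k s => by
    cases s <;> simp <;> omega
  exact ⟨16 * k' + (xor s s1).toNat, dom_mk hk' _,
    by rw [ph_mk, ph_mk, smul_smul', a.om, smul_smul, sn_xor], s2, by rw [h1, h1, a.e]⟩

/-- Transitivity on the points. -/
def Tr (D : Dat) : Prop := ∀ k, pt k → ∃ h ∈ D.KK, D.Rel h (16 * k) (16 * 4304)

theorem OK.om_ne (hD : D.OK) : D.om 4304 ≠ 0 := fun h => by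
  have := hD.row 4304 ⟨by omega, by omega⟩ true (by rw [h, smul_zero])
  simp at this

theorem OK.om_inj (hD : D.OK) (ht : D.Tr) {j k : ℕ} (hj : pt j) (hk : pt k) {s : Bool}
    (e : sn s • D.om j = D.om k) : j = k ∧ s = false := by
  obtain ⟨h, hh, a1, t, a2⟩ := ht k hk
  have p0 := fun k => D.ph_mk k false
  simp only [Bool.toNat_false, add_zero, sn_false, one_smul] at p0
  rw [p0, p0, eq_comm, ← inv_smul_eq_iff] at a1
  simp only [Nat.mul_div_cancel_left _ (show 0 < 16 by omega)] at a2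
  obtain ⟨j', hj', s1, s2, b⟩ := (D.KK.inv_mem hh).act j hj
  rw [← e, smul_smul', b.om, smul_smul, ← sn_xor] at a1
  obtain ⟨rfl, h2⟩ := hD.row j' hj' _ a1
  have b2 := b.e
  rw [inv_smul_eq_iff, smul_smul', a2, smul_smul, ← one_smul ℚ (bv 4371 j)] at b2
  obtain rfl := (bv_smul_inj one_ne_zero (by have := hj.2; omega) b2).1
  refine ⟨rfl, ?_⟩
  cases s
  · rfl
  · exfalso
    have : D.om j = 0 := by
      rw [sn_true, neg_one_smul, neg_eq_iff_add_eq_zero, ← two_smul ℚ] at e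
      simpa using e
    have h3 := b.om
    rw [this, smul_zero, eq_comm, smul_eq_zero] at h3
    exact h3.elim (sn_ne _) hD.om_ne

theorem OK.ph_inj (hD : D.OK) (ht : D.Tr) {p q : ℕ} (hp : dom p) (hq : dom q)
    (e : D.ph p = D.ph q) : p = q := by
  obtain ⟨k, s, hk, rfl⟩ := dom_cases hp
  obtain ⟨j, t, hj, rfl⟩ := dom_cases hq
  rw [ph_mk, ph_mk] at e
  have : sn (xor t s) • D.om k = D.om j := by
    rw [sn_xor, ← smul_smul, e, smul_smul, sn_mul_self, one_smul]
  obtain ⟨rfl, h⟩ := hD.om_inj ht hk hj this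
  cases s <;> cases t <;> simp_all

theorem fix_inA {h : GG} {a : ℚ} (e : ∀ i, 4348 ≤ i → i < 4371 → h • bv 4371 i = a • bv 4371 i)
    {v : VV} (hv : InA v) : h • v = a • v := by
  rw [eq_sum_bv v, smul_eq, map_sum, smul_sum]
  refine sum_congr rfl fun i hi => ?_
  by_cases c : i < 4348
  · simp [hv i c]
  · rw [map_smul, ← smul_eq, e i (by omega) (mem_range.1 hi), smul_comm]

/-- The kernel of the action on the last 23 coordinates. -/
theorem OK.ker (hD : D.OK) (ht : D.Tr) {h : GG} (hh : h ∈ D.KK)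
    (e : ∀ i, 4348 ≤ i → i < 4371 → h • bv 4371 i = bv 4371 i) : h ∈ QQ D.cl := by
  have key : ∀ {h : GG}, h ∈ D.KK → (∀ i, 4348 ≤ i → i < 4371 → h • bv 4371 i = bv 4371 i) →
      ∀ k, pt k → ∃ s, D.Act h k k false s := fun {h} hh e k hk => by
    obtain ⟨k', hk', s1, s2, a⟩ := hh.act k hk
    have h1 := a.om
    rw [fix_inA (a := 1) (by simpa using e) (hD.inA k), one_smul] at h1
    obtain ⟨rfl, rfl⟩ := hD.om_inj ht hk' hk h1.symm
    exact ⟨s2, a⟩
  let S : Subgroup GG :=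
    { carrier := {g | g * D.z = D.z * g ∧ ∃ c, h * g = D.P (zb c) * g * h}
      one_mem' := ⟨by simp, false, by simp [P, Pu_zero]⟩
      mul_mem' := by
        rintro a b ⟨a0, c, ha⟩ ⟨b0, d, hb⟩
        refine ⟨by rw [mul_assoc, b0, ← mul_assoc, a0, mul_assoc], xor d c, ?_⟩
        rw [← mul_assoc, ha, mul_assoc, hb, zb_xor, P, P, P, ← Pu_zb_mul]
        simp only [← mul_assoc]
        rw [mul_assoc _ a, Pu_zb_comm D.cl a0, ← mul_assoc]
      inv_mem' := by
        rintro a ⟨a0, c, ha⟩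
        have a1 : a⁻¹ * D.z = D.z * a⁻¹ := by
          rw [inv_mul_eq_iff_eq_mul, ← mul_assoc, a0, mul_inv_cancel_right]
        refine ⟨a1, c, ?_⟩
        rw [mul_inv_eq_iff_eq_mul, mul_assoc, ha, P, ← Pu_zb_comm D.cl a0, mul_assoc, mul_assoc,
          inv_mul_cancel_left, ← mul_assoc, Pu_zb_mul, Nat.xor_self, Pu_zero, one_mul] }
  have hS : ∀ x, D.P x ∈ S := hD.P_ind ⟨rfl, false, by simp [P, Pu_zero, hh.comm]⟩ fun k hk => by
    obtain ⟨s, a⟩ := key hh e k hk
    exact ⟨zz_comm _ _, s, by rw [a.cj, P, P, P, Pu_zb_mul, Bool.false_xor]⟩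
  choose c hc using fun x => (hS x).2
  obtain ⟨y, hy⟩ := exists_dual fun i => c (2 ^ i)
  have hy1 : (D.P y)⁻¹ * h ∈ D.KK := D.KK.mul_mem (D.KK.inv_mem (hD.P_mem y)) hh
  have hy2 : ∀ i, 4348 ≤ i → i < 4371 → ((D.P y)⁻¹ * h) • bv 4371 i = bv 4371 i := fun i a b => by
    rw [mul_smul, e i a b, inv_smul_eq_iff]; exact (PL_inA _ _ (inA_bv a)).symm
  have hy3 : ∀ x, (D.P y)⁻¹ * h * D.P x = D.P x * ((D.P y)⁻¹ * h) := by
    refine Pu_induction D.cl (p := fun g => (D.P y)⁻¹ * h * g = g * ((D.P y)⁻¹ * h)) (by simp)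
      fun i hi g hg => ?_
    have : (D.P y)⁻¹ * h * D.P (2 ^ i) = D.P (2 ^ i) * ((D.P y)⁻¹ * h) := by
      by_cases c : i = 22
      · subst c; exact hy1.comm
      · rw [mul_assoc, hc, ← hy i (by omega), P, P, P, Pu_zb_mul, inv_mul_eq_iff_eq_mul,
          ← mul_assoc, Pu_comm D.cl y, mul_assoc, mul_inv_cancel_left]
    change _ * (D.P _ * g) = D.P _ * g * _
    rw [← mul_assoc, this, mul_assoc, hg, ← mul_assoc]
  suffices (D.P y)⁻¹ * h ∈ QQ D.cl by
    simpa using (QQ D.cl).mul_mem (⟨y, rfl⟩ : D.P y ∈ QQ D.cl) this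
  generalize (D.P y)⁻¹ * h = g at hy1 hy2 hy3
  obtain ⟨a, ha⟩ := scalar_of_comm D.cl hy3
  have h1 : ∀ k, pt k → g • bv 4371 k = bv 4371 k := fun k hk => by
    obtain ⟨s, b⟩ := key hy1 hy2 k hk
    have b1 := b.cj
    rw [hy3, mul_left_inj, Bool.false_xor] at b1
    have : false = s := zb_inj D.cl (x := D.cl k) (by simpa [P] using b1)
    have b2 := b.e
    rwa [← this, sn_false, one_smul] at b2
  have h2 := hy1.iso (bv 4371 0) (bv 4371 0)
  rw [smul_eq, ha 0 (by omega), B, B, form_smul_left, form_smul_right, ← mul_assoc,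
    form_bv (by omega), ext_bv (by omega), if_pos rfl, mul_one] at h2
  have h3 : a * a = 1 := by
    have : (ent 16 D.W 0 : ℚ) ≠ 0 := by exact_mod_cast (hD.pos 0 (by omega)).ne'
    exact mul_right_cancel₀ this (by rw [h2, one_mul])
  obtain ⟨c, rfl⟩ : ∃ c, a = sn c := by
    rcases mul_self_eq_one_iff.1 h3 with h | h
    exacts [⟨false, h⟩, ⟨true, h⟩]
  refine ⟨zb c, gg_ext fun k hk => ?_⟩
  rw [smul_eq]
  change PL D.cl _ _ = _
  by_cases c1 : k < 2048
  · have := PL_bv_lt D.cl (zb c) c1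
    simp only [lo_zb, hi_zb, zc_zb, Nat.xor_zero, zero_dot, Bool.xor_false] at this
    rw [this, smul_eq, ha k c1]
  · by_cases c2 : k < 4348
    · rw [PL_bv_pt _ _ (by omega) c2, h1 k ⟨by omega, c2⟩]; simp
    · rw [PL_inA _ _ (inA_bv (by omega)), hy2 k (by omega) hk]

theorem OK.fixA (hD : D.OK) {h : GG} {a : ℚ}
    (e : ∀ k, 4304 ≤ k → k < 4348 → h • D.om k = a • D.om k) :
    ∀ i, 4348 ≤ i → i < 4371 → h • bv 4371 i = a • bv 4371 i := by
  have key : ∀ j < 22, h • bv 4371 4348 = a • bv 4371 4348 ∧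
      h • bv 4371 (4349 + j) = a • bv 4371 (4349 + j) := fun j hj => by
    have h1 := e (4304 + 2 * j) (by omega) (by omega)
    have h2 := e (4305 + 2 * j) (by omega) (by omega)
    rw [hD.bcB j hj, smul_add', smul_smul', smul_smul'] at h1
    rw [hD.bcC j hj, smul_add', smul_smul', smul_smul'] at h2
    generalize h • bv 4371 4348 = x at h1 h2 ⊢
    generalize h • bv 4371 (4349 + j) = y at h1 h2 ⊢
    constructor
    · linear_combination (norm := module) (1 / 32 : ℚ) • h2 - (1 / 32 : ℚ) • h1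
    · linear_combination (norm := module) (1 / 64 : ℚ) • h2 + (1 / 64 : ℚ) • h1
  intro i h1 h2
  by_cases c : i = 4348
  · subst c; exact (key 0 (by omega)).1
  · obtain ⟨j, rfl⟩ : ∃ j, i = 4349 + j := ⟨i - 4349, by omega⟩
    exact (key j (by omega)).2

theorem OK.B_bc (hD : D.OK) {k : ℕ} (h1 : 4304 ≤ k) (h2 : k < 4348) :
    D.B (D.om 4304) (D.om k) ≠ 0 := by
  have e0 := hD.bcB 0 (by omega)
  have w1 := hD.w1 0 (by omega)
  simp only [mul_zero, add_zero] at e0 w1
  rw [e0, B, form_add_left, form_smul_left, form_smul_left, form_bv (by omega),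
    form_bv (by omega), hD.w0, w1]
  obtain ⟨j, rfl | rfl⟩ : ∃ j, k = 4304 + 2 * j ∨ k = 4305 + 2 * j := ⟨(k - 4304) / 2, by omega⟩
  · rw [hD.bcB j (by omega)]
    simp only [ext_add, ext_smul, Pi.add_apply, Pi.smul_apply, ext_bv (show 4348 < 4371 by omega),
      ext_bv (show 4349 < 4371 by omega)]
    split_ifs <;> first | omega | norm_num
  · rw [hD.bcC j (by omega)]
    simp only [ext_add, ext_smul, Pi.add_apply, Pi.smul_apply, ext_bv (show 4348 < 4371 by omega),
      ext_bv (show 4349 < 4371 by omega)]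
    split_ifs <;> first | omega | norm_num

/-- The centraliser of the extraspecial group. -/
theorem OK.centQ (hD : D.OK) (ht : D.Tr) {h : GG} (hh : h ∈ D.KK)
    (hc : ∀ x, h * D.P x = D.P x * h) : ∃ c, h = D.P (zb c) ∨ h = - D.P (zb c) := by
  have key : ∀ k, pt k → ∃ s, h • D.om k = sn s • D.om k := fun k hk => by
    obtain ⟨k', hk', s1, s2, a⟩ := hh.act k hk
    have b := a.cj
    rw [hc, mul_left_inj] at b
    obtain ⟨b1, b2, -⟩ := Pu_inj D.cl b
    simp only [lo_xor, hi_xor, lo_zb, hi_zb, Nat.xor_zero] at b1 b2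
    obtain rfl := hD.cl_inj k k' hk hk' b1 b2
    exact ⟨s1, a.om⟩
  obtain ⟨s, hs⟩ := key 4304 ⟨by omega, by omega⟩
  have e := hD.fixA (h := h) (a := sn s) fun k h1 h2 => by
    obtain ⟨t, ht⟩ := key k ⟨by omega, h2⟩
    have := hh.iso (D.om 4304) (D.om k)
    rw [hs, ht, B, form_smul_left, form_smul_right, ← mul_assoc, ← sn_xor] at this
    have h3 : sn (xor s t) = sn false := mul_right_cancel₀ (hD.B_bc h1 h2) (by simpa [B] using this)
    have h4 := sn_inj h3
    rw [ht]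
    cases s <;> cases t <;> simp_all
  have fin : ∀ g ∈ QQ D.cl, (∀ x, g * D.P x = D.P x * g) → ∃ c, g = D.P (zb c) := by
    rintro _ ⟨y, rfl⟩ hy
    have h0 : ∀ x, sp y x = false := fun x => by
      have := hy x
      rw [P, Pu_comm, mul_left_inj] at this
      exact zb_inj D.cl (x := x) (by simpa using this)
    refine ⟨zc y, Pu_congr _ (Nat.eq_of_testBit_eq fun j => ?_)
      (Nat.eq_of_testBit_eq fun j => ?_) (by simp)⟩
    · by_cases c : j < 11
      · simp [testBit_lo, ← sp_pow_hi y c, h0]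
      · simp [testBit_lo, c]
    · by_cases c : j < 11
      · simp [testBit_hi, ← sp_pow_lo y c, h0]
      · simp [testBit_hi, c]
  cases s
  · obtain ⟨c, hc⟩ := fin h (hD.ker ht hh (by simpa using e)) hc
    exact ⟨c, Or.inl hc⟩
  · obtain ⟨c, hc⟩ := fin (-1 * h) (hD.ker ht (D.KK.mul_mem neg_one_mem hh) fun i a b => by
      rw [mul_smul, e i a b, neg_one_smul'']; simp) fun x => by
        rw [mul_assoc, hc, ← mul_assoc, neg_one_comm, mul_assoc]
    refine ⟨c, Or.inr ?_⟩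
    rw [← hc]; exact Units.ext (by simp)

variable (D) in
/-- The elements that fix the signed points of the list. -/
def Fix (bs : List ℕ) : Subgroup GG where
  carrier := {h | h ∈ D.KK ∧ ∀ b ∈ bs, h • D.ph b = D.ph b}
  one_mem' := ⟨D.KK.one_mem, by simp⟩
  mul_mem' := fun a b => ⟨D.KK.mul_mem a.1 b.1, fun x hx => by rw [mul_smul, b.2 x hx, a.2 x hx]⟩
  inv_mem' := fun a => ⟨D.KK.inv_mem a.1, fun x hx => by rw [inv_smul_eq_iff, a.2 x hx]⟩

theorem Fix_nil : D.Fix [] = D.KK := by ext h; simp [Fix, ← SetLike.mem_coe]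

theorem Fix_cons (b : ℕ) (bs : List ℕ) :
    D.Fix (b :: bs) = D.Fix bs ⊓ MulAction.stabilizer GG (D.ph b) := by
  ext h
  change (_ ∧ _) ↔ (_ ∧ _) ∧ _
  simp only [List.mem_cons, forall_eq_or_imp, SetLike.mem_coe, MulAction.mem_stabilizer_iff]
  tauto

/-- The signed points with the inner products of `t` lie in `S`. -/
def Cls (D : Dat) (bs : List ℕ) (t S : ℕ) : Prop :=
  ∀ q, dom q → (∀ b ∈ bs, D.B (D.ph b) (D.ph q) = D.B (D.ph b) (D.ph t)) → S.testBit q = true

theorem Cls.mem {bs : List ℕ} {t S : ℕ} (hc : D.Cls bs t S) (ht : dom t) {h : GG}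
    (hh : h ∈ D.Fix bs) : ∃ q, dom q ∧ S.testBit q = true ∧ D.Rel h q t := by
  obtain ⟨q, hq, a⟩ := exists_ph hh.1 ht
  exact ⟨q, hq, hc q hq fun b hb => by rw [← a.1, ← hh.1.iso (D.ph b) (D.ph t), hh.2 b hb], a⟩

theorem Cls.fix {bs : List ℕ} {t : ℕ} (hc : D.Cls bs t (bit t)) (ht : dom t) {h : GG}
    (hh : h ∈ D.Fix bs) : h • D.ph t = D.ph t := by
  obtain ⟨q, -, h1, a⟩ := hc.mem ht hh
  rw [testBit_bit, decide_eq_true_eq] at h1
  rw [a.1, h1]

theorem OK.step (hD : D.OK) (ht : D.Tr) {H : Subgroup GG} {bs : List ℕ} {b S m : ℕ} (hb : dom b)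
    (hc : D.Cls bs b S) (hm : {i | S.testBit i = true}.ncard = m)
    (ho : ∀ q, S.testBit q = true → dom q ∧ ∃ k ∈ H, k ∈ D.Fix bs ∧ k • D.ph b = D.ph q) :
    (D.Fix (b :: bs) ≤ H → D.Fix bs ≤ H) ∧
      Nat.card (D.Fix bs) = m * Nat.card (D.Fix (b :: bs)) := by
  constructor
  · intro hle h hh
    obtain ⟨q, -, h1, a⟩ := hc.mem hb hh
    obtain ⟨-, k, hk, hk', e⟩ := ho q h1
    have : k⁻¹ * h ∈ D.Fix (b :: bs) := by
      rw [Fix_cons]
      exact ⟨(D.Fix bs).mul_mem ((D.Fix bs).inv_mem hk') hh, by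
        change (k⁻¹ * h) • _ = _
        rw [mul_smul, a.1, inv_smul_eq_iff, e]⟩
    simpa using H.mul_mem hk (hle this)
  · rw [card_orbit_stab _ (D.ph b), ← Fix_cons, ← hm]
    congr 1
    have : MulAction.orbit (D.Fix bs) (D.ph b) = D.ph '' {i | S.testBit i = true} := by
      ext v
      constructor
      · rintro ⟨⟨h, hh⟩, rfl⟩
        obtain ⟨q, -, h1, a⟩ := hc.mem hb hh
        exact ⟨q, h1, a.1.symm⟩
      · rintro ⟨q, hq, rfl⟩
        obtain ⟨-, k, -, hk', e⟩ := ho q hq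
        exact ⟨⟨k, hk'⟩, e⟩
    rw [this, Nat.card_coe_set_eq, Set.InjOn.ncard_image]
    exact fun p hp q hq e => hD.ph_inj ht (ho p hp).1 (ho q hq).1 e

end Dat
end H29.BP
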