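import Mathlib
import Cfsg.Agent.H29.BM.P2

/-!
# Kernel checks: conjugation tables, point actions, orbits
-/

set_option autoImplicit false
set_option linter.all false

namespace H29.BP
open H19 Finset H29.BE Dat

/-! ### The product of codes -/

/-- The table of the parities of the numbers below 2048. -/
def PT : ℕ := nat_lit 0x96696996699696696996966996696996699696699669699696696996699696696996966996696996966969966996966996696996699696696996966996696996699696699669699696696996699696699669699669969669699696699669699696696996699696696996966996696996699696699669699696696996699696696996966996696996966969966996966996696996699696696996966996696996966969966996966969969669966969966996966996696996966969966996966996696996699696696996966996696996699696699669699696696996699696696996966996696996966969966996966996696996699696696996966996696996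

def mulK (x y : ℕ) : ℕ := Nat.xor (Nat.xor x y) (Nat.shiftLeft (Nat.land (Nat.shiftRight PT
  (Nat.land (Nat.land (Nat.shiftRight y (nat_lit 11)) x) (nat_lit 2047))) (nat_lit 1)) (nat_lit 22))

theorem PT_spec : ∀ v < 2048, Nat.land (Nat.shiftRight PT v) 1 = (parN 11 v).toNat := by
  have : allN 2048 (fun v => Nat.beq (Nat.land (Nat.shiftRight PT v) 1)
      (Bool.rec 0 1 (parN 11 v))) = true := by decide +kernel
  intro v hv
  rw [beq_true.1 (allN_true.1 this v hv)]
  cases parN 11 v <;> rfl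

theorem mulK_eq (x y : ℕ) : mulK x y = mul x y := by
  have e : Nat.land (Nat.land (Nat.shiftRight y (nat_lit 11)) x) (nat_lit 2047) = hi y &&& lo x := by
    rw [land_eq, land_eq, show nat_lit 2047 = 2 ^ 11 - 1 from rfl, shr_eq]
    apply Nat.eq_of_testBit_eq
    intro i
    simp only [Nat.testBit_and, Nat.testBit_two_pow_sub_one, testBit_hi, testBit_lo,
      Nat.testBit_shiftRight]
    cases decide (i < 11) <;> simp
  have h := PT_spec (hi y &&& lo x) (lt_of_le_of_lt Nat.and_le_left (hi_lt y))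
  rw [mulK, e, mul, dot]
  erw [h]
  cases parN 11 (hi y &&& lo x) <;> rfl

/-- Bit test for the kernel. -/
def tb (x i : ℕ) : Bool := Nat.beq (Nat.land (Nat.shiftRight x i) (nat_lit 1)) (nat_lit 1)

theorem tb_eq (x i : ℕ) : tb x i = x.testBit i := by
  rw [tb, Nat.testBit, land_eq, shr_eq, show nat_lit 1 = 1 from rfl, Nat.and_comm, Nat.one_and_eq_mod_two]
  rcases Nat.mod_two_eq_zero_or_one (x >>> i) with h | h <;> rw [h] <;> rfl

theorem rec_ite {α : Type} (a b : α) (c : Bool) :
    (Bool.rec a b c : α) = if c = true then b else a := by cases c <;> rfl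

/-- The word of the set bits, highest first. -/
noncomputable def pwN (x n : ℕ) : List ℕ :=
  Nat.rec (motive := fun _ => List ℕ) [] (fun i ih => Bool.rec ih (i :: ih) (tb x i)) n

noncomputable def pw (x : ℕ) : List ℕ := pwN x 23

variable {D : Dat}

theorem ev_pw {e : ℕ → GG} (he : ∀ c < 23, e c = D.P (2 ^ c)) (x : ℕ) : ev e (pw x) = D.P x := by
  have : ∀ n ≤ 23, ev e (pwN x n) = D.P (x % 2 ^ n) := by
    intro n hn
    induction n with
    | zero => simp [pwN, Nat.mod_one, P, Pu_zero]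
    | succ i ih =>
      rw [show pwN x (i + 1) = Bool.rec (pwN x i) (i :: pwN x i) (tb x i) from rfl, rec_ite, tb_eq,
        mod_succ_bit]
      split_ifs
      · rw [ev_cons, ih (by omega), he i (by omega)]; exact Pu_pow_mul _ _ _
      · exact ih (by omega)
  rw [pw, this 23 le_rfl]; exact Pu_mod _ _

/-- Field `j` of 32 bits. -/
def f32 (X j : ℕ) : ℕ := Nat.land (Nat.shiftRight X (Nat.mul (nat_lit 32) j)) (nat_lit 4294967295)

theorem f32_eq (X j : ℕ) : f32 X j = ent 32 X j := by
  rw [f32, ent, land_eq, show nat_lit 4294967295 = 2 ^ 32 - 1 from rfl,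
    Nat.and_two_pow_sub_one_eq_mod]; rfl

noncomputable def cjN (M x n : ℕ) : ℕ :=
  Nat.rec (motive := fun _ => ℕ) 0
    (fun i ih => @Bool.rec (fun _ => ℕ) ih (mulK (f32 M i) ih) (tb x i)) n

/-- Conjugation of the code `x` by an element with the table `M`. -/
noncomputable def cj (M x : ℕ) : ℕ := cjN M x 23

theorem cjN_succ (M x i : ℕ) :
    cjN M x (i + 1) = if x.testBit i then mul (f32 M i) (cjN M x i) else cjN M x i := by
  rw [← tb_eq, ← mulK_eq, ← rec_ite]; rfl

/-- `M` is the table of `g`. -/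
def Tab (D : Dat) (g : GG) (M : ℕ) : Prop := ∀ i < 23, D.P (2 ^ i) * g = g * D.P (f32 M i)

theorem Tab.cj {g : GG} {M : ℕ} (h : Tab D g M) (x : ℕ) : D.P x * g = g * D.P (cj M x) := by
  have : ∀ n ≤ 23, D.P (x % 2 ^ n) * g = g * D.P (cjN M x n) := by
    intro n hn
    induction n with
    | zero => simp [cjN, Nat.mod_one, P, Pu_zero]
    | succ i ih =>
      rw [cjN_succ, mod_succ_bit]
      split_ifs
      · rw [P, P, ← Pu_pow_mul, ← Pu_mul, mul_assoc]
        change _ * (D.P _ * g) = _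
        rw [ih (by omega), ← mul_assoc]
        change D.P _ * g * _ = _
        rw [h i (by omega), mul_assoc]; rfl
      · exact ih (by omega)
  rw [BP.cj, ← this 23 le_rfl, P, P, Pu_mod]

/-- Conjugation along a word. -/
noncomputable def cw (cm : ℕ → ℕ) (w : List ℕ) : ℕ → ℕ :=
  List.rec (motive := fun _ => ℕ → ℕ) (fun x => x) (fun c _ ih x => lit (cj (cm c) x) ih) w

theorem cw_sound {e : ℕ → GG} {cm : ℕ → ℕ} : ∀ (w : List ℕ), (∀ c ∈ w, Tab D (e c) (cm c)) →
    ∀ x, D.P x * ev e w = ev e w * D.P (cw cm w x)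
  | [], _, x => by simp [cw]
  | c :: w, h, x => by
    rw [ev_cons, ← mul_assoc, (h c (by simp)).cj, mul_assoc,
      cw_sound w (fun a ha => h a (by simp [ha])), ← mul_assoc]
    rw [cw, cw]; rfl

/-- `h` conjugates the class `x` to the class `y`. -/
def CRel (D : Dat) (h : GG) (x y : ℕ) : Prop := ∃ c, D.P x * h = h * D.P (y ^^^ zb c)

/-- Equality of classes. -/
def ceq (x y : ℕ) : Bool := Nat.beq (Nat.land (Nat.xor x y) (nat_lit 4194303)) 0

theorem P_of_bits {x y : ℕ} (h : ∀ r < 22, x.testBit r = y.testBit r) :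
    ∃ c, D.P x = D.P (y ^^^ zb c) := by
  refine ⟨xor (zc x) (zc y), Pu_congr _ ?_ ?_ ?_⟩
  · rw [lo_xor, lo_zb, Nat.xor_zero]
    exact Nat.eq_of_testBit_eq fun j => by
      by_cases c : j < 11 <;> simp [testBit_lo, c]; exact h j (by omega)
  · rw [hi_xor, hi_zb, Nat.xor_zero]
    exact Nat.eq_of_testBit_eq fun j => by
      by_cases c : j < 11 <;> simp [testBit_hi, c]; exact h _ (by omega)
  · rw [zc_xor, zc_zb]; cases zc x <;> cases zc y <;> rfl

theorem ceq_sound {x y : ℕ} (h : ceq x y = true) : ∃ c, D.P x = D.P (y ^^^ zb c) := by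
  refine P_of_bits fun r hr => ?_
  have := congrArg (fun a => Nat.testBit a r) (beq_true.1 h)
  have h2 : Nat.testBit (nat_lit 4194303) r = true := by
    rw [show nat_lit 4194303 = 2 ^ 22 - 1 from rfl, Nat.testBit_two_pow_sub_one]; simpa using hr
  simp only [land_eq, xor_eq, Nat.testBit_and, Nat.testBit_xor, Nat.zero_testBit] at this
  rw [h2, Bool.and_true] at this
  cases h1 : x.testBit r <;> cases h2 : y.testBit r <;> simp_all

theorem CRel.of_eq {h : GG} {x y y' : ℕ} (e : D.P x * h = h * D.P y) (c : ceq y y' = true) :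
    CRel D h x y' := by
  obtain ⟨c, hc⟩ := ceq_sound (D := D) c
  exact ⟨c, by rw [e, hc]⟩

theorem P_zb' {h : GG} (hz : h * D.z = D.z * h) {x y : ℕ} (e : D.P x * h = h * D.P y) (c : Bool) :
    D.P (x ^^^ zb c) * h = h * D.P (y ^^^ zb c) := by
  simp only [P] at e ⊢
  rw [← Pu_zb_mul, ← Pu_zb_mul, mul_assoc, e, ← mul_assoc, ← Pu_zb_comm D.cl hz, mul_assoc]

theorem CRel.mul {g h : GG} (hz : h * D.z = D.z * h) {x y w : ℕ} (a : CRel D g x y)
    (b : CRel D h y w) : CRel D (g * h) x w := by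
  obtain ⟨c, a⟩ := a
  obtain ⟨d, b⟩ := b
  exact ⟨xor d c, by rw [← mul_assoc, a, mul_assoc, P_zb' hz b, Nat.xor_assoc, ← zb_xor, mul_assoc]⟩

theorem CRel.inv {h : GG} (hz : h * D.z = D.z * h) {x y : ℕ} (a : CRel D h x y) :
    CRel D h⁻¹ y x := by
  obtain ⟨c, a⟩ := a
  refine ⟨c, ?_⟩
  have := P_zb' hz a c
  rw [Nat.xor_assoc, Nat.xor_self, Nat.xor_zero] at this
  rw [mul_inv_eq_iff_eq_mul, mul_assoc, this, inv_mul_cancel_left]

theorem CRel.uniq {h : GG} {x y y' : ℕ} (a : CRel D h x y) (b : CRel D h x y') :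
    lo y = lo y' ∧ hi y = hi y' := by
  obtain ⟨c, a⟩ := a
  obtain ⟨d, b⟩ := b
  rw [a, mul_right_inj] at b
  have := Pu_inj _ b
  simpa [lo_xor, hi_xor] using And.intro this.1 this.2.1

theorem CRel.P (x y : ℕ) : CRel D (D.P y) x x := by
  refine ⟨sp y x, ?_⟩
  have := P_zb' (D := D) (zz_comm _ y) (x := x ^^^ zb (sp y x)) (y := x) (Pu_comm _ y x).symm (sp y x)
  rwa [Nat.xor_assoc, Nat.xor_self, Nat.xor_zero] at this

/-- An element that fixes all classes lies in `± Q`. -/
theorem Dat.OK.of_classes (hD : D.OK) (ht : D.Tr) {h : GG} (hh : h ∈ D.KK)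
    (hc : ∀ i < 22, CRel D h (2 ^ i) (2 ^ i)) : ∃ x, h = D.P x ∨ h = - D.P x := by
  choose! c hc using hc
  obtain ⟨y, hy⟩ := exists_dual c
  have hy1 : h * (D.P y)⁻¹ ∈ D.KK := D.KK.mul_mem hh (D.KK.inv_mem (hD.P_mem y))
  obtain ⟨d, hd⟩ := hD.centQ ht hy1 (Pu_induction D.cl
    (p := fun g => h * (D.P y)⁻¹ * g = g * (h * (D.P y)⁻¹)) (by simp) fun i hi g hg => by
      have : h * (D.P y)⁻¹ * D.P (2 ^ i) = D.P (2 ^ i) * (h * (D.P y)⁻¹) := by
        by_cases c : i = 22
        · subst c; exact hy1.comm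
        · rw [← mul_assoc, hc i (by omega), ← hy i (by omega), mul_assoc, mul_assoc, mul_right_inj,
            inv_mul_eq_iff_eq_mul, ← mul_assoc, eq_mul_inv_iff_mul_eq]
          have := P_zb (D := D) (zz_comm _ y) (Pu_comm D.cl y (2 ^ i)) (sp y (2 ^ i))
          rw [Nat.xor_assoc, Nat.xor_self, Nat.xor_zero] at this
          exact this.symm
      change _ * (D.P _ * g) = D.P _ * g * _
      rw [← mul_assoc, this, mul_assoc, hg]; simp only [mul_assoc])
  refine ⟨y ^^^ zb d, hd.imp (fun a => ?_) fun a => ?_⟩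
  · rw [mul_inv_eq_iff_eq_mul] at a; rw [a]; exact Pu_zb_mul _ _ _
  · rw [mul_inv_eq_iff_eq_mul] at a; rw [a, P, P, P, ← Pu_zb_mul]; exact Units.ext (by simp)

/-! ### Orbits of bit sets -/

def Pres (Q : ℕ → Prop) (f : ℕ → ℕ) : Prop :=
  ∀ S : ℕ, (∀ p, S.testBit p = true → Q p) → ∀ p, (f S).testBit p = true → Q p

noncomputable def sweepF (fs : List (ℕ → ℕ)) : ℕ → ℕ :=
  List.rec (motive := fun _ => ℕ → ℕ) (fun S => S) (fun f _ ih S => lit (Nat.lor S (f S)) ih) fs

noncomputable def orbF (fs : List (ℕ → ℕ)) (r : ℕ) : ℕ → ℕ :=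
  Nat.rec (motive := fun _ => ℕ → ℕ) (fun S => S) (fun _ ih S => lit (sweepF fs S) ih) r

theorem Pres.sweep {Q : ℕ → Prop} : ∀ {fs : List (ℕ → ℕ)}, (∀ f ∈ fs, Pres Q f) →
    Pres Q (sweepF fs)
  | [], _ => fun _ h => h
  | f :: fs, h => fun S hS => by
    rw [sweepF]
    refine Pres.sweep (fs := fs) (fun a ha => h a (by simp [ha])) (Nat.lor S (f S)) fun p hp => ?_
    rw [lor_eq, Nat.testBit_or, Bool.or_eq_true] at hp
    exact hp.elim (hS p) (h f (by simp) S hS p)

theorem Pres.orb {Q : ℕ → Prop} {fs : List (ℕ → ℕ)} (h : ∀ f ∈ fs, Pres Q f) :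
    ∀ r, Pres Q (orbF fs r)
  | 0 => fun _ h => h
  | r + 1 => fun S hS => Pres.orb h r (sweepF fs S) (Pres.sweep h S hS)

theorem Pres.cover {Q : ℕ → Prop} {fs : List (ℕ → ℕ)} (h : ∀ f ∈ fs, Pres Q f) {b r S : ℕ}
    (hb : Q b) (hc : sub S (orbF fs r (bit b)) = true) (p : ℕ) (hp : S.testBit p = true) : Q p :=
  Pres.orb h r _ (fun q hq => by
    rw [testBit_bit, decide_eq_true_eq] at hq; exact hq ▸ hb) p (sub_true hc hp)

/-! ### The action on signed points -/

/-- A network on fields and a mask of sign changes. -/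
noncomputable def spull (a : Net × ℕ) (x : ℕ) : ℕ := dswap 1 a.2 (a.1.pull x)

def PtOK (D : Dat) (g : GG) (f : ℕ → ℕ) : Prop :=
  ∀ p, dom p → ∃ q, dom q ∧ D.Rel g p q ∧ ∀ x, (f x).testBit p = x.testBit q

noncomputable def spw (kp : ℕ → Net × ℕ) (w : List ℕ) (x : ℕ) : ℕ :=
  List.rec (motive := fun _ => ℕ) x (fun c _ ih => lit ih (spull (kp c))) w

theorem spw_ok {e : ℕ → GG} {kp : ℕ → Net × ℕ} : ∀ (w : List ℕ),
    (∀ c ∈ w, PtOK D (e c) (spull (kp c))) → PtOK D (ev e w) (spw kp w)
  | [], _ => fun p hp => ⟨p, hp, Rel.one p, fun _ => rfl⟩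
  | c :: w, h => fun p hp => by
    obtain ⟨q, hq, a, b⟩ := h c (by simp) p hp
    obtain ⟨r, hr, a', b'⟩ := spw_ok w (fun x hx => h x (by simp [hx])) q hq
    refine ⟨r, hr, by rw [ev_cons]; exact a.mul a', fun x => ?_⟩
    rw [← b', ← b]; rfl

theorem PtOK.pres {g : GG} {f : ℕ → ℕ} (h : PtOK D g f) {Q : ℕ → Prop}
    (hQ : ∀ p q, dom p → dom q → D.Rel g p q → Q q → Q p) : Pres (fun p => dom p → Q p) f := by
  intro S hS p hp hd
  obtain ⟨q, hq, a, b⟩ := h p hd
  exact hQ p q hd hq a (hS q (by rw [← b, hp]) hq)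

theorem swapFun_sign {s : ℕ} (hs : sub s (gone 16 4371) = true) :
    s &&& s <<< 1 = 0 ∧ ∀ k (c : Bool), swapFun 1 s (16 * k + c.toNat) =
      16 * k + (xor c (s.testBit (16 * k))).toNat := by
  have h0 : ∀ k r, r < 16 → r ≠ 0 → s.testBit (16 * k + r) = false := fun k r h1 h2 => by
    have := ent_of_sub (x := s) (n := 4371) (s := 0) (by omega) (by simpa using hs) k
    have h3 := testBit_ent 16 s k r
    rw [this] at h3
    split_ifs at h3
    · rw [Nat.testBit_two_pow_of_ne (Ne.symm h2)] at h3; simpa [h1] using h3.symm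
    · simpa [h1] using h3.symm
  constructor
  · apply Nat.eq_of_testBit_eq
    intro i
    simp only [Nat.testBit_and, Nat.testBit_shiftLeft, Nat.zero_testBit]
    by_cases c : i % 16 = 0
    · by_cases c0 : i = 0
      · simp [c0]
      · have := h0 ((i - 1) / 16) 15 (by omega) (by omega)
        rw [show 16 * ((i - 1) / 16) + 15 = i - 1 by omega] at this
        simp [this]
    · have := h0 (i / 16) (i % 16) (by omega) c
      rw [Nat.div_add_mod] at this
      simp [this]
  · intro k c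
    cases c
    · simp only [swapFun, Bool.toNat_false, add_zero, Bool.false_xor]
      cases h : s.testBit (16 * k)
      · rw [if_neg (by simp), if_neg]
        · rfl
        · rintro ⟨h1, h2⟩
          have := h0 (k - 1) 15 (by omega) (by omega)
          rw [show 16 * (k - 1) + 15 = 16 * k - 1 by omega, h2] at this
          simp at this
      · simp
    · simp only [swapFun, Bool.toNat_true, h0 k 1 (by omega) (by omega)]
      cases h : s.testBit (16 * k) <;> simp [h]

theorem ptOK_of_act {g : GG} {a : Net × ℕ} (hn : NOK 4371 a.1)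
    (hs : sub a.2 (gone 16 4371) = true) (hz : g * D.z = D.z * g)
    (h : ∀ k, pt k → pt (fidx a.1 k) ∧ ∃ s, D.Act g (fidx a.1 k) k (a.2.testBit (16 * k)) s) :
    PtOK D g (spull a) := by
  intro p hp
  obtain ⟨k, c, hk, rfl⟩ := dom_cases hp
  obtain ⟨h1, s, b⟩ := h k hk
  obtain ⟨K, hK⟩ := hn.valid
  obtain ⟨d1, d2⟩ := swapFun_sign hs
  have h2 : ∀ (k : ℕ) (s : Bool), (16 * k + s.toNat) / 16 = k := fun k s => by
    cases s <;> simp <;> omega
  refine ⟨16 * fidx a.1 k + (xor c (a.2.testBit (16 * k))).toNat, dom_mk h1 _, ⟨?_, s, ?_⟩,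
    fun x => ?_⟩
  · rw [ph_mk, ph_mk, smul_smul', b.om, smul_smul, sn_xor, mul_assoc, sn_mul_self, mul_one]
  · rw [h2, h2, b.e]
  · rw [spull, testBit_dswap d1, Net.testBit_pull hK, d2, hn.al.eq]
    cases xor c (a.2.testBit (16 * k)) <;> simp

theorem mlin_bv {m : Mon} (hm : m.OK 4371) {k : ℕ} (hk : k < 4371) :
    m.lin 4371 (bv 4371 (fidx m.net k)) = sn (m.sg.testBit (16 * k + 15)) • bv 4371 k := by
  refine eq_of_ext fun i hi => ?_
  rw [ext_mlin _ _ hi, ext_bv (hm.net.lt i hi), ext_smul, Pi.smul_apply, ext_bv hi]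
  by_cases c : i = k
  · subst c; simp [Mon.sgn, sn]
  · rw [if_neg c, if_neg fun e => c (hm.net.inj e)]; simp

theorem ent_step_id {E : Env} (hE : E.OK) {m : Mon} (hm : m.OK E.n) {k : ℕ} (hk : k < E.n) :
    ent 16 (m.step E.id) k =
      fidx m.net k + if m.sg.testBit (16 * k + 15) then 32768 else 0 := by
  have h1 := hm.net.lt k hk
  have h2 := hE.le
  rw [hm.ent_step, hE.id _ h1]
  split_ifs
  · rw [xor_top (by omega), if_neg (by omega)]
  · rfl

/-- The pointwise check of a letter: `F` holds its signed permutation of the coordinates, `s` its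
signs on the short vectors, `M` its table. -/
noncomputable def chkPts (cl : ℕ → ℕ) (F s M : ℕ) : Bool :=
  allN 2300 fun j => lit (Nat.add 2048 j) fun k => lit (fld F k) fun x =>
    lit (Nat.land x 32767) fun i => and2 (Nat.ble 2048 i) (and2 (Nat.ble i 4347)
      (Nat.beq (cj M (cl k)) (Nat.xor (cl i) (Nat.shiftLeft
        (Nat.xor (Nat.shiftRight x 15) (Nat.land (fld s k) 1)) 22))))

theorem letter_ok {E : Env} (hE : E.OK) (hn : E.n = 4371) {g : GG} {m : Mon} {s M : ℕ}
    (hm : m.OK 4371) (hs : sub s (gone 16 4371) = true) (iso : D.Iso g) (hT : Tab D g M)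
    (hz : f32 M 22 = zb true)
    (he : ∀ j, pt j → g • bv 4371 j = m.lin 4371 (bv 4371 j))
    (ho : ∀ k, pt k → g • (sn (s.testBit (16 * k)) • D.om (fidx m.net k)) = D.om k)
    (hp : chkPts D.cl (m.step E.id) s M = true) : g ∈ D.KK ∧ PtOK D g (spull (m.net, s)) := by
  have hz' : g * D.z = D.z * g := by
    have := hT 22 (by omega)
    rw [hz] at this
    exact this.symm
  have key : ∀ k, pt k → pt (fidx m.net k) ∧
      ∃ t, D.Act g (fidx m.net k) k (s.testBit (16 * k)) t := fun k hk => by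
    obtain ⟨j, rfl⟩ : ∃ j, k = 2048 + j := ⟨k - 2048, by have := hk.1; omega⟩
    have c := allN_true.1 hp j (by have := hk.2; omega)
    have h1 := hm.net.lt (2048 + j) (by have := hk.2; omega)
    have e1 := ent_step_id hE (hn ▸ hm) (k := 2048 + j) (by have := hk.2; omega)
    simp only [lit_e, and2_true, ble_true, beq_true, fld_eq, Nat.add_eq, e1] at c
    have e2 : Nat.land (fidx m.net (2048 + j) +
        if m.sg.testBit (16 * (2048 + j) + 15) then 32768 else 0) 32767 = fidx m.net (2048 + j) := by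
      rw [land_eq, show 32767 = 2 ^ 15 - 1 from rfl, Nat.and_two_pow_sub_one_eq_mod]
      split_ifs <;> omega
    have e3 : Nat.shiftLeft (Nat.xor (Nat.shiftRight (fidx m.net (2048 + j) +
        if m.sg.testBit (16 * (2048 + j) + 15) then 32768 else 0) 15)
        (Nat.land (ent 16 s (2048 + j)) 1)) 22 =
        zb (xor (s.testBit (16 * (2048 + j))) (m.sg.testBit (16 * (2048 + j) + 15))) := by
      have a1 : Nat.shiftRight (fidx m.net (2048 + j) +
          if m.sg.testBit (16 * (2048 + j) + 15) then 32768 else 0) 15 =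
          (m.sg.testBit (16 * (2048 + j) + 15)).toNat := by
        rw [shr_eq, Nat.shiftRight_eq_div_pow]
        cases m.sg.testBit (16 * (2048 + j) + 15) <;> simp <;> omega
      have a2 : Nat.land (ent 16 s (2048 + j)) 1 = (s.testBit (16 * (2048 + j))).toNat := by
        rw [land_eq, Nat.and_one_is_mod, ← add_zero (16 * _), ← Bool.true_and (s.testBit _),
          ← show decide (0 < 16) = true from rfl, ← testBit_ent, Nat.testBit_zero]
        rcases Nat.mod_two_eq_zero_or_one (ent 16 s (2048 + j)) with h | h <;> simp [h]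
      rw [a1, a2]
      cases s.testBit (16 * (2048 + j)) <;> cases m.sg.testBit (16 * (2048 + j) + 15) <;> rfl
    rw [e2, e3] at c
    have hp' : pt (fidx m.net (2048 + j)) := ⟨c.1, by omega⟩
    refine ⟨hp', m.sg.testBit (16 * (2048 + j) + 15), ?_, ?_, ?_⟩
    · rw [← ho _ hk, smul_smul', smul_smul, sn_mul_self, one_smul]
    · rw [he _ hp', mlin_bv hm (by have := hk.2; omega)]
    · have := P_zb' hz' (hT.cj (D.cl (2048 + j)))
        (xor (s.testBit (16 * (2048 + j))) (m.sg.testBit (16 * (2048 + j) + 15)))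
      rw [this, c.2.2, xor_eq, Nat.xor_assoc, Nat.xor_self, Nat.xor_zero]
  refine ⟨?_, ptOK_of_act hm.net hs hz' key⟩
  rw [← D.KK.inv_mem_iff]
  refine ⟨iso.inv, by rw [inv_mul_eq_iff_eq_mul, ← mul_assoc, hz', mul_inv_cancel_right],
    fun k hk => ?_⟩
  obtain ⟨h1, t, a⟩ := key k hk
  exact ⟨_, h1, _, _, a.inv hz'⟩

end H29.BP
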