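import Mathlib
import Cfsg.Agent.H29.BM.P3

/-!
# Kernel checks: short vectors, inner products, stabiliser chains
-/

set_option autoImplicit false
set_option linter.all false

namespace H29.BP
open H19 Finset H29.BE Dat

/-! ### The action on the short vectors -/

theorem nok_ge {n : ℕ} {a : Net} (h : NOK n a) {k : ℕ} (hk : n ≤ k) : n ≤ fidx a k := by
  by_contra c
  have := surjOn_of_injOn_of_card_le (s := range n) (t := range n) (fidx a)
    (fun k hk => mem_range.2 (h.lt k (mem_range.1 hk))) h.inj.injOn le_rfl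
  obtain ⟨j, hj, e⟩ := this (mem_range.2 (show fidx a k < n by omega))
  have := h.inj e
  have := mem_range.1 hj
  omega

theorem nok_pull_lt {n : ℕ} {a : Net} (h : NOK n a) {x : ℕ} (hx : x < 2 ^ (16 * n)) :
    a.pull x < 2 ^ (16 * n) := by
  obtain ⟨K, hK⟩ := h.valid
  refine Nat.lt_pow_two_of_testBit _ fun i hi => ?_
  rw [Net.testBit_pull hK, ← Nat.div_add_mod i 16, h.al.eq _ (Nat.mod_lt _ (by omega))]
  have := nok_ge h (k := i / 16) (by omega)
  exact Nat.testBit_lt_two_pow (lt_of_lt_of_le hx (Nat.pow_le_pow_right (by omega) (by omega)))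

theorem row_pull {P : Par} (hb : P.b = 16) {a : Net} (h : NOK P.C a) {x o m : ℕ} {f : ℕ → ℚ}
    (hm : m < 2 ^ 16) (hx : Row P x o m f) : Row P (a.pull x) o m fun c => f (fidx a c) := by
  obtain ⟨g, rfl, h2⟩ := hx
  have hg : ∀ t < P.C, g t < 2 ^ 16 := fun t ht => lt_of_le_of_lt (h2 t ht).1 hm
  refine ⟨fun c => g (fidx a c), ?_, fun c hc => h2 _ (h.lt c hc)⟩
  rw [hb, ← pack_ent (nok_pull_lt h (pack_lt hg))]
  exact pack_congr fun t ht => by rw [h.ent_pull, ent_pack hg, if_pos (h.lt t ht)]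

/-- Change the signs of the fields marked in `s`; the offset is `o`. -/
def flip (s o x : ℕ) : ℕ := Nat.sub (Nat.add x (Nat.mul s (Nat.mul 2 o)))
  (Nat.mul (Nat.land x (Nat.mul s 65535)) 2)

theorem sub_gone {s n : ℕ} (hs : sub s (gone 16 n) = true) :
    s = pack 16 n fun c => (s.testBit (16 * c)).toNat := by
  have h1 : s < 2 ^ (16 * n) := by
    rw [sub, beq_true, gone_eq (by omega)] at hs
    rw [← hs]
    exact lt_of_le_of_lt Nat.and_le_right (pack_lt fun _ _ => by norm_num)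
  conv_lhs => rw [← pack_ent h1]
  refine pack_congr fun t _ => ?_
  rw [ent_of_sub (x := s) (n := n) (s := 0) (by omega) (by simpa using hs) t, add_zero]
  cases s.testBit (16 * t) <;> rfl

theorem row_flip {P : Par} (hb : P.b = 16) {s : ℕ} (hs : sub s (gone 16 P.C) = true) {x o : ℕ}
    {f : ℕ → ℚ} (hm : 2 * o < 2 ^ 16) (hx : Row P x o (2 * o) f) :
    Row P (flip s o x) o (2 * o) fun c => sn (s.testBit (16 * c)) * f c := by
  obtain ⟨g, rfl, h2⟩ := hx
  have hg : ∀ t < P.C, g t < 2 ^ 16 := fun t ht => lt_of_le_of_lt (h2 t ht).1 hm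
  refine ⟨fun c => if s.testBit (16 * c) then 2 * o - g c else g c, ?_, fun c hc => ?_⟩
  · have e := sub_gone hs
    obtain ⟨b, hb0⟩ : ∃ b : ℕ → Bool, ∀ c, s.testBit (16 * c) = b c := ⟨_, fun _ => rfl⟩
    simp only [hb0] at e ⊢
    clear hb0 hs
    subst e
    simp only [flip, Nat.sub_eq, Nat.add_eq, Nat.mul_eq, land_eq, hb]
    rw [pack_mul, pack_mul, pack_land hg fun t _ => by cases b t <;> simp, pack_mul, pack_add]
    refine Nat.sub_eq_of_eq_add ?_
    rw [pack_add]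
    refine pack_congr fun t ht => ?_
    have := (h2 t ht).1
    cases b t
    · simp
    · have : g t &&& 65535 = g t := by
        rw [show 65535 = 2 ^ 16 - 1 from rfl, Nat.and_two_pow_sub_one_eq_mod,
          Nat.mod_eq_of_lt (hg t ht)]
      simp [this]; omega
  · have := h2 c hc
    dsimp only
    cases s.testBit (16 * c)
    · simpa using this
    · simp only [if_true, sn_true]
      refine ⟨Nat.sub_le _ _, ?_⟩
      rw [Nat.cast_sub this.1, this.2]; push_cast; ring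

/-- The short vector of the point `k`; `Ψ j` holds its entries with offset 128. -/
def omv (n : ℕ) (Ψ : ℕ → ℕ) (k : ℕ) : V n := fun i =>
  if 4348 ≤ (i : ℕ) then (fld (Ψ (i - 4348)) k : ℚ) - 128 else 0

theorem ext_omv {n : ℕ} (Ψ : ℕ → ℕ) (k : ℕ) {i : ℕ} (hi : i < n) : ext (omv n Ψ k) i =
    if 4348 ≤ i then (fld (Ψ (i - 4348)) k : ℚ) - 128 else 0 :=
  ext_lt (fun i => if 4348 ≤ i then (fld (Ψ (i - 4348)) k : ℚ) - 128 else 0) hi

theorem row_psi {P : Par} (hb : P.b = 16) {x : ℕ}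
    (hx : sub x (Nat.mul (gone 16 P.C) 255) = true) :
    Row P (Nat.add x (Nat.mul (gone 16 P.C) 896)) 1024 (2 * 1024) fun c => (fld x c : ℚ) - 128 := by
  rw [sub, beq_true, gone_eq (by omega), Nat.mul_eq, cst_mul] at hx
  have h1 : x < 2 ^ (16 * P.C) := by
    rw [← hx]
    exact lt_of_le_of_lt Nat.and_le_right (pack_lt fun _ _ => by norm_num)
  have h2 : Row P x 128 255 fun c => (fld x c : ℚ) - 128 := by
    refine ⟨ent 16 x, by rw [hb, pack_ent h1], fun c hc => ⟨?_, by simp [fld_eq]⟩⟩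
    rw [← hx, land_eq, ent_land, ent_cst (by norm_num), if_pos hc]
    exact Nat.and_le_right
  have := h2.addc 896
  rw [hb] at this
  rw [gone_eq (by omega), Nat.mul_eq, cst_mul]
  exact this.congr rfl (by omega) fun _ _ => rfl

noncomputable def chkOm (E : Env) (S : Sh) (sa sb : List (ℕ → ℕ)) (Ψ : ℕ → ℕ) (a : Net) (s : ℕ)
    (u : List ℕ) : Bool :=
  lit sa.length fun J => mkPar 10 (Nat.add J E.n) fun P => and2 (and2 (bnd E.n (Nat.mul 2 P.h) sa)
    (and2 (Nat.beq J sb.length) (bnd E.n (Nat.mul 2 P.h) sb)))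
    (lit (gone 16 E.n) fun G => lit (Nat.mul G 1024) fun O => lit (Nat.mul G 896) fun O' =>
      lit (Nat.mul P.b J) fun w =>
      init (fun i => Nat.add (rowL P.b sa i) (Nat.shiftLeft (@Bool.rec (fun _ => ℕ) O
        (flip s 1024 (a.pull (Nat.add (Ψ (Nat.sub i 4348)) O'))) (Nat.ble 4348 i)) w)) S fun t =>
      init (fun i => Nat.add (rowL P.b sb i) (Nat.shiftLeft (@Bool.rec (fun _ => ℕ) O
        (Nat.add (Ψ (Nat.sub i 4348)) O') (Nat.ble 4348 i)) w)) S fun t' =>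
      run E P t u fun F t1 => run E P t' [] fun F' t2 => eqv P w E.n F t1 F' t2)

theorem chkOm_sound {E : Env} (hE : E.OK) {S : Sh} (hS : S.wf 0 E.n = true) {sa sb : List (ℕ → ℕ)}
    {Ψ : ℕ → ℕ} {a : Net} {s : ℕ} {u : List ℕ} (ha : NOK E.n a) (hs : sub s (gone 16 E.n) = true)
    (hΨ : ∀ i < E.n, 4348 ≤ i → sub (Ψ (i - 4348)) (Nat.mul (gone 16 E.n) 255) = true)
    (h : chkOm E S sa sb Ψ a s u = true) : ∀ k < E.n, (ev E.g u : Gam E.n).1
      (sn (s.testBit (16 * k)) • omv E.n Ψ (fidx a k)) = omv E.n Ψ k := by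
  simp only [chkOm, lit_e] at h
  obtain ⟨P, hP, hb, hC, hh, h⟩ := mkPar_sound h
  rw [and2_true, and2_true, and2_true, beq_true] at h
  obtain ⟨⟨hbd, hl, hbd'⟩, h⟩ := h
  rw [Nat.add_eq] at hC
  have hh' : P.h = 1024 := hh
  have hb' : P.b = 16 := hb
  let P' : Par := {P with C := P.C - sa.length}
  have eC : P'.C = E.n := by change P.C - _ = _; omega
  have r0 : Row P' (Nat.mul (gone 16 E.n) 1024) P.h (2 * P.h) fun _ => 0 := by
    rw [gone_eq (by omega), Nat.mul_eq, cst_mul, hh', ← eC]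
    have := Row.cst (P := P') 1024
    rw [show P'.b = 16 from hb'] at this
    exact this.congr rfl (by omega) fun _ _ => rfl
  have r1 : ∀ i < E.n, 4348 ≤ i → Row P' (Nat.add (Ψ (Nat.sub i 4348)) (Nat.mul (gone 16 E.n) 896))
      1024 (2 * 1024) fun c => (fld (Ψ (i - 4348)) c : ℚ) - 128 := fun i h1 h2 => by
    have := row_psi (P := P') hb' (x := Ψ (i - 4348)) (by rw [eC]; exact hΨ i h1 h2)
    rwa [eC] at this
  obtain ⟨t, h, ht⟩ := init_sound (P := P) (u := fun c => ext (if c < sa.length then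
      vec E.n P.h (sa.getD c fun _ => 0) else sn (s.testBit (16 * (c - sa.length))) •
        omv E.n Ψ (fidx a (c - sa.length)))) S hS
    (fun i _ hi => (Row.cat (f' := fun c => ext (sn (s.testBit (16 * c)) • omv E.n Ψ (fidx a c)) i)
      (by omega) (rowL_row (P := {P with C := sa.length}) rfl hbd hi) (by
        simp only [ble_ite, ext_smul, Pi.smul_apply, ext_omv _ _ hi, smul_eq_mul]
        split_ifs with c
        · rw [hh']
          exact row_flip (P := P') hb' (by rwa [eC]) (by norm_num)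
            (row_pull (P := P') hb' (by rwa [eC]) (by norm_num) (r1 i hi c))
        · exact r0.congr rfl le_rfl fun _ _ => by simp)).congr rfl le_rfl
      fun c _ => by split_ifs <;> rfl) h
  obtain ⟨t', h, ht'⟩ := init_sound (P := P) (u := fun c => ext (if c < sa.length then
      vec E.n P.h (sb.getD c fun _ => 0) else omv E.n Ψ (c - sa.length))) S hS
    (fun i _ hi => (Row.cat (f' := fun c => ext (omv E.n Ψ c) i)
      (by omega) (rowL_row (P := {P with C := sa.length}) hl hbd' hi) (by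
        simp only [ble_ite, ext_omv _ _ hi]
        split_ifs with c
        · rw [hh']; exact r1 i hi c
        · exact r0)).congr rfl le_rfl fun c _ => by split_ifs <;> rfl) h
  obtain ⟨F, t1, h, h3⟩ := run_sound hE hP ht u h
  obtain ⟨F', t2, h, h4⟩ := run_sound hE hP ht' [] h
  intro k hk
  have := eqv_sound hP h3 h4 h k (by omega)
  simpa using this

/-! ### Words in checked letters -/

variable {D : Dat}

theorem Dat.Rel.inv {h : GG} {p q : ℕ} (a : D.Rel h p q) : D.Rel h⁻¹ q p := by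
  obtain ⟨a1, s, a2⟩ := a
  exact ⟨by rw [inv_smul_eq_iff, a1], s,
    by rw [inv_smul_eq_iff, smul_smul', a2, smul_smul, sn_mul_self, one_smul]⟩

/-- Letters with their actions on the points and on the codes; `km` marks the checked ones. -/
structure Ctx (D : Dat) where
  e : ℕ → GG
  kp : ℕ → Net × ℕ
  cm : ℕ → ℕ
  km : ℕ
  ok : ∀ c, km.testBit c = true → e c ∈ D.KK ∧ PtOK D (e c) (spull (kp c)) ∧ Tab D (e c) (cm c)

noncomputable def inM (m : ℕ) (w : List ℕ) : Bool := allL w (tb m)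

theorem inM_true {m : ℕ} {w : List ℕ} (h : inM m w = true) : ∀ c ∈ w, m.testBit c = true :=
  fun c hc => by rw [← tb_eq]; exact allL_true.1 h c hc

theorem mem_of_inM {e : ℕ → GG} {H : Subgroup GG} {m : ℕ} (hH : ∀ c, m.testBit c = true → e c ∈ H)
    {w : List ℕ} (h : inM m w = true) : ev e w ∈ H := ev_mem fun c hc => hH c (inM_true h c hc)

variable {C : Ctx D}

theorem Ctx.mem {w : List ℕ} (h : inM C.km w = true) : ev C.e w ∈ D.KK :=
  mem_of_inM (fun c hc => (C.ok c hc).1) h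

theorem Ctx.pt {w : List ℕ} (h : inM C.km w = true) : PtOK D (ev C.e w) (spw C.kp w) :=
  spw_ok w fun c hc => (C.ok c (inM_true h c hc)).2.1

theorem Ctx.cj {w : List ℕ} (h : inM C.km w = true) (x : ℕ) :
    D.P x * ev C.e w = ev C.e w * D.P (cw C.cm w x) :=
  cw_sound w (fun c hc => (C.ok c (inM_true h c hc)).2.2) x

theorem Ctx.crel {w : List ℕ} (h : inM C.km w = true) {x y : ℕ}
    (e : ceq (cw C.cm w x) y = true) : CRel D (ev C.e w) x y := CRel.of_eq (Ctx.cj h x) e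

theorem PtOK.rel {g : GG} {f : ℕ → ℕ} (h : PtOK D g f) {p q : ℕ} (hp : dom p)
    (e : tb (f (bit q)) p = true) : D.Rel g p q := by
  obtain ⟨r, -, a, b⟩ := h p hp
  rw [tb_eq, b, testBit_bit, decide_eq_true_eq] at e
  exact e ▸ a

noncomputable def mapW (kp : ℕ → Net × ℕ) (ws : List (List ℕ)) : List (ℕ → ℕ) :=
  List.rec (motive := fun _ => List (ℕ → ℕ)) [] (fun w _ ih => spw kp w :: ih) ws

theorem mapW_eq (kp : ℕ → Net × ℕ) : ∀ ws, mapW kp ws = ws.map (spw kp)
  | [] => rfl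
  | w :: ws => by rw [List.map_cons, ← mapW_eq kp ws]; rfl

theorem Ctx.cover {H : Subgroup GG} {ws : List (List ℕ)}
    (hw : ∀ w ∈ ws, inM C.km w = true ∧ ev C.e w ∈ H) {b r S : ℕ}
    (hc : sub S (orbF (mapW C.kp ws) r (bit b)) = true) (p : ℕ) (hp : S.testBit p = true)
    (hd : dom p) : ∃ h ∈ H, D.Rel h p b := by
  refine Pres.cover (Q := fun p => dom p → ∃ h ∈ H, D.Rel h p b) ?_
    (fun _ => ⟨1, H.one_mem, Rel.one b⟩) hc p hp hd
  intro f hf
  rw [mapW_eq] at hf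
  obtain ⟨w, hw', rfl⟩ := List.mem_map.1 hf
  refine (Ctx.pt (hw w hw').1).pres ?_
  rintro p q - - a ⟨h, hh, c⟩
  exact ⟨_, H.mul_mem (hw w hw').2 hh, a.mul c⟩

/-- The mask of all signed points. -/
noncomputable def DOM : ℕ := Nat.shiftLeft (Nat.mul (gone 16 2300) 3) 32768

theorem testBit_dom (n m q : ℕ) : (Nat.shiftLeft (Nat.mul (gone 16 n) 3) m).testBit q = true ↔
    m ≤ q ∧ (q - m) / 16 < n ∧ (q - m) % 16 < 2 := by
  rw [gone_eq (by omega), Nat.mul_eq, cst_mul, shl_eq, Nat.testBit_shiftLeft]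
  have h := testBit_ent 16 (cst 16 n 3) ((q - m) / 16) ((q - m) % 16)
  rw [Nat.div_add_mod, ent_cst (by norm_num)] at h
  have h1 : (q - m) % 16 < 16 := Nat.mod_lt _ (by omega)
  simp only [h1, decide_true, Bool.true_and] at h
  rw [← h]
  have h3 : ∀ r < 16, (Nat.testBit 3 r = true ↔ r < 2) := by decide
  split_ifs with c
  · simp only [Bool.and_eq_true, decide_eq_true_eq, h3 _ h1]; omega
  · simp only [Nat.zero_testBit, Bool.and_false, Bool.false_eq_true, false_iff]; omega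

theorem testBit_DOM (q : ℕ) : DOM.testBit q = true ↔ dom q :=
  (testBit_dom 2300 32768 q).trans (by rw [dom, pt]; omega)

/-! ### Inner products -/

/-- `M` marks the signed points with inner product `v` with `b`. -/
def Msk (D : Dat) (b : ℕ) (v : ℚ) (M : ℕ) : Prop :=
  ∀ q, dom q → (M.testBit q = true ↔ D.B (D.ph b) (D.ph q) = v)

theorem Msk.move {g : GG} {f : ℕ → ℕ} (hg : D.Iso g) (hf : PtOK D g f) {b0 b M : ℕ} {v : ℚ}
    (e : D.Rel g b b0) (h : Msk D b0 v M) : Msk D b v (f M) := fun p hp => by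
  obtain ⟨q, hq, a, c⟩ := hf p hp
  rw [c, h q hq, ← e.1, ← a.1, hg]

def MskL (D : Dat) (x : ℕ × List ℕ) : Prop := dom x.1 ∧ ∀ M ∈ x.2, ∃ v, Msk D x.1 v M

/-- Move three masks along a word. -/
noncomputable def chkMv (km : ℕ) (kp : ℕ → Net × ℕ) (w : List ℕ) (b0 b A B C A' B' C' : ℕ) : Bool :=
  and2 (inM km w) (and2 (tb DOM b) (and2 (tb (spw kp w (bit b0)) b)
    (and2 (Nat.beq (spw kp w A) A') (and2 (Nat.beq (spw kp w B) B') (Nat.beq (spw kp w C) C')))))

theorem MskL.move {w : List ℕ} {b0 b A B E A' B' E' : ℕ} (h : MskL D (b0, [A, B, E]))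
    (c : chkMv C.km C.kp w b0 b A B E A' B' E' = true) : MskL D (b, [A', B', E']) := by
  simp only [chkMv, and2_true, beq_true] at c
  obtain ⟨c1, c2, c3, rfl, rfl, rfl⟩ := c
  rw [tb_eq, testBit_DOM] at c2
  refine ⟨c2, fun M hM => ?_⟩
  have : ∃ M0 ∈ [A, B, E], M = spw C.kp w M0 := by simpa using hM
  obtain ⟨M0, h0, rfl⟩ := this
  obtain ⟨v, hv⟩ := h.2 M0 h0
  exact ⟨v, hv.move (Ctx.mem c1).iso (Ctx.pt c1) ((Ctx.pt c1).rel c2 c3)⟩

noncomputable def pick (l : List ℕ) (t : ℕ) : ℕ → ℕ :=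
  List.rec (motive := fun _ => ℕ → ℕ) (fun S => S)
    (fun M _ ih S => @Bool.rec (fun _ => ℕ) (ih S) (Nat.land S M) (tb M t)) l

noncomputable def inter (ps : List (ℕ × List ℕ)) (t : ℕ) : ℕ → ℕ :=
  List.rec (motive := fun _ => ℕ → ℕ) (fun S => S) (fun x _ ih S => lit (pick x.2 t S) ih) ps

theorem pick_mem {b t q : ℕ} (ht : dom t) (hq : dom q)
    (e : D.B (D.ph b) (D.ph q) = D.B (D.ph b) (D.ph t)) : ∀ (l : List ℕ),
    (∀ M ∈ l, ∃ v, Msk D b v M) → ∀ S : ℕ, S.testBit q = true → (pick l t S).testBit q = true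
  | [], _, _, h => h
  | M :: l, hl, S, h => by
    rw [show pick (M :: l) t S = @Bool.rec (fun _ => ℕ) (pick l t S) (Nat.land S M) (tb M t)
      from rfl, rec_ite, tb_eq]
    split_ifs with c
    · obtain ⟨v, hv⟩ := hl M (by simp)
      rw [land_eq, Nat.testBit_and, h, Bool.true_and, hv q hq, e, ← hv t ht, c]
    · exact pick_mem ht hq e l (fun M hM => hl M (by simp [hM])) S h

theorem inter_mem {t q : ℕ} (ht : dom t) (hq : dom q) : ∀ (ps : List (ℕ × List ℕ)),
    (∀ x ∈ ps, MskL D x) → (∀ b ∈ ps.map Prod.fst, D.B (D.ph b) (D.ph q) = D.B (D.ph b) (D.ph t)) →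
    ∀ S : ℕ, S.testBit q = true → (inter ps t S).testBit q = true
  | [], _, _, _, h => h
  | x :: ps, h1, h2, S, h => by
    rw [show inter (x :: ps) t S = lit (pick x.2 t S) (inter ps t) from rfl, lit_e]
    exact inter_mem ht hq ps (fun y hy => h1 y (by simp [hy])) (fun b hb => h2 b (by simp at hb ⊢; tauto))
      _ (pick_mem ht hq (h2 x.1 (by simp)) x.2 (h1 x (by simp)).2 S h)

theorem cls_inter {ps : List (ℕ × List ℕ)} (h : ∀ x ∈ ps, MskL D x) {t : ℕ} (ht : dom t) :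
    D.Cls (ps.map Prod.fst) t (inter ps t DOM) := fun q hq e =>
  inter_mem ht hq ps h e _ ((testBit_DOM q).2 hq)

/-- One level of a stabiliser chain. -/
noncomputable def chkLev (km : ℕ) (kp : ℕ → Net × ℕ) (hm : ℕ) (ps : List (ℕ × List ℕ)) (b : ℕ)
    (ws : List (List ℕ)) (r m : ℕ) : Bool :=
  and2 (tb DOM b) (and2 (allL ws fun w => and2 (inM km w) (and2 (inM hm w)
      (allL ps fun x => tb (spw kp w (bit x.1)) x.1)))
    (lit (inter ps b DOM) fun S => and2 (sub S DOM) (and2 (sub S (orbF (mapW kp ws) r (bit b)))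
      (and2 (Nat.beq (Nat.shiftRight S (Nat.pow 2 17)) 0) (Nat.beq (popc 17 S) m)))))

theorem Ctx.lev (hD : D.OK) (ht : D.Tr) {H : Subgroup GG} {hm : ℕ}
    (hH : ∀ c, hm.testBit c = true → C.e c ∈ H) {ps : List (ℕ × List ℕ)} (hp : ∀ x ∈ ps, MskL D x)
    {b r m : ℕ} {ws : List (List ℕ)} (h : chkLev C.km C.kp hm ps b ws r m = true) :
    (D.Fix (b :: ps.map Prod.fst) ≤ H → D.Fix (ps.map Prod.fst) ≤ H) ∧
      Nat.card (D.Fix (ps.map Prod.fst)) = m * Nat.card (D.Fix (b :: ps.map Prod.fst)) := by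
  simp only [chkLev, and2_true, lit_e, beq_true, allL_true] at h
  obtain ⟨h1, h2, h3, h4, h5, h6⟩ := h
  rw [tb_eq, testBit_DOM] at h1
  refine hD.step ht h1 (cls_inter hp h1) (by rw [ncard_bits h5, h6]) fun q hq => ?_
  have hd := (testBit_DOM q).1 (sub_true h3 hq)
  obtain ⟨k, hk, a⟩ := Ctx.cover (C := C) (H := H ⊓ D.Fix (ps.map Prod.fst)) (fun w hw =>
    ⟨(h2 w hw).1, mem_of_inM hH (h2 w hw).2.1, Ctx.mem (h2 w hw).1, fun b hb => by
      obtain ⟨x, hx, rfl⟩ := List.mem_map.1 hb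
      exact ((Ctx.pt (h2 w hw).1).rel (hp x hx).1 ((h2 w hw).2.2 x hx)).1⟩) h4 q hq hd
  exact ⟨hd, k, hk.1, hk.2, a.1⟩

/-- A point determined by its inner products. -/
noncomputable def chkRig (ps : List (ℕ × List ℕ)) (t : ℕ) : Bool :=
  and2 (tb DOM t) (Nat.beq (inter ps t DOM) (bit t))

theorem rig_fix {ps : List (ℕ × List ℕ)} (hp : ∀ x ∈ ps, MskL D x) {t : ℕ}
    (h : chkRig ps t = true) {g : GG} (hg : g ∈ D.Fix (ps.map Prod.fst)) : g • D.ph t = D.ph t := by
  rw [chkRig, and2_true, tb_eq, testBit_DOM, beq_true] at h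
  exact Cls.fix (h.2 ▸ cls_inter hp h.1) h.1 hg

theorem rig_le {ps : List (ℕ × List ℕ)} (hp : ∀ x ∈ ps, MskL D x) {x : ℕ × List ℕ}
    (h : chkRig ps x.1 = true) : D.Fix (ps.map Prod.fst) ≤ D.Fix ((x :: ps).map Prod.fst) :=
  fun g hg => by rw [List.map_cons, Fix_cons]; exact ⟨hg, rig_fix hp h hg⟩

theorem ph_even (k : ℕ) : D.ph (16 * k) = D.om k := by
  simpa using D.ph_mk k false

theorem Dat.OK.rel_P (hD : D.OK) (x : ℕ) {p : ℕ} (hp : dom p) : D.Rel (D.P x) p p := by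
  refine ⟨?_, _, PL_bv_pt _ x hp.2.1 hp.2.2⟩
  rw [ph, smul_smul']
  exact congrArg _ (PL_inA _ _ (hD.inA _))

theorem Dat.OK.QQ_le (hD : D.OK) {bs : List ℕ} : QQ D.cl ≤ D.Fix bs := by
  rintro _ ⟨x, rfl⟩
  refine ⟨hD.P_mem x, fun b _ => ?_⟩
  rw [ph, smul_smul']
  exact congrArg _ (PL_inA _ _ (hD.inA _))

theorem rig_QQ (hD : D.OK) (ht : D.Tr) {ps : List (ℕ × List ℕ)} (hp : ∀ x ∈ ps, MskL D x)
    (h : allN 44 (fun j => chkRig ps (Nat.mul 16 (Nat.add 4304 j))) = true) :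
    D.Fix (ps.map Prod.fst) ≤ QQ D.cl := fun g hg => by
  refine hD.ker ht hg.1 ?_
  have := hD.fixA (h := g) (a := 1) fun k h1 h2 => by
    have := rig_fix hp (allN_true.1 h (k - 4304) (by omega)) hg
    rw [Nat.mul_eq, Nat.add_eq, show 4304 + (k - 4304) = k by omega, ph_even] at this
    rw [this, one_smul]
  simpa using this

end H29.BP
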