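import Mathlib
import Cfsg.Agent.H29.BM.P4

/-!
# Classes of codes: the stabiliser of a class, the orbit of a class, counting
-/

set_option autoImplicit false
set_option linter.all false

namespace H29.BP
open H19 Finset H29.BE Dat

variable {D : Dat}

/-- Equality of classes. -/
def ce (x y : ℕ) : Prop := lo x = lo y ∧ hi x = hi y

theorem ce.symm {x y : ℕ} (h : ce x y) : ce y x := ⟨h.1.symm, h.2.symm⟩
theorem ce.trans {x y w : ℕ} (h : ce x y) (h' : ce y w) : ce x w := ⟨h.1.trans h'.1, h.2.trans h'.2⟩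
theorem ce.refl (x : ℕ) : ce x x := ⟨rfl, rfl⟩
theorem ce_zb (x : ℕ) (c : Bool) : ce (x ^^^ zb c) x := by simp [ce, lo_xor, hi_xor]
theorem ce.xor {x y x' y' : ℕ} (h : ce x y) (h' : ce x' y') : ce (x ^^^ x') (y ^^^ y') := by
  simp [ce, lo_xor, hi_xor, h.1, h.2, h'.1, h'.2]

theorem ce_iff {x y : ℕ} : ce x y ↔ ∀ r < 22, x.testBit r = y.testBit r := by
  constructor
  · intro h r hr
    by_cases c : r < 11
    · simpa [testBit_lo, c] using congrArg (fun a => a.testBit r) h.1
    · have := congrArg (fun a => a.testBit (r - 11)) h.2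
      simpa [testBit_hi, show r - 11 < 11 by omega, show 11 + (r - 11) = r by omega] using this
  · intro h
    constructor
    · exact Nat.eq_of_testBit_eq fun j => by
        by_cases c : j < 11 <;> simp [testBit_lo, c]; exact h j (by omega)
    · exact Nat.eq_of_testBit_eq fun j => by
        by_cases c : j < 11 <;> simp [testBit_hi, c]; exact h _ (by omega)

theorem ceq_iff {x y : ℕ} : ceq x y = true ↔ ce x y := by
  have h2 : ∀ r, Nat.testBit (nat_lit 4194303) r = decide (r < 22) := fun r => by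
    rw [show nat_lit 4194303 = 2 ^ 22 - 1 from rfl, Nat.testBit_two_pow_sub_one]
  rw [ce_iff, ceq, beq_true]
  constructor
  · intro h r hr
    have := congrArg (fun a => Nat.testBit a r) h
    simp only [land_eq, xor_eq, Nat.testBit_and, Nat.testBit_xor, Nat.zero_testBit] at this
    rw [h2, decide_eq_true hr, Bool.and_true] at this
    cases h1 : x.testBit r <;> cases h2 : y.testBit r <;> simp_all
  · intro h
    refine Nat.eq_of_testBit_eq fun r => ?_
    simp only [land_eq, xor_eq, Nat.testBit_and, Nat.testBit_xor, Nat.zero_testBit]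
    rw [h2]
    by_cases c : r < 22
    · simp [h r c]
    · simp [c]

theorem ce.P {x y : ℕ} (h : ce x y) : ∃ c, D.P x = D.P (y ^^^ zb c) := P_of_bits (ce_iff.1 h)

theorem CRel.right {h : GG} {x y y' : ℕ} (a : CRel D h x y) (e : ce y y') : CRel D h x y' := by
  obtain ⟨c, a⟩ := a
  obtain ⟨d, b⟩ := ((ce_zb y c).trans e).P (D := D)
  exact ⟨d, by rw [a, b]⟩

theorem CRel.left {h : GG} (hz : h * D.z = D.z * h) {x x' y : ℕ} (a : CRel D h x y) (e : ce x x') :
    CRel D h x' y := by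
  have hz' : h⁻¹ * D.z = D.z * h⁻¹ := by
    rw [inv_mul_eq_iff_eq_mul, ← mul_assoc, hz, mul_inv_cancel_right]
  simpa using ((a.inv hz).right e).inv hz'

theorem CRel.uniq' {h : GG} (hz : h * D.z = D.z * h) {x x' y : ℕ} (a : CRel D h x y)
    (b : CRel D h x' y) : ce x x' := (a.inv hz).uniq (b.inv hz)

theorem ce_mul (x y : ℕ) : ce (mul x y) (x ^^^ y) := ce_zb _ _

theorem CRel.xor {h : GG} (hz : h * D.z = D.z * h) {x y x' y' : ℕ} (a : CRel D h x y)
    (b : CRel D h x' y') : CRel D h (x ^^^ x') (y ^^^ y') := by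
  obtain ⟨c, a⟩ := a
  obtain ⟨d, b⟩ := b
  have : CRel D h (BP.mul x x') (BP.mul (y ^^^ zb c) (y' ^^^ zb d)) := ⟨false, by
    simp only [Dat.P] at a b ⊢
    rw [← Pu_mul, mul_assoc, b, ← mul_assoc, a, mul_assoc, Pu_mul]; simp⟩
  exact (this.left hz (ce_mul _ _)).right ((ce_mul _ _).trans ((ce_zb _ _).xor (ce_zb _ _)))

theorem CRel.one (x : ℕ) : CRel D 1 x x := ⟨false, by simp⟩
theorem CRel.zero (h : GG) : CRel D h 0 0 := ⟨false, by simp [Dat.P, Pu_zero]⟩
theorem CRel.neg (x : ℕ) : CRel D (-1) x x := ⟨false, by simpa using (neg_one_comm _).symm⟩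

theorem act_of_rel {h : GG} (hh : h ∈ D.KK) {p q : ℕ} (hp : dom p) (hq : dom q) (a : D.Rel h p q) :
    ∃ s1 s2, D.Act h (q / 16) (p / 16) s1 s2 := by
  obtain ⟨k', hk', s1, s2, b⟩ := hh.act _ hq.2
  obtain ⟨-, s, a⟩ := a
  rw [b.e] at a
  obtain rfl := (bv_smul_inj (sn_ne _) (by have := hk'.2; omega) a).1
  exact ⟨s1, s2, b⟩

theorem Dat.Act.crel {h : GG} (hz : h * D.z = D.z * h) {k k' : ℕ} {s1 s2 : Bool}
    (a : D.Act h k k' s1 s2) : CRel D h (D.cl k') (D.cl k) :=
  CRel.left hz ⟨false, by simpa using a.cj.symm⟩ (ce_zb _ _)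

theorem crel_of_rel {h : GG} (hh : h ∈ D.KK) {p q : ℕ} (hp : dom p) (hq : dom q)
    (a : D.Rel h p q) : CRel D h (D.cl (p / 16)) (D.cl (q / 16)) := by
  obtain ⟨s1, s2, b⟩ := act_of_rel hh hp hq a
  exact b.crel hh.comm

/-- The class `x` is the class of no point but `j`. -/
noncomputable def only (cl : ℕ → ℕ) (x j : ℕ) : Bool :=
  allN 2300 fun i => lit (Nat.add 2048 i) fun k => Bool.rec true (Nat.beq k j) (ceq (cl k) x)

theorem only_sound {cl : ℕ → ℕ} {x j : ℕ} (h : only cl x j = true) {k : ℕ} (hk : pt k)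
    (e : ce (cl k) x) : k = j := by
  have := allN_true.1 h (k - 2048) (by have := hk.2; omega)
  rw [lit_e, Nat.add_eq, show 2048 + (k - 2048) = k by have := hk.1; omega, ceq_iff.2 e] at this
  exact beq_true.1 this

theorem dom_even {k : ℕ} (hk : pt k) : dom (16 * k) := by simpa using dom_mk hk false
theorem div_even (k : ℕ) : 16 * k / 16 = k := by omega

theorem cl_inj_of_tr (ht : D.Tr) (h : only D.cl (D.cl 4304) 4304 = true) {j k : ℕ} (hj : pt j)
    (hk : pt k) (e : ce (D.cl j) (D.cl k)) : j = k := by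
  obtain ⟨g, hg, a⟩ := ht k hk
  have p0 : pt 4304 := ⟨by omega, by omega⟩
  have b := crel_of_rel hg (dom_even hk) (dom_even p0) a
  rw [div_even, div_even] at b
  obtain ⟨j', hj', s1, s2, c⟩ := (D.KK.inv_mem hg).act j hj
  have c' := (c.inv (D.KK.inv_mem hg).comm)
  rw [inv_inv] at c'
  obtain rfl := only_sound h hj' (((c'.crel hg.comm).left hg.comm e).uniq b)
  obtain ⟨-, s, a⟩ := a
  rw [div_even, div_even, c'.e] at a
  exact (bv_smul_inj (sn_ne _) (by have := hj.2; omega) a).1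

/-- The stabiliser of the class `y`. -/
theorem stab_le (hD : D.OK) {N : Subgroup GG} {y : ℕ} (hN : ∀ n ∈ N, n ∈ D.KK ∧ CRel D n y y)
    (hf : D.Fix [16 * 4305, 16 * 4304] ≤ N)
    (cov : ∀ p, dom p → ∃ n ∈ N, D.Rel n p (16 * 2048) ∨ D.Rel n p (16 * 3072) ∨
      D.Rel n p (16 * 4304))
    (o1 : only D.cl (D.cl 2048 ^^^ y) 0 = true) (o2 : only D.cl (D.cl 3072 ^^^ y) 0 = true)
    (o3 : ceq (D.cl 4304 ^^^ y) (D.cl 4305) = true) {h : GG} (hh : h ∈ D.KK) (hy : CRel D h y y) :
    h ∈ N := by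
  have p0 : pt 4304 := ⟨by omega, by omega⟩
  have p1 : pt 4305 := ⟨by omega, by omega⟩
  obtain ⟨p, hp, a⟩ := exists_ph hh (dom_even p0)
  obtain ⟨n, hn, b⟩ := cov p hp
  have hg : n⁻¹ * h ∈ D.KK := D.KK.mul_mem (D.KK.inv_mem (hN n hn).1) hh
  have gy : CRel D (n⁻¹ * h) y y := ((hN n hn).2.inv (hN n hn).1.comm).mul hh.comm hy
  obtain ⟨q, hq, c⟩ := exists_ph hg (dom_even p1)
  have key : ∀ k, pt k → D.Rel n p (16 * k) → ce (D.cl (q / 16)) (D.cl k ^^^ y) := fun k hk b => by
    have c1 := crel_of_rel hg (dom_even hk) (dom_even p0) (b.inv.mul a)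
    have c2 := crel_of_rel hg hq (dom_even p1) c
    rw [div_even] at c2
    rw [div_even, div_even] at c1
    exact c2.uniq' hg.comm ((c1.xor hg.comm gy).right (ceq_iff.1 o3))
  suffices n⁻¹ * h ∈ N by simpa using N.mul_mem hn this
  rcases b with b | b | b
  · have := only_sound o1 hq.2 (key _ ⟨by omega, by omega⟩ b); have := hq.2.1; omega
  · have := only_sound o2 hq.2 (key _ ⟨by omega, by omega⟩ b); have := hq.2.1; omega
  have e := (key _ p0 b).trans (ceq_iff.1 o3)
  have e1 := hD.cl_inj _ _ hq.2 p1 e.1 e.2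
  have f0 := (b.inv.mul a).1
  refine hf ⟨hg, ?_⟩
  obtain ⟨k, s, hk, rfl⟩ := dom_cases hq
  obtain rfl : k = 4305 := by rw [← e1]; cases s <;> simp <;> omega
  have f1 := c.1
  have := hg.iso (D.ph (16 * 4304)) (D.ph (16 * 4305))
  rw [f0, f1, ph_mk, ph_even, ph_even, B, form_smul_right] at this
  have h3 : sn s = sn false := mul_right_cancel₀ (hD.B_bc (k := 4305) (by omega) (by omega))
    (by simpa [B] using this)
  rw [sn_inj h3] at f1
  simpa using ⟨f1, f0⟩

/-! ### A list of classes in bit planes -/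

/-- The linear map with the table `M`. -/
noncomputable def xs (M x n : ℕ) : ℕ :=
  Nat.rec (motive := fun _ => ℕ) 0 (fun r ih => if x.testBit r then f32 M r ^^^ ih else ih) n

theorem crel_xs {h : GG} (hz : h * D.z = D.z * h) {M : ℕ}
    (hM : ∀ r < 22, CRel D h (2 ^ r) (f32 M r)) (x : ℕ) : CRel D h x (xs M x 22) := by
  have : ∀ n ≤ 22, CRel D h (x % 2 ^ n) (xs M x n) := by
    intro n hn
    induction n with
    | zero => simpa [Nat.mod_one, xs] using CRel.zero h
    | succ i ih =>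
      rw [mod_succ_bit, show xs M x (i + 1) = if x.testBit i then f32 M i ^^^ xs M x i else xs M x i
        from rfl]
      split_ifs
      · exact (hM i (by omega)).xor hz (ih (by omega))
      · exact ih (by omega)
  exact (this 22 le_rfl).left hz (ce_iff.2 fun r hr => by
    rw [Nat.testBit_mod_two_pow, decide_eq_true hr, Bool.true_and])

noncomputable def xp (pl : List ℕ) (M j n : ℕ) : ℕ :=
  Nat.rec (motive := fun _ => ℕ) 0
    (fun r ih => @Bool.rec (fun _ => ℕ) ih (Nat.xor (nth 0 pl r) ih) (tb (f32 M r) j)) n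

theorem testBit_val : ∀ (pl : List ℕ) (i r : ℕ), (val pl i).testBit r = (nth 0 pl r).testBit i
  | [], i, r => by simp [val, nth_eq]
  | a :: pl, i, 0 => by
    rw [val, nth_eq, Nat.testBit_zero]
    cases h : a.testBit i <;> simp [h] <;> omega
  | a :: pl, i, r + 1 => by
    rw [val, Nat.testBit_succ, show ((a.testBit i).toNat + 2 * val pl i) / 2 = val pl i by
      cases a.testBit i <;> simp <;> omega, testBit_val pl i r, nth_eq, nth_eq]
    rfl

theorem testBit_xp (pl : List ℕ) (M j i : ℕ) : ∀ n,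
    (xp pl M j n).testBit i = (xs M (val pl i) n).testBit j
  | 0 => by simp [xp, xs]
  | r + 1 => by
    rw [show xp pl M j (r + 1) = @Bool.rec (fun _ => ℕ) (xp pl M j r)
      (Nat.xor (nth 0 pl r) (xp pl M j r)) (tb (f32 M r) j) from rfl,
      show xs M (val pl i) (r + 1) = if (val pl i).testBit r then f32 M r ^^^ xs M (val pl i) r
        else xs M (val pl i) r from rfl, rec_ite, tb_eq, testBit_val]
    have ih := testBit_xp pl M j i r
    split_ifs with c1 c2 c2 <;> simp_all [xor_eq]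

/-- `h` acts on the list of classes as the network `a`. -/
def LNet (D : Dat) (pl : List ℕ) (N : ℕ) (h : GG) (a : Net) : Prop :=
  a.valid 65536 = true ∧ ∀ i, (a.perm i < N ↔ i < N) ∧ CRel D h (val pl i) (val pl (a.perm i))

noncomputable def chkL (pl : List ℕ) (N M : ℕ) (a : Net) : Bool :=
  and2 (a.valid 65536) (and2 (Nat.beq (a.pull (ones N)) (ones N))
    (allN 22 fun j => Nat.beq (a.pull (nth 0 pl j)) (xp pl M j 22)))

theorem lnet_of_chk {pl : List ℕ} {N M : ℕ} {a : Net} (c : chkL pl N M a = true) {h : GG}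
    (hz : h * D.z = D.z * h) (hM : ∀ r < 22, CRel D h (2 ^ r) (f32 M r)) : LNet D pl N h a := by
  simp only [chkL, and2_true, beq_true, allN_true] at c
  obtain ⟨c1, c2, c3⟩ := c
  refine ⟨c1, fun i => ⟨?_, (crel_xs hz hM _).right (ce_iff.2 fun r hr => ?_)⟩⟩
  · have := congrArg (fun x => Nat.testBit x i) c2
    simpa [Net.testBit_pull c1, testBit_ones] using this
  · rw [← testBit_xp, ← c3 r hr, Net.testBit_pull c1, testBit_val]

noncomputable def chkLw (km : ℕ) (cm : ℕ → ℕ) (w : List ℕ) (M : ℕ) : Bool :=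
  and2 (inM km w) (allN 22 fun r => ceq (cw cm w (bit r)) (f32 M r))

theorem Ctx.lnet {C : Ctx D} {pl : List ℕ} {N M : ℕ} {a : Net} (c : chkL pl N M a = true)
    {w : List ℕ} (c' : chkLw C.km C.cm w M = true) : LNet D pl N (ev C.e w) a := by
  simp only [chkLw, and2_true, allN_true] at c'
  refine lnet_of_chk c (Ctx.mem c'.1).comm fun r hr => ?_
  have := Ctx.crel c'.1 (c'.2 r hr)
  rwa [bit, shl_eq, Nat.one_shiftLeft] at this

/-- The elements that permute the list of classes. -/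
def HL (D : Dat) (pl : List ℕ) (N : ℕ) : Subgroup GG where
  carrier := {h | h * D.z = D.z * h ∧ (∀ i < N, ∃ j < N, CRel D h (val pl i) (val pl j)) ∧
    ∀ j < N, ∃ i < N, CRel D h (val pl i) (val pl j)}
  one_mem' := ⟨by simp, fun i hi => ⟨i, hi, CRel.one _⟩, fun i hi => ⟨i, hi, CRel.one _⟩⟩
  mul_mem' := by
    rintro a b ⟨a0, a1, a2⟩ ⟨b0, b1, b2⟩
    refine ⟨by rw [mul_assoc, b0, ← mul_assoc, a0, mul_assoc], fun i hi => ?_, fun i hi => ?_⟩
    · obtain ⟨j, hj, c⟩ := a1 i hi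
      obtain ⟨k, hk, d⟩ := b1 j hj
      exact ⟨k, hk, c.mul b0 d⟩
    · obtain ⟨j, hj, c⟩ := b2 i hi
      obtain ⟨k, hk, d⟩ := a2 j hj
      exact ⟨k, hk, d.mul b0 c⟩
  inv_mem' := by
    rintro a ⟨a0, a1, a2⟩
    refine ⟨by rw [inv_mul_eq_iff_eq_mul, ← mul_assoc, a0, mul_inv_cancel_right],
      fun i hi => ?_, fun i hi => ?_⟩
    · obtain ⟨j, hj, c⟩ := a2 i hi
      exact ⟨j, hj, c.inv a0⟩
    · obtain ⟨j, hj, c⟩ := a1 i hi
      exact ⟨j, hj, c.inv a0⟩

theorem LNet.mem {pl : List ℕ} {N : ℕ} {h : GG} {a : Net} (c : LNet D pl N h a)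
    (hz : h * D.z = D.z * h) : h ∈ HL D pl N :=
  ⟨hz, fun i hi => ⟨_, (c.2 i).1.2 hi, (c.2 i).2⟩, fun j hj =>
    ⟨a.perm⁻¹ j, (c.2 _).1.1 (by simpa using hj), by simpa using (c.2 (a.perm⁻¹ j)).2⟩⟩

theorem mem_HL {pl : List ℕ} {N : ℕ} {h : GG} (hz : h * D.z = D.z * h) (c : ∀ x, CRel D h x x) :
    h ∈ HL D pl N := ⟨hz, fun i hi => ⟨i, hi, c _⟩, fun i hi => ⟨i, hi, c _⟩⟩

noncomputable def mapN (l : List Net) : List (ℕ → ℕ) :=
  List.rec (motive := fun _ => List (ℕ → ℕ)) [] (fun a _ ih => a.pull :: ih) l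

theorem mapN_eq : ∀ l, mapN l = l.map Net.pull
  | [] => rfl
  | a :: l => by rw [List.map_cons, ← mapN_eq l]; rfl

theorem lcover {pl : List ℕ} {N : ℕ} {H : Subgroup GG} (hH : H ≤ D.KK) {l : List Net}
    (hl : ∀ a ∈ l, ∃ h ∈ H, LNet D pl N h a) {b r S : ℕ}
    (hc : sub S (orbF (mapN l) r (bit b)) = true) (i : ℕ) (hi : S.testBit i = true) :
    ∃ h ∈ H, CRel D h (val pl b) (val pl i) := by
  refine Pres.cover (Q := fun i => ∃ h ∈ H, CRel D h (val pl b) (val pl i)) ?_
    ⟨1, H.one_mem, CRel.one _⟩ hc i hi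
  intro f hf
  rw [mapN_eq] at hf
  obtain ⟨a, ha, rfl⟩ := List.mem_map.1 hf
  obtain ⟨g, hg, c⟩ := hl a ha
  intro S hS p hp
  rw [Net.testBit_pull c.1] at hp
  obtain ⟨h, hh, d⟩ := hS _ hp
  exact ⟨h * g⁻¹, H.mul_mem hh (H.inv_mem hg),
    d.mul (hH (H.inv_mem hg)).comm ((c.2 p).2.inv (hH hg).comm)⟩

noncomputable def shP (pl : List ℕ) : List ℕ :=
  List.rec (motive := fun _ => List ℕ) [] (fun a _ ih => Nat.shiftRight a 1 :: ih) pl

theorem shP_spec : ∀ pl : List ℕ, (shP pl).length = pl.length ∧ ∀ i, val (shP pl) i = val pl (i + 1)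
  | [] => ⟨rfl, fun _ => rfl⟩
  | a :: pl => by
    rw [show shP (a :: pl) = Nat.shiftRight a 1 :: shP pl from rfl]
    refine ⟨by simp [(shP_spec pl).1], fun i => ?_⟩
    rw [val, val, (shP_spec pl).2, shr_eq, Nat.testBit_shiftRight, add_comm 1 i]

theorem val_inj {pl : List ℕ} {N : ℕ} (hl : pl.length = 22)
    (h : sub (ones N) (ltP pl (shP pl)) = true) {i j : ℕ} (hi : i < N + 1) (hj : j < N + 1)
    (e : ce (val pl i) (val pl j)) : i = j := by
  have h1 : ∀ i < N, val pl i < val pl (i + 1) := fun i hi => by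
    have := sub_true h (i := i) (by simpa [testBit_ones] using hi)
    rwa [testBit_ltP (shP_spec pl).1.symm, (shP_spec pl).2, decide_eq_true_eq] at this
  have h2 : ∀ j < N + 1, ∀ i < j, val pl i < val pl j := by
    intro j hj
    induction j with
    | zero => intro i hi; omega
    | succ j ih =>
      intro i hi
      have := h1 j (by omega)
      rcases Nat.lt_succ_iff_lt_or_eq.1 hi with c | rfl
      · exact (ih (by omega) i c).trans this
      · exact this
  have h3 : val pl i = val pl j := Nat.eq_of_testBit_eq fun r => by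
    by_cases c : r < 22
    · exact ce_iff.1 e r c
    · rw [testBit_val, testBit_val, nth_eq, List.getD_eq_default _ _ (by omega)]; simp
  rcases lt_trichotomy i j with c | c | c
  · have := h2 j hj i c; omega
  · exact c
  · have := h2 i hi j c; omega

/-! ### Counting -/

theorem card_fib {α β : Type} [Finite α] (f : α → β) (S : Set β) (n : ℕ) (hn : n ≠ 0)
    (h : ∀ y ∈ S, Nat.card {x // f x = y} = n) : Nat.card {x // f x ∈ S} = Nat.card S * n := by
  have e : {x // f x ∈ S} ≃ Σ y : S, {x // f x = y} :=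
    { toFun := fun x => ⟨⟨f x.1, x.2⟩, ⟨x.1, rfl⟩⟩
      invFun := fun y => ⟨y.2.1, by rw [y.2.2]; exact y.1.2⟩
      left_inv := fun _ => rfl
      right_inv := by
        rintro ⟨⟨y, hy⟩, ⟨x, hx⟩⟩
        change f x = y at hx
        subst hx; rfl }
  have : Finite S := by
    have : S ⊆ Set.range f := fun y hy => by
      obtain ⟨x, hx⟩ := (Nat.card_pos_iff.1 (by rw [h y hy]; omega : 0 < Nat.card {x // f x = y})).1
      exact ⟨x, hx⟩
    exact (Set.finite_range f).subset this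
  have := Fintype.ofFinite S
  rw [Nat.card_congr e, Nat.card_sigma, sum_congr rfl fun (y : S) _ => h y y.2]
  simp

theorem card_orb_cnt {G X : Type} [Group G] [MulAction G X] (K : Subgroup G) [Finite K] (w : X)
    (A : Set X) : Nat.card {k : K // k • w ∈ A} * Nat.card (MulAction.orbit K w) =
      Nat.card ↥(MulAction.orbit K w ∩ A) * Nat.card K := by
  have h1 : Nat.card {k : K // k • w ∈ A} = Nat.card {k : K // k • w ∈ MulAction.orbit K w ∩ A} :=
    Nat.card_congr (Equiv.subtypeEquivRight fun k => by simp)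
  rw [h1, card_fib (fun k : K => k • w) _ (Nat.card (MulAction.stabilizer K w)) Nat.card_pos.ne',
    ← Nat.card_congr (MulAction.orbitProdStabilizerEquivGroup K w), Nat.card_prod]
  · ring
  · rintro _ ⟨⟨g, rfl⟩, -⟩
    refine Nat.card_congr (Equiv.subtypeEquiv (Equiv.mulLeft g⁻¹) fun k => ?_)
    simp [mul_smul, inv_smul_eq_iff]

end H29.BP
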