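import Mathlib
import Cfsg.Agent.H29.BM.P5

/-!
# More checks: letters of the extraspecial group, base masks, axes
-/

set_option autoImplicit false
set_option linter.all false

namespace H29.BP
open H19 Finset H29.BE Dat

def dotK (a b : ℕ) : ℕ :=
  Nat.land (Nat.shiftRight PT (Nat.land (Nat.land a b) (nat_lit 2047))) (nat_lit 1)

theorem dotK_eq (a b : ℕ) : dotK a b = (dot (lo a) (lo b)).toNat := by
  have e : Nat.land (Nat.land a b) (nat_lit 2047) = lo a &&& lo b := by
    rw [land_eq, land_eq, show nat_lit 2047 = 2 ^ 11 - 1 from rfl]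
    apply Nat.eq_of_testBit_eq
    intro i
    simp only [Nat.testBit_and, Nat.testBit_two_pow_sub_one, testBit_lo]
    cases decide (i < 11) <;> simp
  rw [dotK, e, dot]
  exact PT_spec _ (lt_of_le_of_lt Nat.and_le_left (lo_lt a))

noncomputable def chkPau (cl : ℕ → ℕ) (x F : ℕ) : Bool :=
  lit (Nat.shiftRight x 11) fun y => lit (Nat.land x 2047) fun l =>
  lit (Nat.land (Nat.shiftRight x 22) 1) fun c => allN 4371 fun k => Nat.beq (fld F k)
    (@Bool.rec (fun _ => ℕ) (Nat.add (Nat.xor k l) (Nat.mul (Nat.xor c (dotK y k)) 32768))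
      (@Bool.rec (fun _ => ℕ) (lit (cl k) fun a =>
        Nat.add k (Nat.mul (Nat.xor (dotK x (Nat.shiftRight a 11)) (dotK y a)) 32768)) k
        (Nat.ble 4348 k)) (Nat.ble 2048 k))

theorem toNat_xor (a b : Bool) : Nat.xor a.toNat b.toNat = (xor a b).toNat := by
  cases a <;> cases b <;> rfl

theorem chkPau_sound {cl : ℕ → ℕ} {x F : ℕ} {m : Mon} (hm : m.OK 4371)
    (hF : ∀ k < 4371, ent 16 F k = fidx m.net k + if m.sg.testBit (16 * k + 15) then 32768 else 0)
    (h : chkPau cl x F = true) : m.lin 4371 = PL cl x := by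
  simp only [chkPau, lit_e, allN_true, beq_true, ble_ite, fld_eq, dotK_eq] at h
  have key : ∀ k < 4371, ∀ (j : ℕ) (b : Bool), j < 4371 →
      ent 16 F k = Nat.add j (Nat.mul b.toNat 32768) → fidx m.net k = j ∧ m.sgn k = sn b := by
    intro k hk j b hj e
    have := hm.net.lt k hk
    rw [hF k hk, Nat.add_eq, Nat.mul_eq] at e
    rw [Mon.sgn]
    generalize m.sg.testBit (16 * k + 15) = a at e ⊢
    have : ∀ a : Bool, (if a = true then 32768 else 0) = a.toNat * 32768 := by decide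
    rw [this] at e
    have h1 := a.toNat_le
    have h2 := b.toNat_le
    have h3 : a.toNat = b.toNat := by omega
    exact ⟨by omega, by cases a <;> cases b <;> first | rfl | exact absurd h3 (by decide)⟩
  have e1 : Nat.land x 2047 = lo x := by
    rw [land_eq, show 2047 = 2 ^ 11 - 1 from rfl, Nat.and_two_pow_sub_one_eq_mod]; rfl
  have e2 : Nat.land (Nat.shiftRight x 22) 1 = (zc x).toNat := by
    rw [zc, ← tb_eq, tb, show nat_lit 1 = 1 from rfl, land_eq, Nat.and_one_is_mod]
    rcases Nat.mod_two_eq_zero_or_one (Nat.shiftRight x 22) with h | h <;> rw [h] <;> rfl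
  have e3 : ∀ a, lo (Nat.shiftRight a 11) = hi a := fun _ => rfl
  refine LinearMap.ext fun v => eq_of_ext fun k hk => ?_
  have := h k hk
  rw [ext_mlin _ _ hk, ext_PL _ _ _ hk, Pf]
  by_cases c1 : k < 2048
  · rw [if_neg (by omega), e1, e2, e3, toNat_xor, show lo k = k from Nat.mod_eq_of_lt c1] at this
    obtain ⟨a, b⟩ := key k hk _ _ (by have := xor_lo_lt c1 x; rw [xor_eq]; omega) this
    rw [if_pos c1, a, b]; rfl
  · rw [if_pos (by omega)] at this
    rw [if_neg c1]
    by_cases c2 : k < 4348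
    · rw [if_neg (by omega), e3, e3, toNat_xor] at this
      obtain ⟨a, b⟩ := key k hk _ _ hk this
      rw [if_pos c2, a, b]; rfl
    · rw [if_pos (by omega)] at this
      obtain ⟨a, b⟩ := key k hk k false hk this
      rw [if_neg c2, a, b]; simp

variable {D : Dat}

theorem P_mem_of_ce {H : Subgroup GG} (hz : D.z ∈ H) {x y : ℕ} (e : ce x y) (h : D.P y ∈ H) :
    D.P x ∈ H := by
  obtain ⟨c, hc⟩ := e.P (D := D)
  rw [hc, Dat.P, ← Pu_zb_mul]
  refine H.mul_mem ?_ h
  cases c
  · simp [Pu_zero]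
  · exact hz

noncomputable def xorL (cl : ℕ → ℕ) (l : List ℕ) : ℕ :=
  List.rec (motive := fun _ => ℕ) 0 (fun a _ ih => Nat.xor (cl a) ih) l

theorem P_xorL {H : Subgroup GG} (hz : D.z ∈ H) {f : ℕ → ℕ} : ∀ l : List ℕ,
    (∀ k ∈ l, D.P (f k) ∈ H) → D.P (xorL f l) ∈ H
  | [], _ => by simp [xorL, Dat.P, Pu_zero]
  | a :: l, h => by
    have := H.mul_mem (h a (by simp)) (P_xorL hz l fun k hk => h k (by simp [hk]))
    rw [Dat.P, Dat.P, Pu_mul] at this
    exact P_mem_of_ce hz (ce_mul _ _).symm this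

noncomputable def chkGen (cl : ℕ → ℕ) (ls : List (List ℕ)) : Bool :=
  allN 22 fun i => and2 (allL (nth [] ls i) fun k => and2 (Nat.ble 2048 k) (Nat.ble k 4347))
    (ceq (bit i) (xorL cl (nth [] ls i)))

theorem gen_of_chk {ls : List (List ℕ)} (h : chkGen D.cl ls = true) : ∀ i < 22, D.P (2 ^ i) ∈
    Subgroup.closure ({D.z} ∪ {g | ∃ k, pt k ∧ g = D.P (D.cl k)}) := fun i hi => by
  have := allN_true.1 h i hi
  simp only [and2_true, allL_true, ble_true, ceq_iff, bit, shl_eq, Nat.one_shiftLeft] at this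
  have hz : D.z ∈ Subgroup.closure ({D.z} ∪ {g | ∃ k, pt k ∧ g = D.P (D.cl k)}) :=
    Subgroup.subset_closure (Or.inl rfl)
  exact P_mem_of_ce hz this.2 (P_xorL hz _ fun k hk => Subgroup.subset_closure
    (Or.inr ⟨k, ⟨(this.1 k hk).1, by have := (this.1 k hk).2; omega⟩, rfl⟩))

noncomputable def beqB (a b : Bool) : Bool := @Bool.rec (fun _ => Bool) (Bool.rec true false b) b a

theorem beqB_true {a b : Bool} (h : beqB a b = true) : a = true ↔ b = true := by
  cases a <;> cases b <;> simp_all [beqB]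

noncomputable def chkM0 (A B d M : ℕ) : Bool :=
  allN 2300 fun j => lit (Nat.add 2048 j) fun k => lit (fld A k) fun a => lit (fld B k) fun b =>
    lit (Nat.land (fld M k) 3) fun m => and2 (beqB (tb m 0) (Nat.beq a (Nat.add b d)))
      (beqB (tb m 1) (Nat.beq b (Nat.add a d)))

theorem msk_base {A B d M b : ℕ} {ε : ℚ} (hε : ε ≠ 0)
    (hB : ∀ k, pt k → D.B (D.ph b) (D.om k) = ε * ((fld A k : ℚ) - fld B k))
    (h : chkM0 A B d M = true) : Msk D b (ε * d) M := fun q hq => by
  obtain ⟨k, s, hk, rfl⟩ := dom_cases hq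
  have := allN_true.1 h (k - 2048) (by have := hk.2; omega)
  simp only [lit_e, Nat.add_eq, show 2048 + (k - 2048) = k by have := hk.1; omega, and2_true,
    tb_eq] at this
  have t : ∀ r < 2, (Nat.land (fld M k) 3).testBit r = M.testBit (16 * k + r) := fun r hr => by
    rw [land_eq, Nat.testBit_and, fld_eq, testBit_ent]
    have : Nat.testBit 3 r = true := by interval_cases r <;> rfl
    rw [this, decide_eq_true (by omega : r < 16)]; simp
  rw [ph_mk, Dat.B, form_smul_right, ← Dat.B, hB k hk]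
  cases s
  · rw [← t _ (by simp), Bool.toNat_false, beqB_true this.1, beq_true, sn_false, one_mul,
      mul_right_inj' hε, sub_eq_iff_eq_add']
    exact_mod_cast Iff.rfl
  · rw [← t _ (by simp), Bool.toNat_true, beqB_true this.2, beq_true, sn_true, neg_one_mul, ← mul_neg,
      mul_right_inj' hε, neg_sub, sub_eq_iff_eq_add']
    exact_mod_cast Iff.rfl

/-! ### The axes of the points -/

/-- The vector `± om ± 64 e`. -/
noncomputable def x1 (D : Dat) (p : ℕ) (c : Bool) : VV :=
  D.ph p + sn c • (64 : ℚ) • bv 4371 (p / 16)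

theorem Dat.Rel.x1 {h : GG} {p q : ℕ} (a : D.Rel h p q) :
    ∃ s, ∀ c, h • x1 D q c = x1 D p (xor c s) := by
  obtain ⟨a1, s, a2⟩ := a
  refine ⟨s, fun c => ?_⟩
  rw [BP.x1, smul_add', a1, smul_smul', smul_smul', a2, BP.x1, sn_xor, smul_comm (64 : ℚ), smul_smul]

noncomputable def xr (Ψ : ℕ → ℕ) (k v : ℕ) (i : ℕ) : ℕ :=
  @Bool.rec (fun _ => ℕ) (@Bool.rec (fun _ => ℕ) 128 v (Nat.beq i k))
    (fld (Ψ (Nat.sub i 4348)) k) (Nat.ble 4348 i)

theorem vec_xr {Ψ : ℕ → ℕ} (hD : D.om = omv 4371 Ψ) {k : ℕ} (hk : k < 4348) (c : Bool) :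
    vec 4371 (2 ^ 7) (xr Ψ k (if c then 64 else 192)) = x1 D (16 * k) c := by
  refine eq_of_ext fun i hi => ?_
  rw [ext_vec _ hi, x1, ph_even, div_even, hD, ext_add, ext_smul, ext_smul]
  simp only [Pi.add_apply, Pi.smul_apply, ext_omv _ _ hi, ext_bv hi, xr, rec_ite, beq_true, ble_true]
  by_cases c1 : 4348 ≤ i
  · rw [if_pos c1, if_pos c1, if_neg (by omega)]; simp
  · rw [if_neg c1, if_neg c1]
    cases c <;> split_ifs <;> simp_all <;> norm_num

end H29.BP
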